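import Mathlib

/-!
# The action of the centraliser of an involution of `Fin n` on its transpositions

`pairSet σ` is the set of the pairs `{i, σ i}` with `σ i ≠ i`.
-/

set_option autoImplicit false
set_option linter.style.haveILetI false

namespace CfsgLib.AltTwoCent.Pairs

open Equiv Equiv.Perm

variable {n : ℕ}

/-- The transpositions of an involution. -/
def pairSet (σ : Perm (Fin n)) : Finset (Sym2 (Fin n)) := σ.support.image fun i => s(i, σ i)

theorem mem_pairSet {σ : Perm (Fin n)} {q : Sym2 (Fin n)} :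
    q ∈ pairSet σ ↔ ∃ i, σ i ≠ i ∧ s(i, σ i) = q := by
  simp [pairSet, Perm.mem_support]

/-- The pair of a moved point. -/
def pr {σ : Perm (Fin n)} (i : Fin n) (hi : σ i ≠ i) : ↥(pairSet σ) :=
  ⟨s(i, σ i), mem_pairSet.2 ⟨i, hi, rfl⟩⟩

theorem exists_pr {σ : Perm (Fin n)} (q : ↥(pairSet σ)) : ∃ (i : Fin n) (hi : σ i ≠ i), pr i hi = q := by
  obtain ⟨i, hi, e⟩ := mem_pairSet.1 q.2
  exact ⟨i, hi, Subtype.ext e⟩

theorem pr_eq {σ : Perm (Fin n)} (hσ : ∀ i, σ (σ i) = i) {i j : Fin n} {hi : σ i ≠ i}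
    {hj : σ j ≠ j} : pr i hi = pr j hj ↔ j = i ∨ j = σ i := by
  rw [pr, pr, Subtype.mk.injEq, Sym2.eq_iff]
  constructor
  · rintro (⟨h, -⟩ | ⟨h, h'⟩)
    · exact Or.inl h.symm
    · exact Or.inr (by rw [h, hσ])
  · rintro (rfl | rfl)
    · exact Or.inl ⟨rfl, rfl⟩
    · exact Or.inr ⟨(hσ i).symm, rfl⟩

theorem card_support_eq {σ : Perm (Fin n)} (hσ : ∀ i, σ (σ i) = i) :
    σ.support.card = (pairSet σ).card * 2 := by
  rw [← smul_eq_mul, ← Finset.sum_const]
  unfold pairSet
  rw [Finset.card_eq_sum_card_image (fun i => s(i, σ i)) σ.support]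
  refine Finset.sum_congr rfl fun q hq => ?_
  obtain ⟨i, hi, rfl⟩ := Finset.mem_image.1 hq
  rw [Perm.mem_support] at hi
  rw [Finset.card_eq_two]
  refine ⟨i, σ i, fun h => hi h.symm, ?_⟩
  ext j
  simp only [Finset.mem_filter, Perm.mem_support, Finset.mem_insert, Finset.mem_singleton,
    Sym2.eq_iff]
  constructor
  · rintro ⟨-, ⟨h, -⟩ | ⟨h, -⟩⟩
    · exact Or.inl h
    · exact Or.inr h
  · rintro (rfl | rfl)
    · exact ⟨hi, Or.inl ⟨rfl, rfl⟩⟩
    · exact ⟨fun h => hi (by rw [hσ] at h; exact h.symm), Or.inr ⟨rfl, hσ i⟩⟩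

theorem apply_comm {σ e : Perm (Fin n)} (h : Commute σ e) (i : Fin n) : σ (e i) = e (σ i) :=
  congrArg (fun f : Perm (Fin n) => f i) h.eq

theorem comm_mem {σ : Perm (Fin n)} (e : ↥(Subgroup.centralizer ({σ} : Set (Perm (Fin n))))) :
    Commute σ (e : Perm (Fin n)) :=
  (Subgroup.mem_centralizer_singleton_iff.1 e.2).symm

theorem moved {σ : Perm (Fin n)} (e : ↥(Subgroup.centralizer ({σ} : Set (Perm (Fin n))))) {i : Fin n}
    (hi : σ i ≠ i) : σ ((e : Perm (Fin n)) i) ≠ (e : Perm (Fin n)) i := by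
  rw [apply_comm (comm_mem e)]
  exact fun h => hi ((e : Perm (Fin n)).injective h)

/-- The map on pairs induced by an element of the centraliser. -/
def pairMap (σ : Perm (Fin n)) (e : ↥(Subgroup.centralizer ({σ} : Set (Perm (Fin n)))))
    (q : ↥(pairSet σ)) : ↥(pairSet σ) :=
  ⟨Sym2.map (e : Perm (Fin n)) q.1, by
    obtain ⟨i, hi, h⟩ := mem_pairSet.1 q.2
    refine mem_pairSet.2 ⟨(e : Perm (Fin n)) i, moved e hi, ?_⟩
    rw [apply_comm (comm_mem e), ← h, Sym2.map_mk]⟩

theorem pairMap_mul (σ : Perm (Fin n)) (a b : ↥(Subgroup.centralizer ({σ} : Set (Perm (Fin n)))))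
    (q : ↥(pairSet σ)) : pairMap σ (a * b) q = pairMap σ a (pairMap σ b q) := by
  apply Subtype.ext
  simp only [pairMap, Subgroup.coe_mul, Perm.coe_mul, Sym2.map_map]

theorem pairMap_one (σ : Perm (Fin n)) (q : ↥(pairSet σ)) : pairMap σ 1 q = q := by
  apply Subtype.ext
  simp [pairMap]

/-- The action on the pairs. -/
def rho (σ : Perm (Fin n)) :
    ↥(Subgroup.centralizer ({σ} : Set (Perm (Fin n)))) →* Perm ↥(pairSet σ) where
  toFun e :=
    { toFun := pairMap σ e
      invFun := pairMap σ e⁻¹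
      left_inv := fun q => by rw [← pairMap_mul, inv_mul_cancel, pairMap_one]
      right_inv := fun q => by rw [← pairMap_mul, mul_inv_cancel, pairMap_one] }
  map_one' := Equiv.ext fun q => pairMap_one σ q
  map_mul' a b := Equiv.ext fun q => pairMap_mul σ a b q

theorem rho_pr {σ : Perm (Fin n)} (e : ↥(Subgroup.centralizer ({σ} : Set (Perm (Fin n)))))
    {i : Fin n} (hi : σ i ≠ i) : rho σ e (pr i hi) = pr ((e : Perm (Fin n)) i) (moved e hi) := by
  apply Subtype.ext
  show Sym2.map _ s(i, σ i) = s(_, _)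
  rw [Sym2.map_mk, apply_comm (comm_mem e)]

/-- An element fixing every pair moves a point at most inside its pair. -/
theorem apply_of_rho_eq_one {σ : Perm (Fin n)} (hσ : ∀ i, σ (σ i) = i)
    {e : ↥(Subgroup.centralizer ({σ} : Set (Perm (Fin n))))} (he : rho σ e = 1) {i : Fin n}
    (hi : σ i ≠ i) : (e : Perm (Fin n)) i = i ∨ (e : Perm (Fin n)) i = σ i := by
  have h := rho_pr e hi
  rw [he, Perm.one_apply, pr_eq hσ] at h
  exact h

/-- Two elements fixing every pair commute on the moved points. -/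
theorem comm_of_rho_eq_one {σ : Perm (Fin n)} (hσ : ∀ i, σ (σ i) = i)
    {a b : ↥(Subgroup.centralizer ({σ} : Set (Perm (Fin n))))} (ha : rho σ a = 1) (hb : rho σ b = 1)
    {i : Fin n} (hi : σ i ≠ i) :
    (a : Perm (Fin n)) ((b : Perm (Fin n)) i) = (b : Perm (Fin n)) ((a : Perm (Fin n)) i) := by
  have ca : (a : Perm (Fin n)) (σ i) = σ ((a : Perm (Fin n)) i) := (apply_comm (comm_mem a) i).symm
  have cb : (b : Perm (Fin n)) (σ i) = σ ((b : Perm (Fin n)) i) := (apply_comm (comm_mem b) i).symm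
  rcases apply_of_rho_eq_one hσ ha hi with h1 | h1 <;>
    rcases apply_of_rho_eq_one hσ hb hi with h2 | h2 <;>
    simp [h1, h2, ca, cb, hσ]

/-- The double transposition interchanging two pairs. -/
def dbl (σ : Perm (Fin n)) (i j : Fin n) : Perm (Fin n) := swap i j * swap (σ i) (σ j)

theorem dbl_comm {σ : Perm (Fin n)} (hσ : ∀ i, σ (σ i) = i) {i j : Fin n} (hi : σ i ≠ i)
    (hj : σ j ≠ j) (h1 : j ≠ i) (h2 : j ≠ σ i) : Commute σ (dbl σ i j) := by
  have hd : Perm.Disjoint (swap i j) (swap (σ i) (σ j)) := by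
    rw [Perm.disjoint_iff_disjoint_support, Perm.support_swap h1.symm,
      Perm.support_swap (fun h => h1 (σ.injective h).symm)]
    simp only [Finset.disjoint_insert_right, Finset.disjoint_singleton_right, Finset.mem_insert,
      Finset.mem_singleton, not_or]
    exact ⟨⟨hi, fun h => h2 h.symm⟩, fun h => h2 (by rw [← h, hσ]), hj⟩
  have e1 : σ * swap i j * σ⁻¹ = swap (σ i) (σ j) := (Equiv.swap_apply_apply σ i j).symm
  have e2 : σ * swap (σ i) (σ j) * σ⁻¹ = swap i j := by
    rw [← Equiv.swap_apply_apply, hσ, hσ]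
  show σ * dbl σ i j = dbl σ i j * σ
  calc σ * dbl σ i j = (σ * swap i j * σ⁻¹) * (σ * swap (σ i) (σ j) * σ⁻¹) * σ := by
        rw [dbl]; group
    _ = swap (σ i) (σ j) * swap i j * σ := by rw [e1, e2]
    _ = dbl σ i j * σ := by rw [dbl, hd.commute.eq]

theorem dbl_mem {σ : Perm (Fin n)} {i j : Fin n} (h1 : j ≠ i) :
    dbl σ i j ∈ alternatingGroup (Fin n) := by
  rw [mem_alternatingGroup, dbl, Perm.sign_mul, Perm.sign_swap h1.symm,
    Perm.sign_swap (fun h => h1 (σ.injective h).symm)]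
  rfl

theorem rho_dbl {σ : Perm (Fin n)} (hσ : ∀ i, σ (σ i) = i) {i j : Fin n} (hi : σ i ≠ i)
    (hj : σ j ≠ j) (h1 : j ≠ i) (h2 : j ≠ σ i) :
    rho σ ⟨dbl σ i j, Subgroup.mem_centralizer_singleton_iff.2 (dbl_comm hσ hi hj h1 h2).eq.symm⟩ =
      swap (pr i hi) (pr j hj) := by
  refine Equiv.ext fun q => ?_
  obtain ⟨k, hk, rfl⟩ := exists_pr q
  rw [rho_pr]
  have hij : i ≠ σ j := fun h => h2 (by rw [h, hσ])
  have hσij : σ i ≠ σ j := fun h => h1 (σ.injective h).symm
  by_cases hki : pr k hk = pr i hi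
  · rw [hki, swap_apply_left, pr_eq hσ]
    rcases (pr_eq hσ).1 hki with h | h
    · left
      subst h
      simp [dbl, swap_apply_of_ne_of_ne (fun e => hk e.symm) hij]
    · right
      have hk' : k = σ i := by rw [h, hσ]
      subst hk'
      simp [dbl, swap_apply_of_ne_of_ne hij.symm hj, hσ]
  by_cases hkj : pr k hk = pr j hj
  · rw [hkj, swap_apply_right, pr_eq hσ]
    rcases (pr_eq hσ).1 hkj with h | h
    · left
      subst h
      simp [dbl, swap_apply_of_ne_of_ne h2 (fun e => hk e.symm)]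
    · right
      have hk' : k = σ j := by rw [h, hσ]
      subst hk'
      simp [dbl, swap_apply_of_ne_of_ne hi (fun e => h2 e.symm), hσ]
  rw [swap_apply_of_ne_of_ne hki hkj, pr_eq hσ]
  rw [pr_eq hσ, not_or] at hki hkj
  left
  have a1 : k ≠ i := fun h => hki.1 h.symm
  have a2 : k ≠ σ i := fun h => hki.2 (by rw [h, hσ])
  have a3 : k ≠ j := fun h => hkj.1 h.symm
  have a4 : k ≠ σ j := fun h => hkj.2 (by rw [h, hσ])
  simp [dbl, swap_apply_of_ne_of_ne a2 a4, swap_apply_of_ne_of_ne a1 a3]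

theorem swap_triple_eq_conj {α : Type*} [DecidableEq α] (h : Perm α) (a b c : α) :
    h * (swap a b * swap a c) * h⁻¹ = swap (h a) (h b) * swap (h a) (h c) := by
  rw [Equiv.swap_apply_apply, Equiv.swap_apply_apply]
  group

theorem exists_swap_swap {α : Type*} [DecidableEq α] [Fintype α] {c : Perm α}
    (hc : c.IsThreeCycle) : ∃ a b d : α, a ≠ b ∧ a ≠ d ∧ b ≠ d ∧ c = swap a b * swap a d := by
  obtain ⟨a, b, d, ha, hb, hd, hab, had, hbd⟩ :=
    Finset.two_lt_card_iff.1 (show 2 < c.support.card by rw [hc.card_support]; norm_num)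
  obtain ⟨h, hh⟩ := isConj_iff.1 (Perm.isConj_iff_cycleType_eq.2
    ((Perm.isThreeCycle_swap_mul_swap_same hab had hbd).cycleType.trans hc.cycleType.symm))
  rw [swap_triple_eq_conj] at hh
  exact ⟨h a, h b, h d, h.injective.ne hab, h.injective.ne had, h.injective.ne hbd, hh.symm⟩

theorem disjoint_swaps {α : Type*} [DecidableEq α] [Fintype α] {a b c d : α} (hab : a ≠ b)
    (hcd : c ≠ d) (hac : a ≠ c) (had : a ≠ d) (hbc : b ≠ c) (hbd : b ≠ d) :
    Perm.Disjoint (swap a b) (swap c d) := by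
  rw [Perm.disjoint_iff_disjoint_support, Perm.support_swap hab, Perm.support_swap hcd]
  simp only [Finset.disjoint_insert_right, Finset.disjoint_singleton_right, Finset.mem_insert,
    Finset.mem_singleton, not_or]
  exact ⟨⟨hac.symm, hbc.symm⟩, had.symm, hbd.symm⟩

/-- Each three-cycle on pairs is induced by an even element of order dividing three. -/
theorem exists_lift {σ : Perm (Fin n)} (hσ : ∀ i, σ (σ i) = i) {c : Perm ↥(pairSet σ)}
    (hc : c.IsThreeCycle) :
    ∃ e : ↥(Subgroup.centralizer ({σ} : Set (Perm (Fin n)))),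
      (e : Perm (Fin n)) ∈ alternatingGroup (Fin n) ∧ (e : Perm (Fin n)) ^ 3 = 1 ∧ rho σ e = c := by
  obtain ⟨p, r, s, hpr, hps, hrs, rfl⟩ := exists_swap_swap hc
  obtain ⟨i, hi, rfl⟩ := exists_pr p
  obtain ⟨j, hj, rfl⟩ := exists_pr r
  obtain ⟨l, hl, rfl⟩ := exists_pr s
  rw [ne_eq, pr_eq hσ, not_or] at hpr hps hrs
  obtain ⟨hji, hjσi⟩ := hpr
  obtain ⟨hli, hlσi⟩ := hps
  obtain ⟨hlj, hlσj⟩ := hrs
  refine ⟨⟨dbl σ i j * dbl σ i l, Subgroup.mem_centralizer_singleton_iff.2
    ((dbl_comm hσ hi hj hji hjσi).mul_right (dbl_comm hσ hi hl hli hlσi)).eq.symm⟩,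
    mul_mem (dbl_mem hji) (dbl_mem hli), ?_, ?_⟩
  · have hne : ∀ {a b : Fin n}, a ≠ b → σ a ≠ σ b := fun h e => h (σ.injective e)
    have q1 : (swap i j * swap i l) ^ 3 = 1 := by
      have h3 := (Perm.isThreeCycle_swap_mul_swap_same (Ne.symm hji) (Ne.symm hli)
        (Ne.symm hlj)).orderOf
      rw [← h3, pow_orderOf_eq_one]
    have q2 : (swap (σ i) (σ j) * swap (σ i) (σ l)) ^ 3 = 1 := by
      have h3 := (Perm.isThreeCycle_swap_mul_swap_same (hne (Ne.symm hji)) (hne (Ne.symm hli))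
        (hne (Ne.symm hlj))).orderOf
      rw [← h3, pow_orderOf_eq_one]
    -- the inequalities between the six points
    have g : ∀ {x y : Fin n}, ¬ y = σ x → σ y ≠ x := fun h e => h (by rw [← e, hσ])
    have dij : Perm.Disjoint (swap (σ i) (σ j)) (swap i j) :=
      disjoint_swaps (hne (Ne.symm hji)) (Ne.symm hji) hi (Ne.symm hjσi) (g hjσi) hj
    have dil : Perm.Disjoint (swap (σ i) (σ j)) (swap i l) :=
      disjoint_swaps (hne (Ne.symm hji)) (Ne.symm hli) hi (Ne.symm hlσi) (g hjσi) (Ne.symm hlσj)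
    have dli : Perm.Disjoint (swap i j) (swap (σ i) (σ l)) :=
      disjoint_swaps (Ne.symm hji) (hne (Ne.symm hli)) (Ne.symm hi) (Ne.symm (g hlσi)) hjσi
        (Ne.symm (g hlσj))
    have dll : Perm.Disjoint (swap i l) (swap (σ i) (σ l)) :=
      disjoint_swaps (Ne.symm hli) (hne (Ne.symm hli)) (Ne.symm hi) (Ne.symm (g hlσi)) hlσi
        (Ne.symm hl)
    have hc1 : Commute (swap (σ i) (σ j)) (swap i l) := dil.commute
    have hc2 : Commute (swap i j * swap i l) (swap (σ i) (σ j) * swap (σ i) (σ l)) :=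
      ((dij.symm.commute).mul_right dli.commute).mul_left ((dil.symm.commute).mul_right dll.commute)
    show (dbl σ i j * dbl σ i l) ^ 3 = 1
    have e : dbl σ i j * dbl σ i l =
        (swap i j * swap i l) * (swap (σ i) (σ j) * swap (σ i) (σ l)) := by
      calc dbl σ i j * dbl σ i l
          = swap i j * (swap (σ i) (σ j) * swap i l) * swap (σ i) (σ l) := by rw [dbl, dbl]; group
        _ = swap i j * (swap i l * swap (σ i) (σ j)) * swap (σ i) (σ l) := by rw [hc1.eq]
        _ = _ := by group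
    rw [e, hc2.mul_pow, q1, q2, one_mul]
  · rw [show (⟨dbl σ i j * dbl σ i l, _⟩ : ↥(Subgroup.centralizer ({σ} : Set (Perm (Fin n))))) =
      ⟨dbl σ i j, Subgroup.mem_centralizer_singleton_iff.2 (dbl_comm hσ hi hj hji hjσi).eq.symm⟩ *
      ⟨dbl σ i l, Subgroup.mem_centralizer_singleton_iff.2 (dbl_comm hσ hi hl hli hlσi).eq.symm⟩
      from rfl, map_mul, rho_dbl hσ hi hj hji hjσi, rho_dbl hσ hi hl hli hlσi]

/-- A 2-subgroup of the symmetric group normalised by all three-cycles is trivial in degree at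
least five. -/
theorem eq_bot_of_normalized {α : Type*} [DecidableEq α] [Fintype α] (hcard : 5 ≤ Fintype.card α)
    (R : Subgroup (Perm α)) (h4 : ∀ x ∈ R, x ^ 4 = 1)
    (hn : ∀ c : Perm α, c.IsThreeCycle → ∀ x ∈ R, c * x * c⁻¹ ∈ R) : R = ⊥ := by
  have hA : alternatingGroup α ≤ Subgroup.normalizer (R : Set (Perm α)) := by
    rw [← Perm.closure_three_cycles_eq_alternating, Subgroup.closure_le]
    intro c hc
    rw [SetLike.mem_coe, Subgroup.mem_normalizer_iff]
    refine fun x => ⟨hn c hc x, fun h => ?_⟩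
    have h1 := hn c⁻¹ (Perm.IsThreeCycle.inv hc) _ h
    simpa [mul_assoc] using h1
  haveI : IsSimpleGroup (alternatingGroup α) :=
    alternatingGroup.isSimpleGroup (by rwa [Nat.card_eq_fintype_card])
  haveI : (R.subgroupOf (alternatingGroup α)).Normal :=
    Subgroup.normal_subgroupOf_of_le_normalizer hA
  obtain ⟨a, b, d, -, -, -, hab, had, hbd⟩ := Finset.two_lt_card_iff.1
    (show 2 < (Finset.univ : Finset α).card by rw [Finset.card_univ]; omega)
  have hint : R ⊓ alternatingGroup α = ⊥ := by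
    rcases IsSimpleGroup.eq_bot_or_eq_top_of_normal (R.subgroupOf (alternatingGroup α))
      inferInstance with h | h
    · rw [← Subgroup.inf_subgroupOf_right, Subgroup.subgroupOf_eq_bot] at h
      exact h.eq_bot_of_le inf_le_right
    · exfalso
      rw [Subgroup.subgroupOf_eq_top] at h
      have h3 := Perm.isThreeCycle_swap_mul_swap_same hab had hbd
      have hd := orderOf_dvd_of_pow_eq_one (h4 _ (h h3.mem_alternatingGroup))
      rw [h3.orderOf] at hd
      norm_num at hd
  rw [eq_bot_iff]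
  intro x hx
  rw [Subgroup.mem_bot]
  by_contra hx1
  obtain ⟨p, hp⟩ : ∃ p, x p ≠ p := by
    by_contra hne
    push Not at hne
    exact hx1 (Equiv.ext hne)
  obtain ⟨r, hr, s, hs, hrs⟩ := Finset.one_lt_card.1
    (show 1 < (Finset.univ \ {p, x p} : Finset α).card by
      have h1 := Finset.le_card_sdiff {p, x p} (Finset.univ : Finset α)
      have h2 : ({p, x p} : Finset α).card ≤ 2 := Finset.card_le_two
      rw [Finset.card_univ] at h1
      omega)
  simp only [Finset.mem_sdiff, Finset.mem_univ, Finset.mem_insert, Finset.mem_singleton, not_or,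
    true_and] at hr hs
  set c := swap p r * swap p s with hc
  have hc3 : c.IsThreeCycle := Perm.isThreeCycle_swap_mul_swap_same (Ne.symm hr.1) (Ne.symm hs.1) hrs
  have hcA := hc3.mem_alternatingGroup
  have hx' : x * (c * x⁻¹ * c⁻¹) ∈ alternatingGroup α := by
    rw [mem_alternatingGroup] at hcA ⊢
    simp only [map_mul, map_inv, hcA, inv_one, one_mul, mul_one, mul_inv_cancel]
  have h1 : x * (c * x⁻¹ * c⁻¹) = 1 := Subgroup.mem_bot.1 (hint ▸
    Subgroup.mem_inf.2 ⟨mul_mem hx (hn c hc3 _ (inv_mem hx)), hx'⟩)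
  have h2 : x * c = c * x := by
    calc x * c = (x * (c * x⁻¹ * c⁻¹)) * (c * x) := by group
      _ = c * x := by rw [h1, one_mul]
  have h3 := congrArg (fun f : Perm α => f p) h2
  have e1 : c p = s := by
    rw [hc, Perm.mul_apply, swap_apply_left, swap_apply_of_ne_of_ne hs.1 (Ne.symm hrs)]
  have e2 : c (x p) = x p := by
    rw [hc, Perm.mul_apply, swap_apply_of_ne_of_ne hp (Ne.symm hs.2),
      swap_apply_of_ne_of_ne hp (Ne.symm hr.2)]
  simp only [Perm.mul_apply, e1, e2] at h3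
  exact hs.1 (x.injective h3)

theorem perm_four_check : ∀ e a : Perm (Fin 4),
    e * e * e = 1 → a * a * (a * a) = 1 → e * a = a * e → a ≠ 1 → e = 1 := by
  decide +kernel

/-- On four pairs, an element of order three commuting with a nontrivial 2-element is trivial. -/
theorem eq_one_of_comm {α : Type*} [DecidableEq α] [Fintype α] (hcard : Fintype.card α = 4)
    {e a : Perm α} (he : e ^ 3 = 1) (ha : a ^ 4 = 1) (hea : e * a = a * e) (ha1 : a ≠ 1) :
    e = 1 := by
  let f := (Fintype.equivFinOfCardEq hcard).permCongrHom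
  have h := perm_four_check (f e) (f a) ?_ ?_ (by rw [← map_mul, ← map_mul, hea])
    (by rwa [ne_eq, map_eq_one_iff _ f.injective])
  · exact (map_eq_one_iff _ f.injective).1 h
  · rw [← map_mul, ← map_mul, ← pow_three', he, map_one]
  · rw [← map_mul, ← map_mul, ← pow_two, ← pow_two, ← pow_mul, ha, map_one]

end CfsgLib.AltTwoCent.Pairs
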