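import Cfsg.Agent.Lib.AltTwoCent.Defs
import Cfsg.Agent.Lib.AltTwoCent.BigPairs

/-!
# S1645, piece B: degree at least twelve is impossible

If `g z g⁻¹ = t` is another involution of `C(z)`, the lifts of the even flips of the image of
`g⁻¹ z g` are carried to a non-abelian subgroup of `C(z, t)` with commutator `t`.
-/

set_option autoImplicit false
set_option linter.style.haveILetI false
set_option linter.unusedSectionVars false

open scoped commutatorElement

namespace CfsgLib.AltTwoCent

open Subgroup Equiv Equiv.Perm Pairs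

universe u

variable {n : ℕ} {G : Type u} [Group G] (D : Cov n G)

/-- The image in the symmetric group. -/
noncomputable def Cov.im : ↥(centralizer ({D.z} : Set G)) →* Perm (Fin n) :=
  (alternatingGroup (Fin n)).subtype.comp D.π

theorem Cov.z_ne : D.z ≠ 1 := fun h => by
  have := D.ord_z
  rw [h, orderOf_one] at this
  omega

theorem Cov.z_sq : D.z * D.z = 1 := by rw [← pow_two, ← D.ord_z, pow_orderOf_eq_one]

theorem Cov.z_comm (x : ↥(centralizer ({D.z} : Set G))) : Commute (x : G) D.z :=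
  mem_centralizer_singleton_iff.1 x.2

theorem Cov.im_eq_one {x : ↥(centralizer ({D.z} : Set G))} (h : D.im x = 1) :
    (x : G) = 1 ∨ (x : G) = D.z := by
  have hx := (D.π_ker x).1 (Subtype.ext h)
  obtain ⟨k, hk⟩ := mem_zpowers_iff.1 hx
  rcases Int.even_or_odd k with ⟨j, rfl⟩ | ⟨j, rfl⟩
  · left
    rw [← hk, ← two_mul, zpow_mul, zpow_two, D.z_sq, one_zpow]
  · right
    rw [← hk, zpow_add, zpow_mul, zpow_two, D.z_sq, one_zpow, one_mul, zpow_one]

theorem Cov.pow_four {x : ↥(centralizer ({D.z} : Set G))} (h : D.im x * D.im x = 1) :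
    (x : G) ^ 4 = 1 := by
  have h2 := D.sq_invol x (Subtype.ext h)
  rw [show (4 : ℕ) = 2 * 2 from rfl, pow_mul, pow_two (x : G), h2, pow_two]
  split <;> simp [D.z_sq]

/-- An involution of `C(z)` other than `z` maps to an involution with `4k` transpositions. -/
theorem Cov.image_invol {t : ↥(centralizer ({D.z} : Set G))} (ht : (t : G) * t = 1)
    (ht1 : (t : G) ≠ 1) (htz : (t : G) ≠ D.z) :
    (∀ i, D.im t (D.im t i) = i) ∧ D.im t ≠ 1 ∧ (D.im t).support.card % 8 = 0 := by
  have hh : D.im t * D.im t = 1 := by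
    rw [← map_mul, show t * t = 1 from Subtype.ext ht, map_one]
  refine ⟨fun i => congrArg (fun f : Perm (Fin n) => f i) hh,
    fun h => (D.im_eq_one h).elim ht1 htz, ?_⟩
  have h2 := D.sq_invol t (Subtype.ext hh)
  by_contra hne
  rw [if_neg (show ¬ (D.π t : Perm (Fin n)).support.card % 8 = 0 from hne), ht] at h2
  exact D.z_ne h2.symm

/-- The even flips of `σ`. -/
def IsFlip (σ y : Perm (Fin n)) : Prop := ∀ i, y i = i ∨ y i = σ i

theorem IsFlip.comm {σ y : Perm (Fin n)} (hσ : ∀ i, σ (σ i) = i) (hy : IsFlip σ y) :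
    Commute σ y := by
  refine Equiv.ext fun i => ?_
  show σ (y i) = y (σ i)
  rcases hy i with h | h
  · rcases hy (σ i) with h' | h'
    · rw [h, h']
    · rw [hσ] at h'
      have e : σ i = i := y.injective (h'.trans h.symm)
      rw [h, e, h]
  · rcases hy (σ i) with h' | h'
    · have e : σ i = i := y.injective (h'.trans h.symm)
      rw [h, h', e]
      exact e
    · rw [h, h', hσ]

theorem IsFlip.sq {σ y : Perm (Fin n)} (hσ : ∀ i, σ (σ i) = i) (hy : IsFlip σ y) : y * y = 1 := by
  refine Equiv.ext fun i => ?_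
  show y (y i) = i
  have hc : σ (y i) = y (σ i) := congrArg (fun f : Perm (Fin n) => f i) (hy.comm hσ).eq
  rcases hy i with h | h
  · rw [h, h]
  · rw [h, ← hc, h, hσ]

theorem IsFlip.mul {σ x y : Perm (Fin n)} (hσ : ∀ i, σ (σ i) = i) (hx : IsFlip σ x)
    (hy : IsFlip σ y) : IsFlip σ (x * y) := fun i => by
  have hc : σ (x i) = x (σ i) := congrArg (fun f : Perm (Fin n) => f i) (hx.comm hσ).eq
  rw [Perm.mul_apply]
  rcases hy i with h | h
  · rw [h]; exact hx i
  · rw [h, ← hc]
    rcases hx i with h' | h'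
    · exact Or.inr (by rw [h'])
    · exact Or.inl (by rw [h', hσ])

theorem IsFlip.commute {σ x y : Perm (Fin n)} (hσ : ∀ i, σ (σ i) = i) (hx : IsFlip σ x)
    (hy : IsFlip σ y) : x * y = y * x := by
  have h := (hx.mul hσ hy).sq hσ
  calc x * y = (x * x) * (x * y) * (y * y) := by rw [hx.sq hσ, hy.sq hσ, one_mul, mul_one]
    _ = x * ((x * x) * (y * y)) * y := by group
    _ = x * ((x * y) * (x * y)) * y := by rw [h, hx.sq hσ, hy.sq hσ, one_mul]
    _ = (x * x) * (y * x) * (y * y) := by group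
    _ = y * x := by rw [hx.sq hσ, hy.sq hσ, one_mul, mul_one]

theorem IsFlip.inv {σ y : Perm (Fin n)} (hσ : ∀ i, σ (σ i) = i) (hy : IsFlip σ y) :
    IsFlip σ y⁻¹ := by
  rw [inv_eq_of_mul_eq_one_right (hy.sq hσ)]
  exact hy

theorem IsFlip.conj {σ y e : Perm (Fin n)} (he : Commute σ e) (hy : IsFlip σ y) :
    IsFlip σ (e * y * e⁻¹) := fun i => by
  rw [Perm.mul_apply, Perm.mul_apply]
  rcases hy (e⁻¹ i) with h | h
  · exact Or.inl (by rw [h]; exact Equiv.apply_symm_apply e i)
  · refine Or.inr ?_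
    rw [h, ← apply_comm he]
    exact congrArg σ (Equiv.apply_symm_apply e i)

/-- A flip and its product with `σ` have complementary supports. -/
theorem IsFlip.card_support {σ y : Perm (Fin n)} (hσ : ∀ i, σ (σ i) = i) (hy : IsFlip σ y) :
    y.support.card + (y * σ).support.card = σ.support.card := by
  have hc : ∀ i, σ (y i) = y (σ i) := fun i =>
    congrArg (fun f : Perm (Fin n) => f i) (hy.comm hσ).eq
  have hsub : y.support ⊆ σ.support := fun i hi => by
    rw [Perm.mem_support] at hi ⊢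
    rcases hy i with h | h
    · exact absurd h hi
    · exact fun e => hi (h.trans e)
  have heq : (y * σ).support = σ.support \ y.support := by
    ext i
    simp only [Perm.mem_support, Finset.mem_sdiff, Perm.mul_apply, ne_eq, not_not]
    rw [← hc]
    rcases hy i with h | h
    · exact ⟨fun h' => ⟨by rwa [h] at h', h⟩, fun h' => by rw [h]; exact h'.1⟩
    · rw [h, hσ]
      exact ⟨fun h' => absurd rfl h', fun h' => absurd h'.2 h'.1⟩
  rw [heq, Finset.card_sdiff_of_subset hsub]
  have := Finset.card_le_card hsub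
  omega

theorem isFlip_swap_mul_swap {σ : Perm (Fin n)} (hσ : ∀ i, σ (σ i) = i) {i j : Fin n}
    (h1 : j ≠ i) (h2 : j ≠ σ i) : IsFlip σ (swap i (σ i) * swap j (σ j)) := by
  intro k
  rw [Perm.mul_apply]
  have h3 : σ j ≠ i := fun h => h2 (by rw [← h, hσ])
  have h4 : σ j ≠ σ i := fun h => h1 (σ.injective h)
  by_cases hj : k = j
  · subst hj
    right
    rw [swap_apply_left, swap_apply_of_ne_of_ne h3 h4]
  by_cases hj' : k = σ j
  · subst hj'
    right
    rw [swap_apply_right, swap_apply_of_ne_of_ne h1 h2, hσ]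
  rw [swap_apply_of_ne_of_ne hj hj']
  by_cases hi : k = i
  · subst hi
    right
    rw [swap_apply_left]
  by_cases hi' : k = σ i
  · subst hi'
    right
    rw [swap_apply_right, hσ]
  exact Or.inl (swap_apply_of_ne_of_ne hi hi')

theorem card_support_two_swaps {α : Type*} [DecidableEq α] [Fintype α] {a b c d : α} (hab : a ≠ b)
    (hcd : c ≠ d) (hac : a ≠ c) (had : a ≠ d) (hbc : b ≠ c) (hbd : b ≠ d) :
    (swap a b * swap c d).support.card = 4 := by
  rw [(disjoint_swaps hab hcd hac had hbc hbd).card_support_mul, Perm.card_support_swap hab,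
    Perm.card_support_swap hcd]

variable (t : ↥(centralizer ({D.z} : Set G)))

/-- The lifts of the flips of the image of `t`. -/
def IsLift (x : ↥(centralizer ({D.z} : Set G))) : Prop := IsFlip (D.im t) (D.im x)

variable {t} (hσ : ∀ i, D.im t (D.im t i) = i)
include hσ

theorem IsLift.commute_t (hk : (D.im t).support.card % 8 = 0) (ht : (t : G) * t = 1)
    {x : ↥(centralizer ({D.z} : Set G))} (hx : IsLift D t x) : Commute (x : G) t := by
  have hf : IsFlip (D.im t) (D.im x) := hx
  have hsum := hf.card_support hσ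
  have htt : D.im t * D.im t = 1 := by
    rw [← map_mul, show t * t = 1 from Subtype.ext ht, map_one]
  have hxt : D.im (x * t) * D.im (x * t) = 1 := by
    rw [map_mul]
    calc D.im x * D.im t * (D.im x * D.im t) = D.im x * (D.im t * D.im x) * D.im t := by group
      _ = D.im x * (D.im x * D.im t) * D.im t := by rw [(hf.comm hσ).eq]
      _ = (D.im x * D.im x) * (D.im t * D.im t) := by group
      _ = 1 := by rw [hf.sq hσ, htt, one_mul]
  have e1 := D.sq_invol x (Subtype.ext (hf.sq hσ))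
  have e2 := D.sq_invol (x * t) (Subtype.ext hxt)
  have hiff : (D.π x : Perm (Fin n)).support.card % 8 = 0 ↔
      (D.π (x * t) : Perm (Fin n)).support.card % 8 = 0 := by
    have h3 : (D.π (x * t) : Perm (Fin n)) = D.im x * D.im t := map_mul D.im x t
    rw [h3, show (D.π x : Perm (Fin n)) = D.im x from rfl]
    constructor <;> intro h <;> omega
  have e3 : ((x * t : ↥(centralizer ({D.z} : Set G))) : G) * (x * t : ↥(centralizer ({D.z} : Set G)))
      = (x : G) * x := by
    rw [e2, e1]
    by_cases hh : (D.π x : Perm (Fin n)).support.card % 8 = 0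
    · rw [if_pos hh, if_pos (hiff.1 hh)]
    · rw [if_neg hh, if_neg (fun h => hh (hiff.2 h))]
  rw [Subgroup.coe_mul, mul_assoc, mul_left_cancel_iff] at e3
  show (x : G) * t = t * x
  calc (x : G) * t = (t : G) * ((t : G) * ((x : G) * t)) := by rw [← mul_assoc (t : G) t, ht, one_mul]
    _ = (t : G) * x := by rw [e3]

/-- The commutators of the lifts are central. -/
theorem IsLift.commutator_mem {x y : ↥(centralizer ({D.z} : Set G))} (hx : IsLift D t x)
    (hy : IsLift D t y) : ((⁅x, y⁆ : ↥(centralizer ({D.z} : Set G))) : G) = 1 ∨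
      ((⁅x, y⁆ : ↥(centralizer ({D.z} : Set G))) : G) = D.z := by
  refine D.im_eq_one ?_
  rw [map_commutatorElement, commutatorElement_eq_one_iff_mul_comm]
  exact hx.commute hσ hy

/-- The lifts do not commute: there are at least four pairs. -/
theorem exists_commutator_z (h3 : 2 < (pairSet (D.im t)).card) :
    ∃ x y, IsLift D t x ∧ IsLift D t y ∧
      ((⁅x, y⁆ : ↥(centralizer ({D.z} : Set G))) : G) = D.z := by
  obtain ⟨p, q, r, hp, hq, hr, hpq, hpr, hqr⟩ := Finset.two_lt_card_iff.1 h3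
  obtain ⟨i, hi, rfl⟩ := mem_pairSet.1 hp
  obtain ⟨j, hj, rfl⟩ := mem_pairSet.1 hq
  obtain ⟨l, hl, rfl⟩ := mem_pairSet.1 hr
  have key : ∀ {a b : Fin n}, s(a, D.im t a) ≠ s(b, D.im t b) → b ≠ a ∧ b ≠ D.im t a := fun h =>
    ⟨fun e => h (by rw [e]), fun e => h (by rw [e, hσ, Sym2.eq_swap])⟩
  obtain ⟨hji, hjσ⟩ := key hpq
  obtain ⟨hli, hlσ⟩ := key hpr
  obtain ⟨hlj, hljσ⟩ := key hqr
  have lift : ∀ a b : Fin n, D.im t a ≠ a → D.im t b ≠ b → b ≠ a → b ≠ D.im t a →
      ∃ x : ↥(centralizer ({D.z} : Set G)), IsLift D t x ∧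
        D.im x = swap a (D.im t a) * swap b (D.im t b) ∧ (x : G) * x = D.z := by
    intro a b ha hb h1 h2
    have h4 : D.im t a ≠ D.im t b := fun e => h1 ((D.im t).injective e).symm
    have h5 : a ≠ D.im t b := fun e => h2 (by rw [e, hσ])
    obtain ⟨x, hx⟩ := D.π_surj ⟨swap a (D.im t a) * swap b (D.im t b), by
      rw [mem_alternatingGroup, Perm.sign_mul, Perm.sign_swap (Ne.symm ha),
        Perm.sign_swap (Ne.symm hb)]
      rfl⟩
    have hxi : D.im x = swap a (D.im t a) * swap b (D.im t b) := congrArg Subtype.val hx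
    have hf : IsFlip (D.im t) (D.im x) := hxi ▸ isFlip_swap_mul_swap hσ h1 h2
    refine ⟨x, hf, hxi, ?_⟩
    rw [D.sq_invol x (Subtype.ext (hf.sq hσ)), if_neg]
    show ¬ (D.im x).support.card % 8 = 0
    rw [hxi, card_support_two_swaps (Ne.symm ha) (Ne.symm hb) h1.symm h5 h2.symm h4]
    norm_num
  obtain ⟨x, hx, hxi, hxx⟩ := lift i j hi hj hji hjσ
  obtain ⟨y, hy, hyi, hyy⟩ := lift j l hj hl hlj hljσ
  refine ⟨x, y, hx, hy, (IsLift.commutator_mem D hσ hx hy).resolve_left fun h1 => ?_⟩
  have hcomm : (x : G) * y = y * x := by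
    simp only [commutatorElement_def, Subgroup.coe_mul, Subgroup.coe_inv] at h1
    rwa [← commutatorElement_def, commutatorElement_eq_one_iff_mul_comm] at h1
  have h2 : ((x * y : ↥(centralizer ({D.z} : Set G))) : G) *
      ((x * y : ↥(centralizer ({D.z} : Set G))) : G) = 1 := by
    rw [Subgroup.coe_mul]
    calc (x : G) * y * (x * y) = (x : G) * ((y : G) * x) * y := by group
      _ = (x : G) * ((x : G) * y) * y := by rw [hcomm]
      _ = ((x : G) * x) * ((y : G) * y) := by group
      _ = 1 := by rw [hxx, hyy, D.z_sq]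
  have hxy : D.im (x * y) = swap i (D.im t i) * swap l (D.im t l) := by
    rw [map_mul, hxi, hyi]
    calc swap i (D.im t i) * swap j (D.im t j) * (swap j (D.im t j) * swap l (D.im t l))
        = swap i (D.im t i) * (swap j (D.im t j) * swap j (D.im t j)) * swap l (D.im t l) := by
          group
      _ = _ := by rw [Equiv.swap_mul_self, mul_one]
  have hxyf : IsFlip (D.im t) (D.im (x * y)) := by rw [map_mul]; exact IsFlip.mul hσ hx hy
  rw [D.sq_invol (x * y) (Subtype.ext (hxyf.sq hσ)), if_neg] at h2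
  · exact D.z_ne h2
  · show ¬ (D.im (x * y)).support.card % 8 = 0
    rw [hxy, card_support_two_swaps (Ne.symm hi) (Ne.symm hl) hli.symm
      (fun e => hlσ (by rw [e, hσ])) hlσ.symm (fun e => hli ((D.im t).injective e).symm)]
    norm_num

omit hσ

/-- The data of a conjugation `g` carrying `z` to another involution of `C(z)`. -/
structure Move where
  g : G
  t : ↥(centralizer ({D.z} : Set G))
  s : ↥(centralizer ({D.z} : Set G))
  ht : g * D.z * g⁻¹ = t
  hs : g⁻¹ * D.z * g = s
  ne : (t : G) ≠ D.z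

variable {D}

theorem Move.sq (M : Move D) : (M.t : G) * M.t = 1 := by
  rw [← M.ht]
  calc M.g * D.z * M.g⁻¹ * (M.g * D.z * M.g⁻¹) = M.g * (D.z * D.z) * M.g⁻¹ := by group
    _ = 1 := by rw [D.z_sq, mul_one, mul_inv_cancel]

theorem Move.ne_one (M : Move D) : (M.t : G) ≠ 1 := by
  rw [← M.ht]
  exact fun h => D.z_ne (conj_eq_one_iff.1 h)

/-- The reversed conjugation. -/
noncomputable def Move.rev (M : Move D) : Move D where
  g := M.g⁻¹
  t := M.s
  s := M.t
  ht := by rw [inv_inv]; exact M.hs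
  hs := by rw [inv_inv]; exact M.ht
  ne := fun h => M.ne (by
    rw [← M.ht]
    calc M.g * D.z * M.g⁻¹ = M.g * (M.g⁻¹ * D.z * M.g) * M.g⁻¹ := by rw [M.hs, h]
      _ = D.z := by group)

theorem Move.invol (M : Move D) :
    (∀ i, D.im M.t (D.im M.t i) = i) ∧ D.im M.t ≠ 1 ∧ (D.im M.t).support.card % 8 = 0 :=
  D.image_invol M.sq M.ne_one M.ne

theorem Move.four_le (M : Move D) :
    4 ≤ (pairSet (D.im M.t)).card ∧ (pairSet (D.im M.t)).card % 4 = 0 := by
  obtain ⟨h1, h2, h3⟩ := M.invol
  have h4 := card_support_eq h1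
  have h5 : (D.im M.t).support.card ≠ 0 := fun h => h2 (by
    rwa [Finset.card_eq_zero, Perm.support_eq_empty_iff] at h)
  omega

/-- The transported subgroup: conjugates of lifts of flips of the image of `s`. -/
noncomputable def Move.N (M : Move D) : Subgroup G where
  carrier := {a | ∃ x, IsLift D M.s x ∧ M.g * x * M.g⁻¹ = a}
  one_mem' := ⟨1, fun i => Or.inl (by rw [map_one]; rfl), by simp⟩
  mul_mem' := by
    rintro _ _ ⟨x, hx, rfl⟩ ⟨y, hy, rfl⟩
    refine ⟨x * y, ?_, by rw [Subgroup.coe_mul]; group⟩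
    show IsFlip _ (D.im (x * y))
    rw [map_mul]
    exact hx.mul M.rev.invol.1 hy
  inv_mem' := by
    rintro _ ⟨x, hx, rfl⟩
    refine ⟨x⁻¹, ?_, by rw [Subgroup.coe_inv]; group⟩
    show IsFlip _ (D.im x⁻¹)
    rw [map_inv]
    exact IsFlip.inv M.rev.invol.1 hx

theorem Move.N_le (M : Move D) : M.N ≤ centralizer ({D.z} : Set G) := by
  rintro _ ⟨x, hx, rfl⟩
  have h := IsLift.commute_t D M.rev.invol.1 M.rev.invol.2.2 M.rev.sq hx
  change Commute (x : G) (M.s : G) at h
  have h' : (x : G) * (M.g⁻¹ * D.z * M.g) = M.g⁻¹ * D.z * M.g * x := by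
    rw [M.hs]; exact h.eq
  rw [mem_centralizer_singleton_iff]
  calc M.g * x * M.g⁻¹ * D.z = M.g * ((x : G) * (M.g⁻¹ * D.z * M.g)) * M.g⁻¹ := by group
    _ = M.g * (M.g⁻¹ * D.z * M.g * x) * M.g⁻¹ := by rw [h']
    _ = D.z * (M.g * x * M.g⁻¹) := by group

/-- The image on the pairs of `t` of an element centralising `z` and `t`. -/
theorem Move.comm_im (M : Move D) (a : ↥(centralizer ({D.z} : Set G)))
    (ha : Commute (a : G) M.t) :
    D.im a ∈ centralizer ({D.im M.t} : Set (Perm (Fin n))) := by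
  rw [mem_centralizer_singleton_iff, ← map_mul, ← map_mul,
    show a * M.t = M.t * a from Subtype.ext ha.eq]

theorem Move.N_comm (M : Move D) {a : G} (ha : a ∈ M.N) : Commute a M.t := by
  obtain ⟨x, -, rfl⟩ := ha
  rw [← M.ht]
  show M.g * x * M.g⁻¹ * (M.g * D.z * M.g⁻¹) = _
  calc M.g * x * M.g⁻¹ * (M.g * D.z * M.g⁻¹) = M.g * ((x : G) * D.z) * M.g⁻¹ := by group
    _ = M.g * (D.z * x) * M.g⁻¹ := by rw [(D.z_comm x).eq]
    _ = _ := by group

/-- The action of the transported group on the pairs of `t`. -/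
noncomputable def Move.act (M : Move D) : ↥M.N →* Perm ↥(pairSet (D.im M.t)) :=
  (rho (D.im M.t)).comp
    ((D.im.comp (inclusion M.N_le)).codRestrict _ fun a => M.comm_im _ (M.N_comm a.2))

/-- Some transported element moves a pair. -/
theorem Move.exists_moving (M : Move D) : ∃ a : ↥M.N, M.act a ≠ 1 := by
  obtain ⟨x, y, hx, hy, hxy⟩ := exists_commutator_z D (t := M.s) M.rev.invol.1
    (show 2 < (pairSet (D.im M.rev.t)).card by have := M.rev.four_le; omega)
  by_contra hne
  push Not at hne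
  set a : ↥M.N := ⟨_, x, hx, rfl⟩ with ha
  set b : ↥M.N := ⟨_, y, hy, rfl⟩ with hb
  have hab : (((inclusion M.N_le ⁅a, b⁆) : ↥(centralizer ({D.z} : Set G))) : G) = M.t := by
    show ((⁅a, b⁆ : ↥M.N) : G) = _
    rw [← M.ht, ← hxy]
    simp only [commutatorElement_def, Subgroup.coe_mul, Subgroup.coe_inv, ha, hb]
    group
  obtain ⟨i, hi⟩ : ∃ i, D.im M.t i ≠ i := by
    by_contra hall
    push Not at hall
    exact M.invol.2.1 (Equiv.ext hall)
  have him : D.im M.t = ⁅D.im (inclusion M.N_le a), D.im (inclusion M.N_le b)⁆ := by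
    rw [← map_commutatorElement, ← map_commutatorElement]
    exact congrArg D.im (Subtype.ext hab.symm)
  set A := D.im (inclusion M.N_le a)
  set B := D.im (inclusion M.N_le b)
  have hc : ∀ j, D.im M.t j ≠ j → A (B j) = B (A j) := fun j hj =>
    comm_of_rho_eq_one M.invol.1 (hne a) (hne b) hj
  refine hi ?_
  rw [him, commutatorElement_def]
  set j := A⁻¹ (B⁻¹ i) with hj
  have hji : B (A j) = i := by simp [hj]
  have hjm : D.im M.t j ≠ j := by
    intro h
    have e1 := apply_comm (σ := D.im M.t) (e := A)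
      ((mem_centralizer_singleton_iff.1 (M.comm_im _ (M.N_comm a.2))).symm) j
    have e2 := apply_comm (σ := D.im M.t) (e := B)
      ((mem_centralizer_singleton_iff.1 (M.comm_im _ (M.N_comm b.2))).symm) (A j)
    rw [h] at e1
    rw [e1, hji] at e2
    exact hi e2
  show A (B (A⁻¹ (B⁻¹ i))) = i
  rw [← hj, hc j hjm, hji]

/-- Elements of odd order commuting with `t` and the transported group. -/
theorem Move.conj_mem (M : Move D) {h : ↥(centralizer ({D.z} : Set G))} (ht : Commute (h : G) M.t)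
    {a : G} (ha : a ∈ M.N) : (h : G) * a * (h : G)⁻¹ ∈ M.N := by
  obtain ⟨x, hx, rfl⟩ := ha
  set k := M.g⁻¹ * h * M.g with hk
  have hkC : k ∈ centralizer ({D.z} : Set G) := by
    have ht' : (h : G) * (M.g * D.z * M.g⁻¹) = M.g * D.z * M.g⁻¹ * h := by rw [M.ht]; exact ht.eq
    rw [mem_centralizer_singleton_iff, hk]
    calc M.g⁻¹ * h * M.g * D.z = M.g⁻¹ * ((h : G) * (M.g * D.z * M.g⁻¹)) * M.g := by group
      _ = M.g⁻¹ * (M.g * D.z * M.g⁻¹ * h) * M.g := by rw [ht']
      _ = D.z * (M.g⁻¹ * h * M.g) := by group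
  have hks : Commute k (M.s : G) := by
    rw [← M.hs, hk]
    show _ = _
    calc M.g⁻¹ * h * M.g * (M.g⁻¹ * D.z * M.g) = M.g⁻¹ * ((h : G) * D.z) * M.g := by group
      _ = M.g⁻¹ * (D.z * h) * M.g := by rw [(D.z_comm h).eq]
      _ = _ := by group
  refine ⟨⟨k, hkC⟩ * x * ⟨k, hkC⟩⁻¹, ?_, by
    rw [Subgroup.coe_mul, Subgroup.coe_mul, Subgroup.coe_inv]
    simp only [hk]
    group⟩
  show IsFlip _ (D.im _)
  rw [map_mul, map_mul, map_inv]
  refine IsFlip.conj ?_ hx
  show D.im M.s * _ = _
  rw [← map_mul, ← map_mul]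
  exact congrArg D.im (Subtype.ext hks.eq.symm)

theorem Move.pow_four (M : Move D) (a : ↥M.N) : a ^ 4 = 1 := by
  apply Subtype.ext
  obtain ⟨x, hx, he⟩ := a.2
  rw [SubmonoidClass.coe_pow, ← he, conj_pow, D.pow_four (IsFlip.sq M.rev.invol.1 hx), mul_one,
    mul_inv_cancel]
  rfl

/-- The image of `t` has exactly four pairs. -/
theorem Move.four (M : Move D) : (pairSet (D.im M.t)).card = 4 := by
  by_contra hne
  have h5 : 5 ≤ Fintype.card ↥(pairSet (D.im M.t)) := by
    rw [Fintype.card_coe]; have := M.four_le; omega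
  have hbot : M.act.range = ⊥ := by
    refine eq_bot_of_normalized h5 _ ?_ ?_
    · rintro _ ⟨a, rfl⟩
      rw [← map_pow, M.pow_four, map_one]
    · intro c hc
      rintro _ ⟨a, rfl⟩
      obtain ⟨e, heA, he3, hec⟩ := exists_lift M.invol.1 hc
      set e' : alternatingGroup (Fin n) := ⟨(e : Perm (Fin n)), heA⟩ with he'
      have hodd : Odd (orderOf e') := by
        refine Odd.of_dvd_nat (by decide : Odd 3) (orderOf_dvd_of_pow_eq_one (Subtype.ext ?_))
        exact he3
      obtain ⟨h, hπ, ho⟩ := D.odd_lift e' hodd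
      have him : D.im h = (e : Perm (Fin n)) := congrArg Subtype.val hπ
      have hht : Commute (h : G) M.t := by
        refine (D.comm_odd M.t h (ho ▸ hodd) ?_).symm
        apply Subtype.ext
        show D.im M.t * D.im h = D.im h * D.im M.t
        rw [him]
        exact (comm_mem e).eq
      refine ⟨⟨_, M.conj_mem hht a.2⟩, ?_⟩
      rw [← hec, ← map_inv (rho (D.im M.t))]
      show rho _ _ = rho _ e * rho _ _ * rho _ e⁻¹
      rw [← map_mul, ← map_mul]
      congr 1
      apply Subtype.ext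
      show D.im _ = (e : Perm (Fin n)) * D.im _ * (e : Perm (Fin n))⁻¹
      rw [← him, ← map_inv, ← map_mul, ← map_mul]
      exact congrArg D.im (Subtype.ext rfl)
  obtain ⟨a, ha⟩ := M.exists_moving
  exact ha (Subgroup.mem_bot.1 (hbot ▸ ⟨a, rfl⟩))

theorem big : StmtBig.{u} := by
  intro G _ _ n hn D
  obtain ⟨g, hg1, hg2⟩ := D.fused
  have hgs : g⁻¹ * D.z * g ∈ centralizer ({D.z} : Set G) := by
    rw [mem_centralizer_singleton_iff] at hg2 ⊢
    calc g⁻¹ * D.z * g * D.z = g⁻¹ * (D.z * (g * D.z * g⁻¹)) * g := by group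
      _ = g⁻¹ * (g * D.z * g⁻¹ * D.z) * g := by rw [hg2]
      _ = D.z * (g⁻¹ * D.z * g) := by group
  let M : Move D := ⟨g, ⟨_, hg2⟩, ⟨_, hgs⟩, rfl, rfl, hg1⟩
  have hσ' := M.rev.invol.1
  have hsup : (D.im M.s).support.card = 8 := by
    rw [card_support_eq (σ := D.im M.s) hσ']
    exact congrArg (· * 2) M.rev.four
  -- four fixed points of the image of `s`
  have hfix : 4 ≤ (Finset.univ \ (D.im M.s).support).card := by
    rw [Finset.card_sdiff_of_subset (Finset.subset_univ _), Finset.card_univ, Fintype.card_fin, hsup]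
    omega
  obtain ⟨a, b, c, ha, hb, hc, hab, hac, hbc⟩ := Finset.two_lt_card_iff.1
    (show 2 < (Finset.univ \ (D.im M.s).support).card by omega)
  obtain ⟨d, hd, hd'⟩ := Finset.exists_mem_notMem_of_card_lt_card
    (s := {a, b, c}) (t := Finset.univ \ (D.im M.s).support)
    (by have := Finset.card_le_three (a := a) (b := b) (c := c); omega)
  simp only [Finset.mem_insert, Finset.mem_singleton, not_or] at hd'
  obtain ⟨hda, hdb, hdc⟩ := hd'
  simp only [Finset.mem_sdiff, Finset.mem_univ, true_and, Perm.mem_support, ne_eq, not_not]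
    at ha hb hc hd
  -- odd elements on the fixed points
  have lift3 : ∀ p q r : Fin n, D.im M.s p = p → D.im M.s q = q → D.im M.s r = r → p ≠ q → q ≠ r →
      p ≠ r → ∃ h : ↥(centralizer ({D.z} : Set G)), D.im h = swap p q * swap q r ∧
        (h : G) ^ 3 = 1 ∧ ∀ x, IsLift D M.s x ∨ x = M.s → Commute (x : G) h := by
    intro p q r hp hq hr hpq hqr hpr
    have h3c : (swap p q * swap q r).IsThreeCycle := by
      rw [Equiv.swap_comm p q]
      exact Perm.isThreeCycle_swap_mul_swap_same hpq.symm hqr hpr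
    set e : alternatingGroup (Fin n) := ⟨_, h3c.mem_alternatingGroup⟩ with he
    have he3 : orderOf e = 3 := by rw [← Subgroup.orderOf_coe]; exact h3c.orderOf
    have hodd : Odd (orderOf e) := by rw [he3]; decide
    obtain ⟨h, hπ, ho⟩ := D.odd_lift e hodd
    have him : D.im h = swap p q * swap q r := congrArg Subtype.val hπ
    refine ⟨h, him, ?_, fun x hx => D.comm_odd x h (ho ▸ hodd) (Subtype.ext ?_)⟩
    · rw [← he3, ← ho, pow_orderOf_eq_one]
    · show D.im x * D.im h = D.im h * D.im x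
      have hfx : ∀ i, D.im M.s i = i → D.im x i = i := by
        intro i hi
        rcases hx with hx | rfl
        · exact (hx i).elim id (fun h' => h'.trans hi)
        · exact hi
      rw [him]
      refine (Perm.Disjoint.commute fun i => ?_).eq
      by_cases hi : D.im M.s i = i
      · exact Or.inl (hfx i hi)
      · refine Or.inr ?_
        have e1 : i ≠ p := fun e => hi (e ▸ hp)
        have e2 : i ≠ q := fun e => hi (e ▸ hq)
        have e3 : i ≠ r := fun e => hi (e ▸ hr)
        rw [Perm.mul_apply, swap_apply_of_ne_of_ne e2 e3, swap_apply_of_ne_of_ne e1 e2]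
  obtain ⟨h₁, i1, o1, c1⟩ := lift3 a b c ha hb hc hab hbc hac
  obtain ⟨h₂, i2, o2, c2⟩ := lift3 b c d hb hc hd hbc (Ne.symm hdc) (Ne.symm hdb)
  -- their product squares to `z`
  have hprod : D.im (h₁ * h₂) = swap a b * swap c d := by
    rw [map_mul, i1, i2]
    calc swap a b * swap b c * (swap b c * swap c d)
        = swap a b * (swap b c * swap b c) * swap c d := by group
      _ = _ := by rw [Equiv.swap_mul_self, mul_one]
  have hsq : D.im (h₁ * h₂) * D.im (h₁ * h₂) = 1 := by
    rw [hprod]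
    have hdis := disjoint_swaps hab (Ne.symm hdc) hac (Ne.symm hda) hbc (Ne.symm hdb)
    calc swap a b * swap c d * (swap a b * swap c d)
        = swap a b * (swap c d * swap a b) * swap c d := by group
      _ = swap a b * (swap a b * swap c d) * swap c d := by rw [hdis.commute.eq]
      _ = (swap a b * swap a b) * (swap c d * swap c d) := by group
      _ = 1 := by rw [Equiv.swap_mul_self, Equiv.swap_mul_self, one_mul]
  have hz : ((h₁ : G) * h₂) * (h₁ * h₂) = D.z := by
    have h := D.sq_invol (h₁ * h₂) (Subtype.ext hsq)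
    rw [if_neg] at h
    · exact h
    · show ¬ (D.im (h₁ * h₂)).support.card % 8 = 0
      rw [hprod, card_support_two_swaps hab (Ne.symm hdc) hac (Ne.symm hda) hbc (Ne.symm hdb)]
      norm_num
  obtain ⟨w, hw⟩ := M.exists_moving
  obtain ⟨x, hx, hxw⟩ := w.2
  -- the conjugate of each of them fixes the moved points of `t`
  have hfixed : ∀ h : ↥(centralizer ({D.z} : Set G)), (h : G) ^ 3 = 1 →
      (∀ x, IsLift D M.s x ∨ x = M.s → Commute (x : G) h) →
      ∀ i, D.im M.t i ≠ i → ∃ e : ↥(centralizer ({D.z} : Set G)),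
        (e : G) = g * h * g⁻¹ ∧ D.im e i = i := by
    intro h ho hcm i hi
    have hgh : g * h * g⁻¹ ∈ centralizer ({D.z} : Set G) := by
      rw [mem_centralizer_singleton_iff]
      have hc : (g⁻¹ * D.z * g) * (h : G) = (h : G) * (g⁻¹ * D.z * g) := (hcm M.s (Or.inr rfl)).eq
      calc g * h * g⁻¹ * D.z = g * ((h : G) * (g⁻¹ * D.z * g)) * g⁻¹ := by group
        _ = g * (g⁻¹ * D.z * g * (h : G)) * g⁻¹ := by rw [hc]
        _ = _ := by group
    set e : ↥(centralizer ({D.z} : Set G)) := ⟨_, hgh⟩ with he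
    have het : Commute (e : G) M.t := by
      show g * h * g⁻¹ * (g * D.z * g⁻¹) = g * D.z * g⁻¹ * (g * h * g⁻¹)
      calc g * h * g⁻¹ * (g * D.z * g⁻¹) = g * ((h : G) * D.z) * g⁻¹ := by group
        _ = g * (D.z * h) * g⁻¹ := by rw [(D.z_comm h).eq]
        _ = _ := by group
    set E : ↥(centralizer ({D.im M.t} : Set (Perm (Fin n)))) := ⟨D.im e, M.comm_im e het⟩ with hE
    have hE3 : E ^ 3 = 1 := by
      apply Subtype.ext
      show D.im e ^ 3 = 1
      rw [← map_pow, show e ^ 3 = 1 from Subtype.ext (by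
        show (g * h * g⁻¹) ^ 3 = 1
        rw [conj_pow, ho, mul_one, mul_inv_cancel]), map_one]
    have hρ : rho _ E = 1 := by
      refine eq_one_of_comm (by rw [Fintype.card_coe]; exact M.four) ?_ ?_ ?_ hw
      · rw [← map_pow, hE3, map_one]
      · rw [← map_pow, M.pow_four, map_one]
      · show rho _ E * rho _ _ = rho _ _ * rho _ E
        rw [← map_mul, ← map_mul]
        congr 1
        apply Subtype.ext
        show D.im e * D.im _ = D.im _ * D.im e
        rw [← map_mul, ← map_mul]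
        refine congrArg D.im (Subtype.ext ?_)
        show g * h * g⁻¹ * (w : G) = (w : G) * (g * h * g⁻¹)
        rw [← hxw]
        show g * h * g⁻¹ * (g * x * g⁻¹) = g * x * g⁻¹ * (g * h * g⁻¹)
        calc g * h * g⁻¹ * (g * x * g⁻¹) = g * ((h : G) * x) * g⁻¹ := by group
          _ = g * ((x : G) * h) * g⁻¹ := by rw [(hcm x (Or.inl hx)).eq]
          _ = _ := by group
    refine ⟨e, rfl, ?_⟩
    rcases apply_of_rho_eq_one M.invol.1 hρ hi with h' | h'
    · exact h'
    · exfalso
      have h2 := congrArg (fun f : ↥(centralizer ({D.im M.t} : Set (Perm (Fin n)))) =>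
        (f : Perm (Fin n)) i) hE3
      simp only [pow_three, Subgroup.coe_mul, Perm.mul_apply, Subgroup.coe_one, Perm.one_apply]
        at h2
      have h3 := apply_comm (comm_mem E) i
      rw [h', ← h3, h', M.invol.1, h'] at h2
      exact hi h2
  obtain ⟨i, hi⟩ : ∃ i, D.im M.t i ≠ i := by
    by_contra hall
    push Not at hall
    exact M.invol.2.1 (Equiv.ext hall)
  obtain ⟨e₁, he₁, f1⟩ := hfixed h₁ o1 c1 i hi
  obtain ⟨e₂, he₂, f2⟩ := hfixed h₂ o2 c2 i hi
  have ht : M.t = e₁ * e₂ * (e₁ * e₂) := by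
    apply Subtype.ext
    rw [Subgroup.coe_mul, Subgroup.coe_mul, he₁, he₂]
    show g * D.z * g⁻¹ = _
    calc g * D.z * g⁻¹ = g * ((h₁ : G) * h₂ * ((h₁ : G) * h₂)) * g⁻¹ := by rw [hz]
      _ = _ := by group
  refine hi ?_
  rw [ht, map_mul, map_mul]
  simp only [Perm.mul_apply, f1, f2]

end CfsgLib.AltTwoCent
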