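import Cfsg.Agent.Lib.AltTwoCent.TenCounts

/-!
# Degree ten is impossible: `#Q = 133200`
-/

set_option autoImplicit false
set_option linter.style.haveILetI false
set_option linter.unusedSectionVars false
set_option maxRecDepth 100000

namespace CfsgLib.AltTwoCent

open Subgroup CfsgLib.Involutions

universe u

namespace TenData

variable {P : Type u} [Group P] [Finite P] (E : TenData P) (T : Frame E)
include E T

theorem mem_D {x : P} : x ∈ E.Q ⊓ centralizer ({E.k} : Set P) ↔ x ∈ E.Q ∧ Commute x E.k := by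
  rw [mem_inf, mem_centralizer_singleton_iff]; rfl

theorem inD_iff (x : ↥(E.Q ⊓ centralizer ({E.k} : Set P))) : E.InD (x : P) ↔ orderOf x = 2 := by
  rw [← Subgroup.orderOf_coe]
  exact ⟨fun h => h.2.1, fun h => ⟨((E.mem_D T).1 x.2).1, h, ((E.mem_D T).1 x.2).2⟩⟩

/-- The element `z` of `D`. -/
def dz : ↥(E.Q ⊓ centralizer ({E.k} : Set P)) := ⟨E.z, (E.mem_D T).2 ⟨E.zQ, E.zk⟩⟩

/-- The element `b` of `D`. -/
def db : ↥(E.Q ⊓ centralizer ({E.k} : Set P)) := ⟨T.b, (E.mem_D T).2 ⟨T.hb.1, T.hb.2.2⟩⟩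

theorem conj_dz (x : ↥(E.Q ⊓ centralizer ({E.k} : Set P))) :
    IsConj (E.dz T) x ↔ orderOf x = 2 ∧ E.nn (x : P) E.k = 8 := by
  constructor
  · intro h
    obtain ⟨c, rfl⟩ := isConj_iff.1 h
    refine ⟨(E.inD_iff T _).1 ?_, ?_⟩
    · exact E.inD_conj ((E.mem_D T).1 c.2).2 E.inD_z
    · exact (E.nn_conj_D ((E.mem_D T).1 c.2).2).trans E.nn_z_k
  · rintro ⟨h, h8⟩
    obtain ⟨c, hcQ, hck, hc⟩ := E.conj_of_nn E.inD_z ((E.inD_iff T x).2 h) (E.nn_z_k.trans h8.symm)
    exact isConj_iff.2 ⟨⟨c, (E.mem_D T).2 ⟨hcQ, hck⟩⟩, Subtype.ext hc⟩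

theorem conj_db (x : ↥(E.Q ⊓ centralizer ({E.k} : Set P))) :
    IsConj (E.db T) x ↔ orderOf x = 2 ∧ E.nn (x : P) E.k = 12 := by
  constructor
  · intro h
    obtain ⟨c, rfl⟩ := isConj_iff.1 h
    refine ⟨(E.inD_iff T _).1 ?_, ?_⟩
    · exact E.inD_conj ((E.mem_D T).1 c.2).2 T.hb
    · exact (E.nn_conj_D ((E.mem_D T).1 c.2).2).trans T.nb
  · rintro ⟨h, h12⟩
    obtain ⟨c, hcQ, hck, hc⟩ := E.conj_of_nn T.hb ((E.inD_iff T x).2 h) (T.nb.trans h12.symm)
    exact isConj_iff.2 ⟨⟨c, (E.mem_D T).2 ⟨hcQ, hck⟩⟩, Subtype.ext hc⟩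

theorem card_cent (x : ↥(E.Q ⊓ centralizer ({E.k} : Set P))) :
    Nat.card (centralizer ({x} : Set ↥(E.Q ⊓ centralizer ({E.k} : Set P)))) = E.nn (x : P) E.k := by
  unfold nn
  exact Nat.card_congr
    { toFun := fun c => ⟨(c.1 : P), ⟨⟨((E.mem_D T).1 c.1.2).1, mem_centralizer_singleton_iff.2
        (congrArg Subtype.val (mem_centralizer_singleton_iff.1 c.2))⟩,
        mem_centralizer_singleton_iff.2 ((E.mem_D T).1 c.1.2).2.eq⟩⟩
      invFun := fun c => ⟨⟨(c : P), (E.mem_D T).2 ⟨c.2.1.1, mem_centralizer_singleton_iff.1 c.2.2⟩⟩,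
        mem_centralizer_singleton_iff.2 (Subtype.ext (mem_centralizer_singleton_iff.1 c.2.1.2))⟩
      left_inv := fun c => rfl
      right_inv := fun c => rfl }

/-- Counting pairs of `D` in a set of pairs of `P`. -/
theorem card_DD {R : ↥(E.Q ⊓ centralizer ({E.k} : Set P)) × ↥(E.Q ⊓ centralizer ({E.k} : Set P)) → Prop}
    (S : Finset (P × P)) (hS : ∀ p ∈ S, E.InD p.1 ∧ E.InD p.2)
    (h : ∀ p, R p ↔ ((p.1 : P), (p.2 : P)) ∈ S) : Nat.card {p // R p} = S.card := by
  rw [← Nat.card_eq_finsetCard]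
  exact Nat.card_congr
    { toFun := fun p => ⟨((p.1.1 : P), (p.1.2 : P)), (h _).1 p.2⟩
      invFun := fun p => ⟨(⟨p.1.1, (E.mem_D T).2 ⟨(hS _ p.2).1.1, (hS _ p.2).1.2.2⟩⟩,
        ⟨p.1.2, (E.mem_D T).2 ⟨(hS _ p.2).2.1, (hS _ p.2).2.2.2⟩⟩), (h _).2 p.2⟩
      left_inv := fun p => rfl
      right_inv := fun p => rfl }

theorem distinct : T.a ≠ E.z ∧ T.a * E.z ≠ E.z ∧ T.b * E.z ≠ E.z ∧ T.a ≠ T.a * E.z ∧ T.b ≠ T.b * E.z ∧
    T.a ≠ T.b ∧ T.a ≠ T.b * E.z ∧ T.a * E.z ≠ T.b ∧ T.a * E.z ≠ T.b * E.z := by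
  have z1 := invol_ne_one E.ord_z
  refine ⟨fun h => T.ab (h ▸ T.bz.symm), fun h => invol_ne_one T.ha.2.1 (mul_eq_right.1 h),
    fun h => invol_ne_one T.hb.2.1 (mul_eq_right.1 h), fun h => z1 (mul_eq_left.1 h.symm),
    fun h => z1 (mul_eq_left.1 h.symm), fun h => T.ab (h ▸ Commute.refl _), fun h => ?_, fun h => ?_,
    fun h => T.ab ?_⟩
  · have := T.na; rw [h, T.nbz] at this; omega
  · have := T.naz; rw [h, T.nb] at this; omega
  · rw [mul_right_cancel h]

theorem pair_z : Nat.card (Pair (E.dz T) (E.db T) (E.dz T)) = 4 := by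
  classical
  obtain ⟨-, -, -, d4, d5, -, -, -, -⟩ := E.distinct T
  rw [show (4 : ℕ) = (({T.a, T.a * E.z} : Finset P) ×ˢ ({T.b, T.b * E.z} : Finset P)).card by
    rw [Finset.card_product, Finset.card_pair d4, Finset.card_pair d5]]
  refine E.card_DD T _ (fun p hp => ?_) fun p => ?_
  · simp only [Finset.mem_product, Finset.mem_insert, Finset.mem_singleton] at hp
    obtain ⟨h1 | h1, h2 | h2⟩ := hp <;> rw [h1, h2] <;>
      first
        | exact ⟨T.ha, T.hb⟩ | exact ⟨T.ha, E.inD_bz T⟩ | exact ⟨E.inD_az T, T.hb⟩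
        | exact ⟨E.inD_az T, E.inD_bz T⟩
  · simp only [Finset.mem_product, Finset.mem_insert, Finset.mem_singleton]
    rw [E.conj_dz T, E.conj_db T, ← E.inD_iff T, ← E.inD_iff T]
    constructor
    · rintro ⟨⟨hp, hp8⟩, ⟨hq, hq12⟩, h1, h2, i, hi⟩
      have hpz : Commute (p.1 : P) E.z := congrArg Subtype.val h1
      have hqz : Commute (p.2 : P) E.z := congrArg Subtype.val h2
      have hne := (E.half_z_iff T hp hq hpz hqz).1 ⟨i, congrArg Subtype.val hi⟩
      constructor
      · rcases T.list _ hp hpz with h | h | h | h | h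
        · exact absurd h hne.1
        · exact Or.inl h
        · exact Or.inr h
        · rw [h, T.nb] at hp8; omega
        · rw [h, T.nbz] at hp8; omega
      · rcases T.list _ hq hqz with h | h | h | h | h
        · exact absurd h hne.2.1
        · rw [h, T.na] at hq12; omega
        · rw [h, T.naz] at hq12; omega
        · exact Or.inl h
        · exact Or.inr h
    · rintro ⟨hp, hq⟩
      have hp' : E.InD (p.1 : P) ∧ Commute (p.1 : P) E.z ∧ E.nn (p.1 : P) E.k = 8 := by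
        rcases hp with h | h <;> rw [h]
        · exact ⟨T.ha, T.az, T.na⟩
        · exact ⟨E.inD_az T, T.az.mul_left (Commute.refl _), T.naz⟩
      have hq' : E.InD (p.2 : P) ∧ Commute (p.2 : P) E.z ∧ E.nn (p.2 : P) E.k = 12 := by
        rcases hq with h | h <;> rw [h]
        · exact ⟨T.hb, T.bz, T.nb⟩
        · exact ⟨E.inD_bz T, T.bz.mul_left (Commute.refl _), T.nbz⟩
      obtain ⟨d1, d2, -⟩ := E.distinct T
      have n1 : (p.1 : P) ≠ E.z := by
        rcases hp with e | e <;> rw [e]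
        · exact d1
        · exact d2
      have n2 : (p.2 : P) ≠ E.z := fun h => by have := hq'.2.2; rw [h, E.nn_z_k] at this; omega
      have n3 : (p.1 : P) ≠ p.2 := fun h => by have := hq'.2.2; rw [← h, hp'.2.2] at this; omega
      obtain ⟨i, hi⟩ := (E.half_z_iff T hp'.1 hq'.1 hp'.2.1 hq'.2.1).2 ⟨n1, n2, n3⟩
      exact ⟨⟨hp'.1, hp'.2.2⟩, ⟨hq'.1, hq'.2.2⟩, Subtype.ext hp'.2.1.eq, Subtype.ext hq'.2.1.eq, i,
        Subtype.ext hi⟩

theorem half_z : Nat.card (Half (E.dz T)) = 12 := by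
  classical
  obtain ⟨d1, d2, d3, d4, d5, d6, d7, d8, d9⟩ := E.distinct T
  set S : Finset P := {T.a, T.a * E.z, T.b, T.b * E.z} with hS
  have hcard : S.card = 4 := by
    rw [hS, Finset.card_insert_of_notMem (by simp [d4, d6, d7]),
      Finset.card_insert_of_notMem (by simp [d8, d9]), Finset.card_pair d5]
  have hmem : ∀ x, x ∈ S ↔ E.InD x ∧ Commute x E.z ∧ x ≠ E.z := by
    intro x
    simp only [hS, Finset.mem_insert, Finset.mem_singleton]
    constructor
    · rintro (rfl | rfl | rfl | rfl)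
      · exact ⟨T.ha, T.az, d1⟩
      · exact ⟨E.inD_az T, T.az.mul_left (Commute.refl _), d2⟩
      · exact ⟨T.hb, T.bz, E.b_ne_z T⟩
      · exact ⟨E.inD_bz T, T.bz.mul_left (Commute.refl _), d3⟩
    · rintro ⟨h1, h2, h3⟩
      rcases T.list x h1 h2 with h | h | h | h | h
      · exact absurd h h3
      all_goals tauto
  rw [show (12 : ℕ) = S.offDiag.card by rw [Finset.offDiag_card, hcard]]
  refine E.card_DD T _ (fun p hp => ?_) fun p => ?_
  · rw [Finset.mem_offDiag] at hp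
    exact ⟨((hmem _).1 hp.1).1, ((hmem _).1 hp.2.1).1⟩
  · rw [Finset.mem_offDiag, hmem, hmem, ← E.inD_iff T, ← E.inD_iff T]
    constructor
    · rintro ⟨hp, hq, h1, h2, i, hi⟩
      have hpz : Commute (p.1 : P) E.z := congrArg Subtype.val h1
      have hqz : Commute (p.2 : P) E.z := congrArg Subtype.val h2
      obtain ⟨a, b, c⟩ := (E.half_z_iff T hp hq hpz hqz).1 ⟨i, congrArg Subtype.val hi⟩
      exact ⟨⟨hp, hpz, a⟩, ⟨hq, hqz, b⟩, c⟩
    · rintro ⟨⟨hp, hpz, a⟩, ⟨hq, hqz, b⟩, c⟩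
      obtain ⟨i, hi⟩ := (E.half_z_iff T hp hq hpz hqz).2 ⟨a, b, c⟩
      exact ⟨hp, hq, Subtype.ext hpz.eq, Subtype.ext hqz.eq, i, Subtype.ext hi⟩

/-- There are three involutions of the first kind in `C_D(b)`. -/
theorem exists_F : ∃ F : Finset P, F.card = 3 ∧
    (∀ x, x ∈ F ↔ E.InD x ∧ Commute x T.b ∧ E.nn x E.k = 8) ∧
    ∃ G : Finset P, G.card = 3 ∧
      ∀ x, x ∈ G ↔ E.InD x ∧ Commute x T.b ∧ E.nn x E.k = 12 ∧ x ≠ T.b := by
  classical
  haveI := Fintype.ofFinite P
  set F := Finset.univ.filter (fun x => E.InD x ∧ Commute x T.b ∧ E.nn x E.k = 8) with hF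
  set G := Finset.univ.filter (fun x => E.InD x ∧ Commute x T.b ∧ E.nn x E.k = 12 ∧ x ≠ T.b) with hG
  set A := Finset.univ.filter (fun x => E.InD x ∧ Commute x T.b) with hA
  have b2 := invol_mul_self T.hb.2.1
  have h7 : A.card = 7 := by
    rw [hA, ← Fintype.card_subtype, ← Nat.card_eq_fintype_card, ← E.invol_l]
    rcases E.norm_pair T.hb.1 T.hb.2.1 E.kQ E.ord_k T.hb.2.2 with ⟨e, -, -, h⟩ | ⟨e, he, hek, -⟩
    · rw [T.nb] at h; omega
    · have cancel : ∀ v : P, e⁻¹ * (e * v * e⁻¹) * e⁻¹⁻¹ = v := fun v => by group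
      have back : ∀ v w : P, Commute v (e * w * e⁻¹) → Commute (e⁻¹ * v * e⁻¹⁻¹) w := fun v w h => by
        have := commute_conj h e⁻¹
        rwa [cancel] at this
      refine Nat.card_congr
        { toFun := fun x => ⟨e * (x : P) * e⁻¹, (E.toPairCore.conj_iff _ _).2 x.2.1.1,
            by rw [orderOf_conj, x.2.1.2.1], ?_, ?_⟩
          invFun := fun x => ⟨e⁻¹ * (x : P) * e⁻¹⁻¹, ⟨(E.toPairCore.conj_iff _ _).2 x.2.1,
            by rw [orderOf_conj, x.2.2.1], ?_⟩, ?_⟩
          left_inv := fun x => Subtype.ext (by group)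
          right_inv := fun x => Subtype.ext (by group) }
      · have := commute_conj x.2.2 e; rwa [he] at this
      · have := commute_conj x.2.1.2.2 e; rwa [hek] at this
      · exact back _ _ (by rw [hek]; exact x.2.2.2.2)
      · exact back _ _ (by rw [he]; exact x.2.2.2.1)
  have hsplit : A = insert T.b (F ∪ G) := by
    ext x
    simp only [hA, hF, hG, Finset.mem_filter, Finset.mem_univ, true_and, Finset.mem_insert,
      Finset.mem_union]
    constructor
    · rintro ⟨h1, h2⟩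
      by_cases hx : x = T.b
      · exact Or.inl hx
      · rcases E.nn_cases h1 with h | h
        · exact Or.inr (Or.inl ⟨h1, h2, h⟩)
        · exact Or.inr (Or.inr ⟨h1, h2, h, hx⟩)
    · rintro (rfl | ⟨h1, h2, -⟩ | ⟨h1, h2, -, -⟩)
      · exact ⟨T.hb, Commute.refl _⟩
      · exact ⟨h1, h2⟩
      · exact ⟨h1, h2⟩
  have hFG : F.card = G.card := by
    refine Finset.card_nbij' (fun x => x * T.b) (fun x => x * T.b) ?_ ?_
      (fun x _ => by show x * T.b * T.b = x; rw [mul_assoc, b2, mul_one])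
      (fun x _ => by show x * T.b * T.b = x; rw [mul_assoc, b2, mul_one])
    · intro x hx
      simp only [hF, hG, Finset.coe_filter, Finset.mem_univ, true_and, Set.mem_ofPred_eq] at hx ⊢
      have hne : x ≠ T.b := fun h => by have := hx.2.2; rw [h, T.nb] at this; omega
      obtain ⟨h1, h2⟩ := E.flip T hx.1 hx.2.1 hne
      exact ⟨h1, hx.2.1.mul_left (Commute.refl _), by rw [h2, hx.2.2],
        fun h => invol_ne_one hx.1.2.1 (mul_eq_right.1 h)⟩
    · intro x hx
      simp only [hF, hG, Finset.coe_filter, Finset.mem_univ, true_and, Set.mem_ofPred_eq] at hx ⊢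
      obtain ⟨h1, h2⟩ := E.flip T hx.1 hx.2.1 hx.2.2.2
      exact ⟨h1, hx.2.1.mul_left (Commute.refl _), by rw [h2, hx.2.2.1]⟩
  have hdis : Disjoint F G := Finset.disjoint_left.2 fun x h1 h2 => by
    simp only [hF, hG, Finset.mem_filter, Finset.mem_univ, true_and] at h1 h2
    omega
  have hbn : T.b ∉ F ∪ G := by
    intro h
    simp [hF, hG, T.nb] at h
  rw [hsplit, Finset.card_insert_of_notMem hbn, Finset.card_union_of_disjoint hdis] at h7
  exact ⟨F, by omega, fun x => by simp [hF], G, by omega, fun x => by simp [hG]⟩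

theorem pair_b : Nat.card (Pair (E.dz T) (E.db T) (E.db T)) = 9 := by
  classical
  obtain ⟨F, hF3, hF, G, hG3, hG⟩ := E.exists_F T
  rw [show (9 : ℕ) = (F ×ˢ G).card by rw [Finset.card_product, hF3, hG3]]
  refine E.card_DD T _ (fun p hp => ?_) fun p => ?_
  · rw [Finset.mem_product, hF, hG] at hp
    exact ⟨hp.1.1, hp.2.1⟩
  · rw [Finset.mem_product, hF, hG, E.conj_dz T, E.conj_db T, ← E.inD_iff T, ← E.inD_iff T]
    constructor
    · rintro ⟨⟨hp, hp8⟩, ⟨hq, hq12⟩, h1, h2, i, hi⟩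
      have hpb : Commute (p.1 : P) T.b := congrArg Subtype.val h1
      have hqb : Commute (p.2 : P) T.b := congrArg Subtype.val h2
      exact ⟨⟨hp, hpb, hp8⟩, hq, hqb, hq12,
        ((E.half_b_iff T hp hq hpb hqb).1 ⟨i, congrArg Subtype.val hi⟩).2.1⟩
    · rintro ⟨⟨hp, hpb, hp8⟩, hq, hqb, hq12, hqn⟩
      obtain ⟨i, hi⟩ := (E.half_b_iff T hp hq hpb hqb).2
        ⟨fun h => by rw [h, T.nb] at hp8; omega, hqn, by omega⟩
      exact ⟨⟨hp, hp8⟩, ⟨hq, hq12⟩, Subtype.ext hpb.eq, Subtype.ext hqb.eq, i, Subtype.ext hi⟩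

theorem half_b_count : Nat.card (Half (E.db T)) = 18 := by
  classical
  obtain ⟨F, hF3, hF, G, hG3, hG⟩ := E.exists_F T
  have hdis : Disjoint (F ×ˢ G) (G ×ˢ F) := Finset.disjoint_left.2 fun x h1 h2 => by
    simp only [Finset.mem_product, hF, hG] at h1 h2
    omega
  rw [show (18 : ℕ) = (F ×ˢ G ∪ G ×ˢ F).card by
    rw [Finset.card_union_of_disjoint hdis, Finset.card_product, Finset.card_product, hF3, hG3]]
  refine E.card_DD T _ (fun p hp => ?_) fun p => ?_
  · simp only [Finset.mem_union, Finset.mem_product, hF, hG] at hp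
    rcases hp with h | h <;> exact ⟨h.1.1, h.2.1⟩
  · simp only [Finset.mem_union, Finset.mem_product, hF, hG]
    rw [← E.inD_iff T, ← E.inD_iff T]
    constructor
    · rintro ⟨hp, hq, h1, h2, i, hi⟩
      have hpb : Commute (p.1 : P) T.b := congrArg Subtype.val h1
      have hqb : Commute (p.2 : P) T.b := congrArg Subtype.val h2
      obtain ⟨a, b, c⟩ := (E.half_b_iff T hp hq hpb hqb).1 ⟨i, congrArg Subtype.val hi⟩
      rcases E.nn_cases hp with h | h <;> rcases E.nn_cases hq with h' | h'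
      · omega
      · exact Or.inl ⟨⟨hp, hpb, h⟩, hq, hqb, h', b⟩
      · exact Or.inr ⟨⟨hp, hpb, h, a⟩, hq, hqb, h'⟩
      · omega
    · rintro (⟨⟨hp, hpb, h⟩, hq, hqb, h', hn⟩ | ⟨⟨hp, hpb, h, hn⟩, hq, hqb, h'⟩)
      · obtain ⟨i, hi⟩ := (E.half_b_iff T hp hq hpb hqb).2
          ⟨fun e => by rw [e, T.nb] at h; omega, hn, by omega⟩
        exact ⟨hp, hq, Subtype.ext hpb.eq, Subtype.ext hqb.eq, i, Subtype.ext hi⟩
      · obtain ⟨i, hi⟩ := (E.half_b_iff T hp hq hpb hqb).2
          ⟨hn, fun e => by rw [e, T.nb] at h'; omega, by omega⟩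
        exact ⟨hp, hq, Subtype.ext hpb.eq, Subtype.ext hqb.eq, i, Subtype.ext hi⟩

theorem card_D_pairs :
    Nat.card ↥(E.Q ⊓ centralizer ({E.k} : Set P)) = 120 ∧
    Nat.card {p : ↥(E.Q ⊓ centralizer ({E.k} : Set P)) × ↥(E.Q ⊓ centralizer ({E.k} : Set P)) //
      orderOf p.1 = 2 ∧ orderOf p.2 = 2 ∧ Odd (orderOf (p.1 * p.2))} = 265 := by
  classical
  have ha : orderOf (E.dz T) = 2 := (E.inD_iff T _).1 E.inD_z
  have hb : orderOf (E.db T) = 2 := (E.inD_iff T _).1 T.hb
  have hab : ¬ IsConj (E.dz T) (E.db T) := fun h => by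
    have h1 : E.nn T.b E.k = 8 := ((E.conj_dz T _).1 h).2
    rw [T.nb] at h1
    omega
  have hall : ∀ v, orderOf v = 2 → IsConj (E.dz T) v ∨ IsConj (E.db T) v := fun v hv => by
    rcases E.nn_cases ((E.inD_iff T v).2 hv) with h | h
    · exact Or.inl ((E.conj_dz T v).2 ⟨hv, h⟩)
    · exact Or.inr ((E.conj_db T v).2 ⟨hv, h⟩)
  have hca : Nat.card (centralizer ({E.dz T} : Set _)) = 8 := (E.card_cent T _).trans E.nn_z_k
  have hcb : Nat.card (centralizer ({E.db T} : Set _)) = 12 := (E.card_cent T _).trans T.nb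
  have hD := order_formula ha hb hab hall
  rw [hca, hcb, E.pair_z T, E.pair_b T] at hD
  have h120 : Nat.card ↥(E.Q ⊓ centralizer ({E.k} : Set P)) = 120 := by omega
  refine ⟨h120, ?_⟩
  have hne := card_even_pairs ha hb hab hall
  have i1 := (centralizer ({E.dz T} : Set _)).card_mul_index
  have i2 := (centralizer ({E.db T} : Set _)).card_mul_index
  rw [hca, h120] at i1
  rw [hcb, h120] at i2
  rw [E.half_z T, E.half_b_count T, CfsgLib.FgsB.card_isConj_eq_index, CfsgLib.FgsB.card_isConj_eq_index,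
    show (centralizer ({E.dz T} : Set _)).index = 15 by omega,
    show (centralizer ({E.db T} : Set _)).index = 10 by omega] at hne
  haveI := Fintype.ofFinite ↥(E.Q ⊓ centralizer ({E.k} : Set P))
  set I := (Finset.univ : Finset ↥(E.Q ⊓ centralizer ({E.k} : Set P))).filter (fun x => orderOf x = 2) with hI
  have hI25 : I.card = 25 := by
    have e : I = (Finset.univ.filter fun x => IsConj (E.dz T) x) ∪
        (Finset.univ.filter fun x => IsConj (E.db T) x) := by
      ext x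
      simp only [hI, Finset.mem_filter, Finset.mem_univ, true_and, Finset.mem_union]
      exact ⟨hall x, fun h => h.elim (fun h => ((E.conj_dz T x).1 h).1) fun h => ((E.conj_db T x).1 h).1⟩
    rw [e, Finset.card_union_of_disjoint (Finset.disjoint_left.2 fun x h1 h2 => by
      simp only [Finset.mem_filter, Finset.mem_univ, true_and] at h1 h2
      exact hab (h1.trans h2.symm)), ← Fintype.card_subtype, ← Fintype.card_subtype,
      ← Nat.card_eq_fintype_card, ← Nat.card_eq_fintype_card, CfsgLib.FgsB.card_isConj_eq_index,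
      CfsgLib.FgsB.card_isConj_eq_index]
    omega
  have htot := Finset.card_filter_add_card_filter_not (s := I ×ˢ I) (fun p => Even (orderOf (p.1 * p.2)))
  rw [Finset.card_product, hI25] at htot
  rw [Nat.card_eq_fintype_card, Fintype.card_subtype] at hne ⊢
  have e1 : (I ×ˢ I).filter (fun p => Even (orderOf (p.1 * p.2))) =
      Finset.univ.filter fun p => orderOf p.1 = 2 ∧ orderOf p.2 = 2 ∧ Even (orderOf (p.1 * p.2)) := by
    ext p; simp [hI, and_assoc]
  have e2 : (I ×ˢ I).filter (fun p => ¬ Even (orderOf (p.1 * p.2))) =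
      Finset.univ.filter fun p => orderOf p.1 = 2 ∧ orderOf p.2 = 2 ∧ Odd (orderOf (p.1 * p.2)) := by
    ext p; simp [hI, and_assoc, Nat.not_even_iff_odd]
  rw [e1, e2] at htot
  omega

end TenData

theorem card_Q_ten {P : Type u} [Group P] [Finite P] (E : TenData P) : Nat.card E.Q = 133200 := by
  obtain ⟨T⟩ := E.exists_frame
  obtain ⟨h1, h2⟩ := E.card_D_pairs T
  have hout : ∀ v : P, v ∉ E.Q → orderOf v = 2 → IsConj E.k v := fun v => E.one_class
  have hP := E.toPairCore.card_P hout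
  rw [E.toPairCore.card_pair_k hout, h2, E.card_pairs,
    E.toPairCore.half_Q (mem_centralizer_singleton_iff.2 rfl), h1] at hP
  have h := E.Q.card_mul_index
  rw [E.index, hP] at h
  omega

/-- Piece D. -/
theorem tenOrder : StmtTenOrder.{u} := by
  intro P _ _ E
  classical
  haveI : Fact (Nat.Prime 37) := ⟨by norm_num⟩
  haveI : Fact (Nat.Prime 2) := ⟨Nat.prime_two⟩
  have hQ := card_Q_ten E
  let S : Sylow 37 E.Q := default
  have hS : Nat.card (S : Subgroup E.Q) = 37 := by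
    rw [S.card_eq_multiplicity, hQ, show (133200 : ℕ) = 37 * 3600 by norm_num,
      Nat.factorization_mul (by norm_num) (by norm_num), Finsupp.add_apply,
      (show Nat.Prime 37 by norm_num).factorization_self,
      Nat.factorization_eq_zero_of_not_dvd (show ¬ 37 ∣ 3600 by norm_num)]
    norm_num
  set N := normalizer (S : Set E.Q) with hN
  have hn : 16 ∣ Nat.card N := by
    have h1 := card_sylow_modEq_one 37 E.Q
    have h2 := S.card_dvd_index
    have h3 := (S : Subgroup E.Q).card_mul_index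
    rw [hS, hQ] at h3
    rw [show (S : Subgroup E.Q).index = 3600 by omega] at h2
    have key : ∀ i < 3601, i ∣ 3600 → i % 37 = 1 → i = 1 ∨ i = 75 := by decide +kernel
    have h4 := N.card_mul_index
    rw [hN, ← S.card_eq_index_normalizer, hQ] at h4
    rcases key _ (Nat.lt_succ_of_le (Nat.le_of_dvd (by norm_num) h2)) h2 h1 with h | h <;>
      rw [h] at h4 <;> exact Nat.dvd_of_mod_eq_zero (by rw [hN]; omega)
  have hodd : ¬ 2 ∣ Nat.card (centralizer ((S : Subgroup E.Q) : Set E.Q)) := by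
    intro h
    obtain ⟨⟨v, hv⟩, hv2⟩ := exists_prime_orderOf_dvd_card' (G := centralizer ((S : Subgroup E.Q) : Set E.Q)) 2 h
    rw [Subgroup.orderOf_mk] at hv2
    obtain ⟨⟨y, hy⟩, hy37⟩ := exists_prime_orderOf_dvd_card' (G := (S : Subgroup E.Q)) 37 (by rw [hS])
    rw [Subgroup.orderOf_mk] at hy37
    have hvy : Commute (v : P) (y : P) := congrArg Subtype.val ((Subgroup.mem_centralizer_iff.1 hv y hy).symm)
    obtain ⟨c, hc⟩ := isConj_iff.1 (E.toPairCore.inner_conj v.2 (by rw [Subgroup.orderOf_coe]; exact hv2)).symm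
    have hyz := commute_conj hvy c
    rw [hc] at hyz
    have hd := Subgroup.orderOf_dvd_natCard (centralizer ({E.z} : Set P))
      (x := c * (y : P) * c⁻¹) (mem_centralizer_singleton_iff.2 hyz.symm.eq)
    rw [orderOf_conj, Subgroup.orderOf_coe, hy37, E.card_z] at hd
    norm_num at hd
  have hker := (normalizerMonoidHom (S : Subgroup E.Q)).ker.card_mul_index
  rw [Subgroup.index_ker] at hker
  have hr : Nat.card (normalizerMonoidHom (S : Subgroup E.Q)).range ∣ 36 := by
    haveI : IsCyclic (S : Subgroup E.Q) := isCyclic_of_prime_card hS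
    have := Subgroup.card_subgroup_dvd_card (normalizerMonoidHom (S : Subgroup E.Q)).range
    rwa [IsCyclic.card_mulAut, hS, Nat.totient_prime (by norm_num)] at this
  have hk : ¬ 2 ∣ Nat.card (normalizerMonoidHom (S : Subgroup E.Q)).ker := by
    rw [normalizerMonoidHom_ker, Nat.card_congr
      (subgroupOfEquivOfLe (centralizer_le_normalizer _)).toEquiv]
    exact hodd
  replace hn : 16 ∣ Nat.card (normalizerMonoidHom (S : Subgroup E.Q)).ker *
      Nat.card (normalizerMonoidHom (S : Subgroup E.Q)).range := by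
    rw [hker]; exact hn
  have h16 : 16 ∣ Nat.card (normalizerMonoidHom (S : Subgroup E.Q)).range :=
    (Nat.Coprime.pow_left 4 ((Nat.Prime.coprime_iff_not_dvd Nat.prime_two).2 hk) : Nat.Coprime (2 ^ 4) _).dvd_of_dvd_mul_left hn
  have := h16.trans hr
  norm_num at this

end CfsgLib.AltTwoCent
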