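import Cfsg.Agent.Lib.AltTwoCent.Cover
import Cfsg.Agent.Lib.AltTwoCent.Big
import Cfsg.Agent.Lib.AltTwoCent.TenOrder

/-!
# S1645: assembly
-/

set_option autoImplicit false
set_option linter.style.haveILetI false

namespace CfsgLib.AltTwoCent

open Subgroup

universe u

/-- The degree is `8` or `11`, given the pieces for the degrees nine and ten. -/
theorem main_of (hF : StmtFused.{u}) (h9 : StmtNineData.{u}) (h10 : StmtTenData.{u})
    (hE : StmtNineOrder.{u}) (hL : StmtNineLocal.{u})
    {G : Type u} [Group G] [Finite G] [IsSimpleGroup G] (n : ℕ) (hn : 5 ≤ n) (z : G)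
    (hz : orderOf z = 2)
    (hcov : Cfsg.IsNonsplitDoubleCover (centralizer ({z} : Set G)) (alternatingGroup (Fin n))) :
    n = 8 ∨ n = 11 := by
  obtain ⟨h8, D, -⟩ := cov G n z hn hz hcov
  by_contra h
  push Not at h
  rcases Nat.lt_or_ge n 12 with h12 | h12
  · obtain ⟨F⟩ := hF G n D (by omega)
    rcases (show n = 9 ∨ n = 10 by omega) with rfl | rfl
    · exact hL h9 hE G D F
    · obtain ⟨E⟩ := h10 G D F
      exact tenOrder _ E
  · exact big G n h12 D

end CfsgLib.AltTwoCent
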