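import Mathlib
import Cfsg.Agent.Lib.FgsB.Basic
import Cfsg.Agent.Lib.Involutions.Dihedral

/-!
# Counting with two classes of involutions
-/

set_option autoImplicit false
set_option linter.unusedSectionVars false
set_option linter.style.haveILetI false

namespace CfsgLib.AltTwoCent

open CfsgLib.Involutions

universe u

theorem conj_comm {G : Type u} [Group G] {h a b : G} (e : a * b = b * a) :
    h * a * h⁻¹ * (h * b * h⁻¹) = h * b * h⁻¹ * (h * a * h⁻¹) := by
  rw [show h * a * h⁻¹ * (h * b * h⁻¹) = h * (a * b) * h⁻¹ by group, e]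
  group

/-! ### The order formula for two classes of involutions -/

section Formula

variable {G : Type u} [Group G] [Finite G]

/-- The pairs from two classes whose product has `x` as a power. -/
def Pair (a b x : G) : Type u :=
  {p : G × G // IsConj a p.1 ∧ IsConj b p.2 ∧ p.1 * x = x * p.1 ∧ p.2 * x = x * p.2 ∧
    ∃ i : ℕ, (p.1 * p.2) ^ i = x}

theorem pair_conj (a b x k : G) :
    Nat.card (Pair a b x) = Nat.card (Pair a b (k * x * k⁻¹)) := by
  have key : ∀ (x k : G) (p : G × G), (IsConj a p.1 ∧ IsConj b p.2 ∧ p.1 * x = x * p.1 ∧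
      p.2 * x = x * p.2 ∧ ∃ i : ℕ, (p.1 * p.2) ^ i = x) →
      IsConj a (k * p.1 * k⁻¹) ∧ IsConj b (k * p.2 * k⁻¹) ∧
        k * p.1 * k⁻¹ * (k * x * k⁻¹) = k * x * k⁻¹ * (k * p.1 * k⁻¹) ∧
        k * p.2 * k⁻¹ * (k * x * k⁻¹) = k * x * k⁻¹ * (k * p.2 * k⁻¹) ∧
        ∃ i : ℕ, (k * p.1 * k⁻¹ * (k * p.2 * k⁻¹)) ^ i = k * x * k⁻¹ := by
    rintro x k p ⟨h1, h2, h3, h4, i, hi⟩
    refine ⟨h1.trans (isConj_iff.2 ⟨k, rfl⟩), h2.trans (isConj_iff.2 ⟨k, rfl⟩), conj_comm h3,
      conj_comm h4, i, ?_⟩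
    rw [show k * p.1 * k⁻¹ * (k * p.2 * k⁻¹) = k * (p.1 * p.2) * k⁻¹ by group, conj_pow, hi]
  refine Nat.card_congr
    { toFun := fun p => ⟨(k * p.1.1 * k⁻¹, k * p.1.2 * k⁻¹), key x k p.1 p.2⟩
      invFun := fun p => ⟨(k⁻¹ * p.1.1 * k⁻¹⁻¹, k⁻¹ * p.1.2 * k⁻¹⁻¹), by
        have h := key _ k⁻¹ p.1 p.2
        rwa [show k⁻¹ * (k * x * k⁻¹) * k⁻¹⁻¹ = x by group] at h⟩
      left_inv := fun p => Subtype.ext (Prod.ext (by group) (by group))
      right_inv := fun p => Subtype.ext (Prod.ext (by group) (by group)) }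

theorem order_formula {a b : G} (ha : orderOf a = 2) (hb : orderOf b = 2) (hab : ¬ IsConj a b)
    (hall : ∀ v : G, orderOf v = 2 → IsConj a v ∨ IsConj b v) :
    Nat.card G = Nat.card (Subgroup.centralizer ({b} : Set G)) * Nat.card (Pair a b a) +
      Nat.card (Subgroup.centralizer ({a} : Set G)) * Nat.card (Pair a b b) := by
  classical
  haveI := Fintype.ofFinite G
  haveI : ∀ x : G, Finite (Pair a b x) := fun x => Subtype.finite
  -- every pair singles out one involution
  have inv_of : ∀ {a u : G}, orderOf a = 2 → IsConj a u → orderOf u = 2 := fun {a u} ha h => by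
    obtain ⟨k, rfl⟩ := isConj_iff.1 h
    exact ((MulAut.conj k).orderOf_eq a).trans ha
  have huniq : ∀ {w x y : G} {i j : ℕ}, orderOf x = 2 → orderOf y = 2 → w ^ i = x → w ^ j = y →
      x = y := by
    intro w x y i j hx hy hi hj
    have hn : 0 < orderOf w := orderOf_pos w
    have key : ∀ {x : G} {i : ℕ}, orderOf x = 2 → w ^ i = x →
        Even (orderOf w) ∧ x = w ^ (orderOf w / 2) := by
      intro x i hx hi
      subst hi
      have h2 : orderOf w ∣ i * 2 := orderOf_dvd_of_pow_eq_one (by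
        rw [pow_mul, ← hx, pow_orderOf_eq_one])
      have h1 : ¬ orderOf w ∣ i := fun h => by
        rw [orderOf_dvd_iff_pow_eq_one.1 h, orderOf_one] at hx
        norm_num at hx
      obtain ⟨c, hc⟩ := h2
      have he : Even (orderOf w) := by
        by_contra ho
        rw [Nat.not_even_iff_odd] at ho
        exact h1 ((Nat.coprime_two_right.2 ho).dvd_of_dvd_mul_right ⟨c, hc⟩)
      obtain ⟨m, hm⟩ := he
      refine ⟨⟨m, hm⟩, ?_⟩
      have hi2 : i = m * c := by
        have e : (m + m) * c = m * c + m * c := by ring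
        rw [hm] at hc
        omega
      have hcodd : Odd c := by
        by_contra hce
        obtain ⟨d, rfl⟩ := Nat.not_odd_iff_even.1 hce
        exact h1 ⟨d, by rw [hi2, hm]; ring⟩
      rw [show orderOf w / 2 = m by omega, hi2, pow_mul]
      obtain ⟨d, rfl⟩ := hcodd
      rw [pow_succ, pow_mul, ← pow_mul w, show m * 2 = orderOf w by omega, pow_orderOf_eq_one,
        one_pow, one_mul]
    rw [(key hx hi).2, (key hy hj).2]
  let I := {x : G // orderOf x = 2}
  haveI : Finite I := Subtype.finite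
  have e1 : Nat.card ({u : G // IsConj a u} × {v : G // IsConj b v}) =
      Nat.card (Σ x : I, Pair a b x.1) := by
    symm
    refine Nat.card_eq_of_bijective
      (fun s => (⟨s.2.1.1, s.2.2.1⟩, ⟨s.2.1.2, s.2.2.2.1⟩)) ⟨?_, ?_⟩
    · rintro ⟨x, ⟨p, hp⟩⟩ ⟨y, ⟨q, hq⟩⟩ h
      have hpq : p = q := Prod.ext (congrArg (fun r => r.1.1) h) (congrArg (fun r => r.2.1) h)
      subst hpq
      obtain ⟨-, -, -, -, i, hi⟩ := hp
      obtain ⟨-, -, -, -, j, hj⟩ := id hq
      obtain rfl : x = y := Subtype.ext (huniq x.2 y.2 hi hj)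
      rfl
    · rintro ⟨⟨u, hu⟩, ⟨v, hv⟩⟩
      have hu2 := inv_of ha hu
      have hv2 := inv_of hb hv
      have heven : Even (orderOf (u * v)) := by
        by_contra ho
        exact hab ((hu.trans (isConj_of_odd_prod hu2 hv2 (Nat.not_even_iff_odd.1 ho))).trans hv.symm)
      exact ⟨⟨⟨_, half_invol heven⟩, ⟨(u, v), hu, hv, (half_comm_left hu2 hv2 heven).eq.symm,
        (half_comm_right hu2 hv2 heven).eq.symm, _, rfl⟩⟩, rfl⟩
  haveI : Fintype I := Fintype.ofFinite I
  rw [Nat.card_prod, Nat.card_sigma] at e1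
  have e2 : ∑ x : I, Nat.card (Pair a b x.1) =
      Nat.card {u : G // IsConj a u} * Nat.card (Pair a b a) +
      Nat.card {v : G // IsConj b v} * Nat.card (Pair a b b) := by
    rw [← Finset.sum_filter_add_sum_filter_not Finset.univ (fun x : I => IsConj a x.1)]
    congr 1
    · rw [Finset.sum_congr rfl (g := fun _ => Nat.card (Pair a b a)) (fun x hx => by
        obtain ⟨k, hk⟩ := isConj_iff.1 (Finset.mem_filter.1 hx).2
        rw [← hk, ← pair_conj]), Finset.sum_const, smul_eq_mul]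
      congr 1
      rw [← Fintype.card_subtype, ← Nat.card_eq_fintype_card]
      exact Nat.card_congr
        { toFun := fun x => ⟨x.1.1, x.2⟩
          invFun := fun u => ⟨⟨u.1, inv_of ha u.2⟩, u.2⟩
          left_inv := fun x => rfl
          right_inv := fun u => rfl }
    · rw [Finset.sum_congr rfl (g := fun _ => Nat.card (Pair a b b)) (fun x hx => by
        obtain ⟨k, hk⟩ := isConj_iff.1 ((hall _ x.2).resolve_left (Finset.mem_filter.1 hx).2)
        rw [← hk, ← pair_conj]), Finset.sum_const, smul_eq_mul]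
      congr 1
      rw [← Fintype.card_subtype, ← Nat.card_eq_fintype_card]
      exact Nat.card_congr
        { toFun := fun x => ⟨x.1.1, (hall _ x.1.2).resolve_left x.2⟩
          invFun := fun u => ⟨⟨u.1, inv_of hb u.2⟩, fun h => hab (h.trans u.2.symm)⟩
          left_inv := fun x => rfl
          right_inv := fun u => rfl }
  rw [e2, CfsgLib.FgsB.card_isConj_eq_index, CfsgLib.FgsB.card_isConj_eq_index] at e1
  have h1 := (Subgroup.centralizer ({a} : Set G)).card_mul_index
  have h2 := (Subgroup.centralizer ({b} : Set G)).card_mul_index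
  have hpos : 0 < Nat.card G := Nat.card_pos
  refine Nat.eq_of_mul_eq_mul_left hpos ?_
  generalize Nat.card (Pair a b a) = P, Nat.card (Pair a b b) = Q at e1 ⊢
  generalize Nat.card (Subgroup.centralizer ({a} : Set G)) = ca,
    Nat.card (Subgroup.centralizer ({b} : Set G)) = cb,
    (Subgroup.centralizer ({a} : Set G)).index = ia,
    (Subgroup.centralizer ({b} : Set G)).index = ib at e1 h1 h2 ⊢
  calc Nat.card G * Nat.card G = (ca * cb) * (ia * ib) := by
        rw [show ca * cb * (ia * ib) = (ca * ia) * (cb * ib) by ring, h1, h2]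
    _ = (ca * cb) * (ia * P + ib * Q) := by rw [e1]
    _ = (ca * ia) * (cb * P) + (cb * ib) * (ca * Q) := by ring
    _ = _ := by rw [h1, h2]; ring

end Formula

section Even

variable {G : Type u} [Group G] [Finite G]

/-- The pairs of involutions commuting with `e` of whose product `e` is a power. -/
def Half (e : G) : Type u :=
  {p : G × G // orderOf p.1 = 2 ∧ orderOf p.2 = 2 ∧ p.1 * e = e * p.1 ∧ p.2 * e = e * p.2 ∧
    ∃ i : ℕ, (p.1 * p.2) ^ i = e}

theorem half_conj (e k : G) : Nat.card (Half e) = Nat.card (Half (k * e * k⁻¹)) := by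
  have key : ∀ (e k : G) (p : G × G), (orderOf p.1 = 2 ∧ orderOf p.2 = 2 ∧ p.1 * e = e * p.1 ∧
      p.2 * e = e * p.2 ∧ ∃ i : ℕ, (p.1 * p.2) ^ i = e) →
      orderOf (k * p.1 * k⁻¹) = 2 ∧ orderOf (k * p.2 * k⁻¹) = 2 ∧
        k * p.1 * k⁻¹ * (k * e * k⁻¹) = k * e * k⁻¹ * (k * p.1 * k⁻¹) ∧
        k * p.2 * k⁻¹ * (k * e * k⁻¹) = k * e * k⁻¹ * (k * p.2 * k⁻¹) ∧
        ∃ i : ℕ, (k * p.1 * k⁻¹ * (k * p.2 * k⁻¹)) ^ i = k * e * k⁻¹ := by
    rintro e k p ⟨h1, h2, h3, h4, i, hi⟩
    refine ⟨((MulAut.conj k).orderOf_eq p.1).trans h1, ((MulAut.conj k).orderOf_eq p.2).trans h2,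
      by rw [show k * p.1 * k⁻¹ * (k * e * k⁻¹) = k * (p.1 * e) * k⁻¹ by group, h3]; group,
      by rw [show k * p.2 * k⁻¹ * (k * e * k⁻¹) = k * (p.2 * e) * k⁻¹ by group, h4]; group, i, ?_⟩
    rw [show k * p.1 * k⁻¹ * (k * p.2 * k⁻¹) = k * (p.1 * p.2) * k⁻¹ by group, conj_pow, hi]
  refine Nat.card_congr
    { toFun := fun p => ⟨(k * p.1.1 * k⁻¹, k * p.1.2 * k⁻¹), key e k p.1 p.2⟩
      invFun := fun p => ⟨(k⁻¹ * p.1.1 * k⁻¹⁻¹, k⁻¹ * p.1.2 * k⁻¹⁻¹), by
        have h := key _ k⁻¹ p.1 p.2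
        rwa [show k⁻¹ * (k * e * k⁻¹) * k⁻¹⁻¹ = e by group] at h⟩
      left_inv := fun p => Subtype.ext (Prod.ext (by group) (by group))
      right_inv := fun p => Subtype.ext (Prod.ext (by group) (by group)) }

theorem half_unique {w x y : G} {i j : ℕ} (hx : orderOf x = 2) (hy : orderOf y = 2)
    (hi : w ^ i = x) (hj : w ^ j = y) : x = y := by
  have hxy : x ∈ Subgroup.zpowers w := hi ▸ Subgroup.npow_mem_zpowers w i
  have hyy : y ∈ Subgroup.zpowers w := hj ▸ Subgroup.npow_mem_zpowers w j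
  haveI : IsCyclic (Subgroup.zpowers w) := inferInstance
  classical
  haveI := Fintype.ofFinite (Subgroup.zpowers w)
  have h2 : 2 ∣ Fintype.card (Subgroup.zpowers w) := by
    rw [← Nat.card_eq_fintype_card, ← hx, show orderOf x = orderOf (⟨x, hxy⟩ : Subgroup.zpowers w)
      from (Subgroup.orderOf_mk x hxy).symm]
    exact orderOf_dvd_natCard _
  have h1 := IsCyclic.card_orderOf_eq_totient h2
  rw [Nat.totient_two, Finset.card_eq_one] at h1
  obtain ⟨c, hc⟩ := h1
  have ex : (⟨x, hxy⟩ : Subgroup.zpowers w) ∈ ({c} : Finset _) := hc ▸ by simp [hx]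
  have ey : (⟨y, hyy⟩ : Subgroup.zpowers w) ∈ ({c} : Finset _) := hc ▸ by simp [hy]
  rw [Finset.mem_singleton] at ex ey
  exact congrArg Subtype.val (ex.trans ey.symm)

/-- Every pair of involutions with product of even order singles out one involution. -/
theorem card_even_pairs {a b : G} (ha : orderOf a = 2) (hb : orderOf b = 2) (hab : ¬ IsConj a b)
    (hall : ∀ v : G, orderOf v = 2 → IsConj a v ∨ IsConj b v) :
    Nat.card {p : G × G // orderOf p.1 = 2 ∧ orderOf p.2 = 2 ∧ Even (orderOf (p.1 * p.2))} =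
      Nat.card {v : G // IsConj a v} * Nat.card (Half a) +
      Nat.card {v : G // IsConj b v} * Nat.card (Half b) := by
  classical
  haveI := Fintype.ofFinite G
  let I := {x : G // orderOf x = 2}
  haveI : ∀ x : G, Finite (Half x) := fun x => Subtype.finite
  have inv_of : ∀ {a u : G}, orderOf a = 2 → IsConj a u → orderOf u = 2 := fun {a u} ha h => by
    obtain ⟨k, rfl⟩ := isConj_iff.1 h
    exact ((MulAut.conj k).orderOf_eq a).trans ha
  have e1 : Nat.card {p : G × G // orderOf p.1 = 2 ∧ orderOf p.2 = 2 ∧ Even (orderOf (p.1 * p.2))} =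
      Nat.card (Σ x : I, Half x.1) := by
    symm
    refine Nat.card_eq_of_bijective (fun s => ⟨s.2.1, s.2.2.1, s.2.2.2.1, ?_⟩) ⟨?_, ?_⟩
    · obtain ⟨-, -, -, -, i, hi⟩ := s.2.2
      have h := orderOf_pow_dvd (x := s.2.1.1 * s.2.1.2) i
      rw [hi, s.1.2] at h
      exact even_iff_two_dvd.2 h
    · rintro ⟨x, ⟨p, hp⟩⟩ ⟨y, ⟨q, hq⟩⟩ h
      have hpq : p = q := congrArg Subtype.val h
      subst hpq
      obtain ⟨-, -, -, -, i, hi⟩ := hp
      obtain ⟨-, -, -, -, j, hj⟩ := id hq
      obtain rfl : x = y := Subtype.ext (half_unique x.2 y.2 hi hj)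
      rfl
    · rintro ⟨p, hu, hv, he⟩
      exact ⟨⟨⟨_, half_invol he⟩, ⟨p, hu, hv, (half_comm_left hu hv he).eq.symm,
        (half_comm_right hu hv he).eq.symm, _, rfl⟩⟩, rfl⟩
  haveI : Fintype I := Fintype.ofFinite I
  rw [e1, Nat.card_sigma, ← Finset.sum_filter_add_sum_filter_not Finset.univ
    (fun x : I => IsConj a x.1)]
  congr 1
  · rw [Finset.sum_congr rfl (g := fun _ => Nat.card (Half a)) (fun x hx => by
      obtain ⟨k, hk⟩ := isConj_iff.1 (Finset.mem_filter.1 hx).2
      rw [← hk, ← half_conj]), Finset.sum_const, smul_eq_mul]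
    congr 1
    rw [← Fintype.card_subtype, ← Nat.card_eq_fintype_card]
    exact Nat.card_congr
      { toFun := fun x => ⟨x.1.1, x.2⟩
        invFun := fun u => ⟨⟨u.1, inv_of ha u.2⟩, u.2⟩
        left_inv := fun x => rfl
        right_inv := fun u => rfl }
  · rw [Finset.sum_congr rfl (g := fun _ => Nat.card (Half b)) (fun x hx => by
      obtain ⟨k, hk⟩ := isConj_iff.1 ((hall _ x.2).resolve_left (Finset.mem_filter.1 hx).2)
      rw [← hk, ← half_conj]), Finset.sum_const, smul_eq_mul]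
    congr 1
    rw [← Fintype.card_subtype, ← Nat.card_eq_fintype_card]
    exact Nat.card_congr
      { toFun := fun x => ⟨x.1.1, (hall _ x.1.2).resolve_left x.2⟩
        invFun := fun u => ⟨⟨u.1, inv_of hb u.2⟩, fun h => hab (h.trans u.2.symm)⟩
        left_inv := fun x => rfl
        right_inv := fun u => rfl }

end Even

end CfsgLib.AltTwoCent
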