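import Cfsg.Agent.Lib.AltTwoCent.Defs
import Cfsg.Agent.Lib.AltTwoCent.BigPairs
import Cfsg.Agent.Lib.AltCover.Lift
import Cfsg.Agent.Lib.CharsMore.AltDoubleCoverInvolutions
import Cfsg.Agent.Lib.Involutions.ZStar.Main

/-!
# S1645, piece A: the facts about the double cover

The squares of the lifts of the involutions, lifting and commutation for elements of odd order, and
the fusion of `z` (the `Z*`-theorem).
-/

set_option autoImplicit false
set_option linter.style.haveILetI false
set_option linter.unusedSectionVars false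
set_option linter.unusedSimpArgs false

namespace CfsgLib.AltTwoCent

open Subgroup Equiv CfsgLib.AltCover

universe u

section Double

variable {m : ℕ} {H : Type*} [Group H] [Finite H] {φ : H →* alternatingGroup (Fin (m + 2))}

theorem cov_isDouble {n : ℕ} (hn : 5 ≤ n) {H : Type*} [Group H] [Finite H]
    (h : Cfsg.IsNonsplitDoubleCover H (alternatingGroup (Fin n))) :
    ∃ φ : H →* alternatingGroup (Fin n), IsDouble φ ∧ φ.ker = center H ∧ commutator H = ⊤ := by
  obtain ⟨hc, ⟨e⟩, hns⟩ := h
  have hker : (e.toMonoidHom.comp (QuotientGroup.mk' (center H))).ker = center H := by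
    ext x; simp [MonoidHom.mem_ker]
  refine ⟨e.toMonoidHom.comp (QuotientGroup.mk' (center H)), ?_, hker, ?_⟩
  · refine ⟨e.surjective.comp (QuotientGroup.mk'_surjective _), hker.le, ?_⟩
    rw [hker, hc]
  · haveI : IsSimpleGroup (alternatingGroup (Fin n)) :=
      alternatingGroup.isSimpleGroup (by rw [Nat.card_fin]; omega)
    have hmap : (commutator H).map (e.toMonoidHom.comp (QuotientGroup.mk' (center H))) = ⊤ := by
      rw [commutator_def, Subgroup.map_commutator,
        map_top_of_surjective _ (e.surjective.comp (QuotientGroup.mk'_surjective _)), ← commutator_def]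
      refine (IsSimpleGroup.eq_bot_or_eq_top_of_normal _ inferInstance).resolve_left fun hb => ?_
      rw [commutator_def, commutator_eq_bot_iff_le_centralizer] at hb
      have hne : ∀ i j : ℕ, (hi : i < n) → (hj : j < n) → i ≠ j → (⟨i, hi⟩ : Fin n) ≠ ⟨j, hj⟩ :=
        fun i j _ _ h e => h (congrArg Fin.val e)
      set a : Fin n := ⟨0, by omega⟩ with ha
      set b : Fin n := ⟨1, by omega⟩ with hb'
      set c : Fin n := ⟨2, by omega⟩ with hc'
      set d : Fin n := ⟨3, by omega⟩ with hd'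
      have hab : a ≠ b := hne _ _ _ _ (by omega)
      have hac : a ≠ c := hne _ _ _ _ (by omega)
      have had : a ≠ d := hne _ _ _ _ (by omega)
      have hbc : b ≠ c := hne _ _ _ _ (by omega)
      have hbd : b ≠ d := hne _ _ _ _ (by omega)
      have hcd : c ≠ d := hne _ _ _ _ (by omega)
      have h3 := (Perm.isThreeCycle_swap_mul_swap_same hab hac hbc).mem_alternatingGroup
      have h4 := (Perm.isThreeCycle_swap_mul_swap_same hab had hbd).mem_alternatingGroup
      have h2 := congrArg (fun y : alternatingGroup (Fin n) => (y : Perm (Fin n)) a)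
        (mem_centralizer_iff.1 (hb (mem_top (⟨_, h3⟩ : alternatingGroup (Fin n))))
          (⟨_, h4⟩ : alternatingGroup (Fin n)) (mem_top _))
      simp only [Subgroup.coe_mul, Perm.mul_apply, swap_apply_left,
        swap_apply_of_ne_of_ne hac.symm hbc.symm, swap_apply_of_ne_of_ne had.symm hbd.symm,
        swap_apply_of_ne_of_ne hac.symm hcd, swap_apply_of_ne_of_ne had.symm hcd.symm] at h2
      exact hcd h2
    by_contra hne
    have hsup : commutator H ⊔ center H = ⊤ := by
      have := congrArg (comap (e.toMonoidHom.comp (QuotientGroup.mk' (center H)))) hmap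
      rw [comap_map_eq, comap_top, hker] at this
      exact this
    have hinf : commutator H ⊓ center H = ⊥ := by
      by_contra hb
      have h2 := card_dvd_of_le (inf_le_right : commutator H ⊓ center H ≤ center H)
      rw [hc] at h2
      rcases (Nat.dvd_prime Nat.prime_two).1 h2 with h1 | h1
      · exact hb (card_eq_one.1 h1)
      · have he : commutator H ⊓ center H = center H :=
          eq_of_le_of_card_ge inf_le_right (by rw [h1, hc])
        rw [sup_eq_left.2 (he ▸ inf_le_left)] at hsup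
        exact hne hsup
    exact hns _ (isComplement'_of_disjoint_and_mul_eq_univ
      (disjoint_iff.2 (by rw [inf_comm]; exact hinf)) (by rw [← normal_mul, sup_comm, hsup]; rfl))

theorem cov_commute_of_odd {n : ℕ} {φ : H →* alternatingGroup (Fin n)} (hd : IsDouble φ) {x y : H}
    (hy : Odd (orderOf y)) (h : Commute (φ x) (φ y)) : Commute x y := by
  obtain ⟨t, ht, e⟩ := hd.eq_mul (show φ (x * y * x⁻¹) = φ y by
    rw [map_mul, map_mul, map_inv, h.eq, mul_inv_cancel_right])
  have h1 : (x * y * x⁻¹) ^ orderOf y = 1 := by rw [conj_pow, pow_orderOf_eq_one]; group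
  rw [e, (hd.comm_ker ht y).symm.mul_pow, pow_orderOf_eq_one, one_mul] at h1
  obtain ⟨k, hk⟩ := hy
  rw [hk, pow_succ, pow_mul, pow_two, hd.sq_one ht, one_pow, one_mul] at h1
  rw [h1, mul_one] at e
  exact mul_inv_eq_iff_eq_mul.1 e

theorem cov_odd_lift {n : ℕ} {φ : H →* alternatingGroup (Fin n)} (hd : IsDouble φ)
    {σ : alternatingGroup (Fin n)} (hσ : Odd (orderOf σ)) :
    ∃ x : H, φ x = σ ∧ orderOf x = orderOf σ := by
  obtain ⟨x, hx⟩ := hd.surj σ
  have h1 : φ (x ^ orderOf σ) = 1 := by rw [map_pow, hx, pow_orderOf_eq_one]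
  obtain ⟨k, hk⟩ := hσ
  have h2 : (x ^ orderOf σ) * (x ^ orderOf σ) = 1 := hd.sq_one h1
  have h3 : φ (x ^ (orderOf σ + 1)) = σ := by rw [pow_succ, map_mul, h1, one_mul, hx]
  refine ⟨x ^ (orderOf σ + 1), h3, Nat.dvd_antisymm ?_ ?_⟩
  · apply orderOf_dvd_of_pow_eq_one
    rw [← pow_mul, mul_comm, pow_mul, show orderOf σ + 1 = 2 * (k + 1) by omega, pow_mul, pow_two, h2,
      one_pow]
  · have h4 := orderOf_map_dvd φ (x ^ (orderOf σ + 1))
    rwa [h3] at h4

theorem dbl_mul_dbl {i j k l : Fin (m + 2)} (h : [i, j, k, l].Nodup) :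
    dbl i j k l * dbl i k j l = dbl i l j k := by
  simp only [List.nodup_cons, List.mem_cons, List.mem_nil_iff, or_false, not_or, List.nodup_nil,
    and_true, not_false_eq_true] at h
  obtain ⟨⟨hij, hik, hil⟩, ⟨hjk, hjl⟩, hkl⟩ := h
  ext x
  simp only [dbl, Perm.mul_apply]
  by_cases hxi : x = i
  · subst hxi; simp [swap_apply_def, hij, hik, hil, hjk, hjl, hkl, Ne.symm hij, Ne.symm hik,
      Ne.symm hil, Ne.symm hjk, Ne.symm hjl, Ne.symm hkl]
  by_cases hxj : x = j
  · subst hxj; simp [swap_apply_def, hij, hik, hil, hjk, hjl, hkl, Ne.symm hij, Ne.symm hik,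
      Ne.symm hil, Ne.symm hjk, Ne.symm hjl, Ne.symm hkl]
  by_cases hxk : x = k
  · subst hxk; simp [swap_apply_def, hij, hik, hil, hjk, hjl, hkl, Ne.symm hij, Ne.symm hik,
      Ne.symm hil, Ne.symm hjk, Ne.symm hjl, Ne.symm hkl]
  by_cases hxl : x = l
  · subst hxl; simp [swap_apply_def, hij, hik, hil, hjk, hjl, hkl, Ne.symm hij, Ne.symm hik,
      Ne.symm hil, Ne.symm hjk, Ne.symm hjl, Ne.symm hkl]
  simp [swap_apply_def, hxi, hxj, hxk, hxl]

theorem dbl_sq {i j k l : Fin (m + 2)} (h : [i, j, k, l].Nodup) :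
    dbl i j k l * dbl i j k l = 1 := by
  simp only [List.nodup_cons, List.mem_cons, List.mem_nil_iff, or_false, not_or, List.nodup_nil,
    and_true, not_false_eq_true] at h
  obtain ⟨⟨hij, hik, hil⟩, ⟨hjk, hjl⟩, hkl⟩ := h
  have hc := (Pairs.disjoint_swaps hij hkl hik hil hjk hjl).commute
  rw [dbl, hc.symm.mul_mul_mul_comm, swap_mul_self, swap_mul_self, one_mul]

theorem sq_dbl_congr (hd : IsDouble φ) {i j k l a b c d : Fin (m + 2)} (h : [i, j, k, l].Nodup)
    (h' : [a, b, c, d].Nodup) {U V : H} (hU : (φ U : Perm (Fin (m + 2))) = dbl i j k l)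
    (hV : (φ V : Perm (Fin (m + 2))) = dbl a b c d) : V * V = U * U := by
  obtain ⟨g, ga, gb, gc, gd⟩ := exists_perm_four h h'
  have hij : i ≠ j := by simp only [List.nodup_cons, List.mem_cons] at h; tauto
  have hik : i ≠ k := by simp only [List.nodup_cons, List.mem_cons] at h; tauto
  have hil : i ≠ l := by simp only [List.nodup_cons, List.mem_cons] at h; tauto
  have hjk : j ≠ k := by simp only [List.nodup_cons, List.mem_cons] at h; tauto
  have hjl : j ≠ l := by simp only [List.nodup_cons, List.mem_cons] at h; tauto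
  have hUU : φ U * φ U = 1 := Subtype.ext (by
    rw [Subgroup.coe_mul, hU, Subgroup.coe_one, dbl_sq h])
  have key : ∀ g : Perm (Fin (m + 2)), Perm.sign g = 1 → g * dbl i j k l * g⁻¹ = dbl a b c d →
      V * V = U * U := by
    intro g hg hc
    obtain ⟨W, hW⟩ := hd.surj ⟨g, Perm.mem_alternatingGroup.2 hg⟩
    have e : φ (W * U * W⁻¹) = φ V := by
      apply Subtype.ext
      rw [map_mul, map_mul, map_inv, hW, Subgroup.coe_mul, Subgroup.coe_mul, Subgroup.coe_inv, hU, hV]
      exact hc
    rw [← hd.sq_congr e, show W * U * W⁻¹ * (W * U * W⁻¹) = W * (U * U) * W⁻¹ by group,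
      ← (hd.sq_central hUU W).eq, mul_inv_cancel_right]
  rcases Int.units_eq_one_or (Perm.sign g) with hg | hg
  · exact key g hg (by rw [conj_dbl, ga, gb, gc, gd])
  · refine key (g * swap i j) (by rw [map_mul, hg, Perm.sign_swap hij]; rfl) ?_
    rw [conj_dbl]
    simp only [Perm.mul_apply, swap_apply_left, swap_apply_right,
      swap_apply_of_ne_of_ne (Ne.symm hik) (Ne.symm hjk),
      swap_apply_of_ne_of_ne (Ne.symm hil) (Ne.symm hjl), ga, gb, gc, gd]
    rw [dbl, dbl, swap_comm b a]

theorem cov_eq_or_eq {n : ℕ} {φ : H →* alternatingGroup (Fin n)} (hd : IsDouble φ) {t : H}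
    (ht : φ t = 1) (ht1 : t ≠ 1) {x : H} (hx : φ x = 1) : x = 1 ∨ x = t := by
  obtain ⟨w, -, hu⟩ := (Nat.card_eq_two_iff' (1 : φ.ker)).1 hd.card_two
  by_contra hne
  push Not at hne
  have h1 := hu ⟨x, hx⟩ fun e => hne.1 (congrArg Subtype.val e)
  have h2 := hu ⟨t, ht⟩ fun e => ht1 (congrArg Subtype.val e)
  exact hne.2 (congrArg Subtype.val (h1.trans h2.symm))

/-- The double transpositions lift to elements of order four. -/
theorem sq_dbl_lift (hd : IsDouble φ) (hperf : commutator H = ⊤) (hm : 3 ≤ m) {t : H} (ht : φ t = 1)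
    (ht1 : t ≠ 1) {V : H} {a b c d : Fin (m + 2)} (h : [a, b, c, d].Nodup)
    (hV : (φ V : Perm (Fin (m + 2))) = dbl a b c d) : V * V = t := by
  have h1 : φ (V * V) = 1 := Subtype.ext (by
    rw [map_mul, Subgroup.coe_mul, hV, Subgroup.coe_one, dbl_sq h])
  refine (cov_eq_or_eq hd ht ht1 h1).resolve_left fun e => ?_
  have h' := h
  simp only [List.nodup_cons, List.mem_cons, List.mem_nil_iff, or_false, not_or, List.nodup_nil,
    and_true, not_false_eq_true] at h'
  obtain ⟨⟨hab, hac, had⟩, ⟨hbc, hbd⟩, hcd⟩ := h'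
  have n2 : [a, c, b, d].Nodup := by simp [hab, hac, had, Ne.symm hbc, hbd, hcd]
  have n3 : [a, d, b, c].Nodup := by simp [hab, hac, had, hbc, Ne.symm hbd, Ne.symm hcd]
  obtain ⟨C, hC⟩ := hd.surj ⟨dbl a c b d, dbl_mem hac hbd⟩
  replace hC : (φ C : Perm (Fin (m + 2))) = dbl a c b d := by rw [hC]
  have hVC : (φ (V * C) : Perm (Fin (m + 2))) = dbl a d b c := by
    rw [map_mul, Subgroup.coe_mul, hV, hC, dbl_mul_dbl h]
  have c2 : C * C = 1 := by rw [sq_dbl_congr hd h n2 hV hC, e]
  have vc2 : V * C * (V * C) = 1 := by rw [sq_dbl_congr hd h n3 hV hVC, e]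
  refine not_commute_four hd hperf hm h hV hC ?_
  show V * C = C * V
  rw [eq_inv_of_mul_eq_one_left vc2, mul_inv_rev, inv_eq_of_mul_eq_one_right e,
    inv_eq_of_mul_eq_one_right c2]

/-- The squares of the lifts of involutions. -/
theorem sq_lift_invol (hd : IsDouble φ) (hperf : commutator H = ⊤) (hm : 3 ≤ m) {t : H}
    (ht : φ t = 1) (ht1 : t ≠ 1) : ∀ (k : ℕ) (x : H), φ x * φ x = 1 →
      (φ x : Perm (Fin (m + 2))).support.card = k →
      k % 4 = 0 ∧ x * x = if k % 8 = 0 then 1 else t := by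
  intro k
  induction k using Nat.strong_induction_on with
  | _ k ih =>
  intro x hx hk
  set σ := (φ x : Perm (Fin (m + 2))) with hσ
  have hσσ : ∀ i, σ (σ i) = i := fun i => congrArg
    (fun f : alternatingGroup (Fin (m + 2)) => (f : Perm (Fin (m + 2))) i) hx
  by_cases hk0 : k = 0
  · subst hk0
    have h1 : φ x = 1 := Subtype.ext (by
      rw [← hσ, Subgroup.coe_one]; exact Perm.support_eq_empty_iff.1 (Finset.card_eq_zero.1 hk))
    refine ⟨rfl, ?_⟩
    rcases cov_eq_or_eq hd ht ht1 h1 with rfl | rfl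
    · simp
    · simpa using hd.sq_one ht
  obtain ⟨a, ha⟩ : σ.support.Nonempty := Finset.card_pos.1 (by omega)
  rw [Perm.mem_support] at ha
  obtain ⟨c, hc, hca, hcb⟩ : ∃ c, σ c ≠ c ∧ c ≠ a ∧ c ≠ σ a := by
    by_contra hne
    push Not at hne
    have he : σ = swap a (σ a) := by
      refine Equiv.ext fun i => ?_
      by_cases hi : i = a
      · rw [hi, swap_apply_left]
      by_cases hi' : i = σ a
      · rw [hi', swap_apply_right, hσσ]
      rw [swap_apply_of_ne_of_ne hi hi']
      by_contra h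
      exact hi' (hne i h hi)
    have hs := Perm.mem_alternatingGroup.1 (φ x).2
    rw [← hσ, he, Perm.sign_swap (Ne.symm ha)] at hs
    exact absurd hs (by decide)
  set b := σ a with hb
  set d := σ c with hd'
  have hba : σ b = a := hσσ a
  have hdc : σ d = c := hσσ c
  have hda : d ≠ a := fun e => hcb (by rw [← hdc, e])
  have hdb : d ≠ b := fun e => hca (σ.injective e)
  have hnd : [a, b, c, d].Nodup := by
    simp [Ne.symm ha, Ne.symm hca, Ne.symm hda, Ne.symm hcb, Ne.symm hdb, Ne.symm hc]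
  obtain ⟨U, hU⟩ := hd.surj ⟨dbl a b c d, dbl_mem (Ne.symm ha) (Ne.symm hc)⟩
  replace hU : (φ U : Perm (Fin (m + 2))) = dbl a b c d := by rw [hU]
  have hU2 := sq_dbl_lift hd hperf hm ht ht1 hnd hU
  set R := U⁻¹ * x with hR
  set τ := (φ R : Perm (Fin (m + 2))) with hτ
  have hτe : τ = dbl a b c d * σ := by
    rw [hτ, hR, map_mul, map_inv, Subgroup.coe_mul, Subgroup.coe_inv, hU,
      inv_eq_of_mul_eq_one_right (dbl_sq hnd)]
  have ev : ∀ i, (i = a ∨ i = c ∨ i = b ∨ i = d) → τ i = i := by
    intro i hi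
    rw [hτe, Perm.mul_apply, dbl, Perm.mul_apply]
    rcases hi with rfl | rfl | rfl | rfl
    · rw [swap_apply_of_ne_of_ne (Ne.symm hcb) (Ne.symm hdb), swap_apply_right]
    · rw [swap_apply_right, swap_apply_of_ne_of_ne hca hcb]
    · rw [hba, swap_apply_of_ne_of_ne (Ne.symm hca) (Ne.symm hda), swap_apply_left]
    · rw [hdc, swap_apply_left, swap_apply_of_ne_of_ne hda hdb]
  have eo : ∀ i, ¬ (i = a ∨ i = c ∨ i = b ∨ i = d) → τ i = σ i := by
    intro i hi
    push Not at hi
    have h1 : σ i ≠ a := fun e => hi.2.2.1 (by rw [← hσσ i, e])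
    have h2 : σ i ≠ b := fun e => hi.1 (σ.injective e)
    have h3 : σ i ≠ c := fun e => hi.2.2.2 (by rw [← hσσ i, e])
    have h4 : σ i ≠ d := fun e => hi.2.1 (σ.injective e)
    rw [hτe, Perm.mul_apply, dbl, Perm.mul_apply, swap_apply_of_ne_of_ne h3 h4,
      swap_apply_of_ne_of_ne h1 h2]
  have hcom : Commute U R := commute_away (i := a) (j := c) (k := b) (l := d) hd hU
    fun i hi => ev i hi
  have hτ2 : φ R * φ R = 1 := by
    apply Subtype.ext
    refine Equiv.ext fun i => ?_
    show τ (τ i) = i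
    by_cases hi : i = a ∨ i = c ∨ i = b ∨ i = d
    · rw [ev i hi, ev i hi]
    · rw [eo i hi]
      have hi' : ¬ (σ i = a ∨ σ i = c ∨ σ i = b ∨ σ i = d) := by
        rintro (e | e | e | e) <;> apply hi
        · exact Or.inr (Or.inr (Or.inl (by rw [← hσσ i, e])))
        · exact Or.inr (Or.inr (Or.inr (by rw [← hσσ i, e])))
        · exact Or.inl (σ.injective e)
        · exact Or.inr (Or.inl (σ.injective e))
      rw [eo _ hi', hσσ]
  have hsupp : τ.support = σ.support \ {a, c, b, d} := by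
    ext i
    simp only [Perm.mem_support, Finset.mem_sdiff, Finset.mem_insert, Finset.mem_singleton]
    by_cases hi : i = a ∨ i = c ∨ i = b ∨ i = d
    · exact ⟨fun h => absurd (ev i hi) h, fun h => absurd hi h.2⟩
    · rw [eo i hi]
      exact ⟨fun h => ⟨h, hi⟩, fun h => h.1⟩
  have hfour : ({a, c, b, d} : Finset (Fin (m + 2))).card = 4 := by
    rw [Finset.card_insert_of_notMem, Finset.card_insert_of_notMem, Finset.card_pair (Ne.symm hdb)] <;>
      simp [Ne.symm ha, Ne.symm hca, Ne.symm hda, hcb, Ne.symm hc]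
  have hsub : ({a, c, b, d} : Finset (Fin (m + 2))) ⊆ σ.support := by
    intro i hi
    simp only [Finset.mem_insert, Finset.mem_singleton] at hi
    rw [Perm.mem_support]
    rcases hi with rfl | rfl | rfl | rfl
    · exact ha
    · exact hc
    · rw [hba]; exact Ne.symm ha
    · rw [hdc]; exact Ne.symm hc
  have hcard : τ.support.card + 4 = k := by
    rw [hsupp, Finset.card_sdiff_of_subset hsub, hfour, ← hk]
    have := Finset.card_le_card hsub
    omega
  obtain ⟨h4, hR2⟩ := ih (τ.support.card) (by omega) R hτ2 rfl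
  refine ⟨by omega, ?_⟩
  have hx2 : x * x = t * (R * R) := by
    rw [show x = U * R by rw [hR, mul_inv_cancel_left], hcom.symm.mul_mul_mul_comm, hU2]
  rw [hx2, hR2]
  rcases (show τ.support.card % 8 = 0 ∧ k % 8 ≠ 0 ∨ τ.support.card % 8 ≠ 0 ∧ k % 8 = 0 by omega)
    with ⟨h1, h2⟩ | ⟨h1, h2⟩
  · rw [if_pos h1, if_neg h2, mul_one]
  · rw [if_neg h1, if_pos h2, hd.sq_one ht]

end Double

/-- In a simple group with this centraliser `z` is not isolated. -/
theorem not_isolated {G : Type u} [Group G] [Finite G] [IsSimpleGroup G] {n : ℕ} (hn : 5 ≤ n)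
    {z : G} (hz : orderOf z = 2)
    (hcov : Cfsg.IsNonsplitDoubleCover (centralizer ({z} : Set G)) (alternatingGroup (Fin n))) :
    ∃ g : G, g * z * g⁻¹ ≠ z ∧ g * z * g⁻¹ ∈ centralizer ({z} : Set G) := by
  by_contra hne
  push Not at hne
  have hiso : Cfsg.IsIsolatedInvolution z := ⟨hz, fun g hg => by
    by_contra h
    exact hne g h (mem_centralizer_singleton_iff.2 hg.symm.eq)⟩
  have hz1 : z ≠ 1 := fun h => by rw [h, orderOf_one] at hz; omega
  have hO : Cfsg.oddCore G = ⊥ := by
    haveI : (Cfsg.oddCore G).Normal := Cfsg.pPrimeCore_normal 2 G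
    refine (IsSimpleGroup.eq_bot_or_eq_top_of_normal (Cfsg.oddCore G) inferInstance).resolve_right
      fun h => ?_
    have h2 := CfsgLib.Base.oddCore_eq_top_iff.1 h
    have h3 : 2 ∣ Nat.card G := hz ▸ orderOf_dvd_natCard z
    exact h2.not_two_dvd_nat h3
  have hzc := CfsgLib.Involutions.ZStar.mem_center_of_oddCore_eq_bot hiso hO
  have htop : centralizer ({z} : Set G) = ⊤ := top_le_iff.1 fun g _ =>
    mem_centralizer_singleton_iff.2 (mem_center_iff.1 hzc g)
  have hcen : center G = ⊤ :=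
    (IsSimpleGroup.eq_bot_or_eq_top_of_normal (center G) inferInstance).resolve_left fun h => hz1 (by
      rwa [h, mem_bot] at hzc)
  obtain ⟨φ, hd, hker, -⟩ := cov_isDouble hn hcov
  have hall : ∀ x : centralizer ({z} : Set G), φ x = 1 := fun x => by
    rw [← MonoidHom.mem_ker, hker, mem_center_iff]
    exact fun y => Subtype.ext (mem_center_iff.1 (show (x : G) ∈ center G from hcen ▸ mem_top _) (y : G))
  obtain ⟨x, hx⟩ := hd.surj ⟨swap (⟨0, by omega⟩ : Fin n) ⟨1, by omega⟩ *
      swap (⟨0, by omega⟩ : Fin n) ⟨2, by omega⟩,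
    (Perm.isThreeCycle_swap_mul_swap_same (by simp) (by simp) (by simp)).mem_alternatingGroup⟩
  rw [hall x] at hx
  have h2 := congrArg (fun f : alternatingGroup (Fin n) => (f : Perm (Fin n)) ⟨0, by omega⟩) hx
  simp [swap_apply_def] at h2

theorem cov : StmtCov.{u} := by
  intro G _ _ _ n z hn hz hcov
  obtain ⟨g, hg1, hg2⟩ := not_isolated hn hz hcov
  have h8 : 8 ≤ n := by
    by_contra h
    have hzC : z ∈ centralizer ({z} : Set G) := mem_centralizer_singleton_iff.2 rfl
    refine hg1 (congrArg Subtype.val (CfsgLib.CharsMore.AltCoverInvol.unique_invol (by omega) hcov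
      (x := (⟨_, hg2⟩ : centralizer ({z} : Set G))) (y := ⟨z, hzC⟩) ?_ ?_))
    · rw [Subgroup.orderOf_mk]
      exact (orderOf_injective (MulAut.conj g).toMonoidHom (MulAut.conj g).injective z).trans hz
    · rw [Subgroup.orderOf_mk]; exact hz
  refine ⟨h8, ?_⟩
  obtain ⟨m, rfl⟩ : ∃ m, n = m + 2 := ⟨n - 2, by omega⟩
  obtain ⟨φ, hd, hker, hperf⟩ := cov_isDouble hn hcov
  have hzC : z ∈ centralizer ({z} : Set G) := mem_centralizer_singleton_iff.2 rfl
  set τ : centralizer ({z} : Set G) := ⟨z, hzC⟩ with hτ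
  have hτ1 : τ ≠ 1 := fun e => by
    rw [show z = 1 from congrArg Subtype.val e, orderOf_one] at hz
    omega
  have hφτ : φ τ = 1 := by
    rw [← MonoidHom.mem_ker, hker, mem_center_iff]
    exact fun g => Subtype.ext (mem_centralizer_singleton_iff.1 g.2)
  have hto : ∀ x, φ x = 1 ↔ (x : G) ∈ zpowers z := fun x => by
    constructor
    · intro hx
      rcases cov_eq_or_eq hd hφτ hτ1 hx with rfl | rfl
      · exact one_mem _
      · exact mem_zpowers z
    · intro hx
      obtain ⟨k, hk⟩ := mem_zpowers_iff.1 hx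
      rw [show x = τ ^ k from Subtype.ext (by rw [SubgroupClass.coe_zpow]; exact hk.symm), map_zpow,
        hφτ, one_zpow]
  refine ⟨{ z := z
            ord_z := hz
            π := φ
            π_surj := hd.surj
            π_ker := hto
            card_C := ?_
            comm_odd := ?_
            odd_lift := ?_
            sq_invol := ?_
            fused := ⟨g, hg1, hg2⟩ }, rfl⟩
  · have h3 := φ.ker.card_mul_index
    rw [index_ker, φ.range_eq_top.2 hd.surj, Subgroup.card_top, hd.card_two] at h3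
    exact h3.symm
  · intro x y hy h
    exact congrArg Subtype.val (cov_commute_of_odd hd (by rwa [← Subgroup.orderOf_coe]) h).eq
  · intro σ hσ
    obtain ⟨x, h1, h2⟩ := cov_odd_lift hd hσ
    exact ⟨x, h1, by rw [Subgroup.orderOf_coe, h2]⟩
  · intro x hx
    have h := congrArg Subtype.val (sq_lift_invol hd hperf (by omega) hφτ hτ1 _ x hx rfl).2
    rw [Subgroup.coe_mul] at h
    rw [h]
    split <;> rfl

end CfsgLib.AltTwoCent
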