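import Cfsg.Prelude.Def_SporadicB
import Mathlib

/-!
# An involution centralizer `2A_n` in a simple group: interface for `n ∉ {8, 11}`

Plan: `tools/s1645_plan.md`. The degrees at most 7 and at least 12 are killed by the fusion of `z`.
For `n = 9, 10` let `a` be of type `3^2`; the Thompson order formula in `P = N(⟨a⟩)/⟨a⟩` (two classes
of involutions, one on each side of the subgroup `Q` of index 2 image of `C(a)`) determines the order
of `Q` from data inside `C(z)`.
-/

set_option autoImplicit false

namespace CfsgLib.AltTwoCent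

open Subgroup Equiv

universe u

/-- The centralizer of the involution `z` is a non-split double cover of the alternating group. -/
structure Cov (n : ℕ) (G : Type u) [Group G] where
  z : G
  ord_z : orderOf z = 2
  π : ↥(centralizer ({z} : Set G)) →* alternatingGroup (Fin n)
  π_surj : Function.Surjective π
  π_ker : ∀ x, π x = 1 ↔ (x : G) ∈ zpowers z
  card_C : Nat.card (centralizer ({z} : Set G)) = 2 * Nat.card (alternatingGroup (Fin n))
  /-- commutation is decided in `A_n` when one of the elements has odd order -/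
  comm_odd : ∀ x y : ↥(centralizer ({z} : Set G)), Odd (orderOf (y : G)) → Commute (π x) (π y) →
    Commute (x : G) (y : G)
  /-- an element of odd order lifts to an element of odd order -/
  odd_lift : ∀ σ : alternatingGroup (Fin n), Odd (orderOf σ) →
    ∃ x : ↥(centralizer ({z} : Set G)), π x = σ ∧ orderOf (x : G) = orderOf σ
  /-- the square of a lift of an involution: `1` for `4k` transpositions, `z` for `4k + 2` -/
  sq_invol : ∀ x : ↥(centralizer ({z} : Set G)), π x * π x = 1 →
    (x : G) * x = if (π x : Perm (Fin n)).support.card % 8 = 0 then 1 else z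
  /-- some other involution of the centralizer is conjugate to `z` -/
  fused : ∃ g : G, g * z * g⁻¹ ≠ z ∧ g * z * g⁻¹ ∈ centralizer ({z} : Set G)

/-- Piece A: the facts about the cover, with the `Z*` theorem; also the degrees at most 7. -/
def StmtCov : Prop := ∀ (G : Type u) [Group G] [Finite G] [IsSimpleGroup G] (n : ℕ) (z : G),
  5 ≤ n → orderOf z = 2 →
  Cfsg.IsNonsplitDoubleCover (centralizer ({z} : Set G)) (alternatingGroup (Fin n)) →
  8 ≤ n ∧ ∃ D : Cov n G, D.z = z

/-- Piece B: no fusion in degree at least 12. -/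
def StmtBig : Prop := ∀ (G : Type u) [Group G] [Finite G] (n : ℕ), 12 ≤ n → Cov n G → False

/-! ## Degrees 9 and 10 -/

/-- An element `a` of type `3^2` with an involution `u` centralizing it, and an element of `C(a)`
permuting `z, u, u * z` cyclically; all involutions of `G` are conjugate. -/
structure Fused {n : ℕ} {G : Type u} [Group G] (D : Cov n G) where
  one : ∀ v : G, orderOf v = 2 → ∃ x : G, x * D.z * x⁻¹ = v
  a : G
  ord_a : orderOf a = 3
  mem_a : a ∈ centralizer ({D.z} : Set G)
  π_a : ∀ i : Fin n, (((D.π ⟨a, mem_a⟩ : Perm (Fin n)) i : Fin n) : ℕ) =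
    if (i : ℕ) < 6 then 3 * ((i : ℕ) / 3) + ((i : ℕ) + 1) % 3 else (i : ℕ)
  u : G
  ord_u : orderOf u = 2
  mem_u : u ∈ centralizer ({D.z} : Set G)
  π_u : (D.π ⟨u, mem_u⟩ : Perm (Fin n)).support.card = 8
  au : Commute a u
  g : G
  ga : Commute g a
  gz : g * D.z * g⁻¹ = u
  gu : g * u * g⁻¹ = u * D.z

/-- Piece C: the fusion. -/
def StmtFused : Prop := ∀ (G : Type u) [Group G] [Finite G] (n : ℕ) (D : Cov n G),
  n = 9 ∨ n = 10 → Nonempty (Fused D)

/-- The group in which the order formula is applied: `N(⟨a⟩)/⟨a⟩`. -/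
abbrev Loc {G : Type u} [Group G] (a : G) : Type u :=
  ↥(normalizer (zpowers a : Set G)) ⧸ (zpowers a).subgroupOf (normalizer (zpowers a : Set G))

/-- The pairs counted at `z`: an inner and an outer involution, both commuting with `z`, such that
`z` is a power of their product. -/
def ZPair {P : Type u} [Group P] (Q : Subgroup P) (z : P) : Type u :=
  {p : P × P // p.1 ∈ Q ∧ p.2 ∉ Q ∧ orderOf p.1 = 2 ∧ orderOf p.2 = 2 ∧ Commute p.1 z ∧
    Commute p.2 z ∧ ∃ i : ℕ, (p.1 * p.2) ^ i = z}

/-- What is common to the two degrees; `cz` is the order of the centralizer of `z`. -/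
structure PairCore (P : Type u) [Group P] (cz cv : ℕ) where
  Q : Subgroup P
  index : Q.index = 2
  z : P
  u : P
  g : P
  k : P
  zQ : z ∈ Q
  uQ : u ∈ Q
  gQ : g ∈ Q
  kQ : k ∉ Q
  ord_z : orderOf z = 2
  ord_u : orderOf u = 2
  ord_k : orderOf k = 2
  zu : Commute z u
  zk : Commute z k
  u_ne : u ≠ z
  gz : g * z * g⁻¹ = u
  gu : g * u * g⁻¹ = u * z
  card_z : Nat.card (centralizer ({z} : Set P)) = cz
  card_zu : Nat.card ↥(centralizer ({z} : Set P) ⊓ centralizer ({u} : Set P)) = cv
  card_zuQ : Nat.card ↥(Q ⊓ centralizer ({z} : Set P) ⊓ centralizer ({u} : Set P)) = 4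
  inner : ∀ v ∈ Q, orderOf v = 2 → Commute v z →
    v = z ∨ ∃ c ∈ centralizer ({z} : Set P), c * u * c⁻¹ = v

/-- The data of `Loc a` in degree nine. -/
structure NineData (P : Type u) [Group P] extends PairCore P 72 4 where
  card_k : Nat.card ↥(Q ⊓ centralizer ({z} : Set P) ⊓ centralizer ({k} : Set P)) = 6
  invol_k : ∀ v ∈ Q, orderOf v = 2 → Commute v z → Commute v k → v = z
  outer : ∀ v ∉ Q, orderOf v = 2 → Commute v z →
    ∃ c ∈ centralizer ({z} : Set P), c * k * c⁻¹ = v
  card_pairs : Nat.card (ZPair Q z) = 108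

/-- The data of `Loc a` in degree ten: `k` and `k * u` represent the two classes of outer
involutions of the centralizer of `z`. -/
structure TenData (P : Type u) [Group P] extends PairCore P 288 8 where
  uk : Commute u k
  card_k : Nat.card ↥(Q ⊓ centralizer ({z} : Set P) ⊓ centralizer ({k} : Set P)) = 8
  card_l : Nat.card ↥(Q ⊓ centralizer ({z} : Set P) ⊓ centralizer ({k * u} : Set P)) = 12
  outer : ∀ v ∉ Q, orderOf v = 2 → Commute v z →
    ∃ c ∈ centralizer ({z} : Set P), c * k * c⁻¹ = v ∨ c * (k * u) * c⁻¹ = v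
  /-- an element of the dihedral group `C_Q(z, k)` interchanging `u` and `u * z` -/
  s : P
  sQ : s ∈ Q
  sz : Commute s z
  sk : Commute s k
  su : s * u * s⁻¹ = u * z
  /-- the other four-group of `C_Q(z, k)` -/
  u' : P
  u'Q : u' ∈ Q
  ord_u' : orderOf u' = 2
  u'z : Commute u' z
  u'k : Commute u' k
  u'u : ¬ Commute u' u
  u'l : Nat.card ↥(Q ⊓ centralizer ({z} : Set P) ⊓ centralizer ({k * u'} : Set P)) = 12
  /-- `C_Q(z, k * u)` is dihedral of order twelve -/
  invol_l : Nat.card {v : P // v ∈ Q ∧ orderOf v = 2 ∧ Commute v z ∧ Commute v (k * u)} = 7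
  card_pairs : Nat.card (ZPair Q z) = 792

/-- Piece C9: the data in degree nine. -/
def StmtNineData : Prop := ∀ (G : Type u) [Group G] [Finite G] (D : Cov 9 G) (F : Fused D),
  ∃ E : NineData (Loc F.a),
    E.Q = ((centralizer ({F.a} : Set G)).subgroupOf (normalizer (zpowers F.a : Set G))).map
      (QuotientGroup.mk' ((zpowers F.a).subgroupOf (normalizer (zpowers F.a : Set G))))

/-- Piece C10: the data in degree ten. -/
def StmtTenData : Prop := ∀ (G : Type u) [Group G] [Finite G] (D : Cov 10 G) (F : Fused D),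
  Nonempty (TenData (Loc F.a))

/-- Piece D: degree ten is impossible (`#Q = 133200`, Sylow 37-subgroups). -/
def StmtTenOrder : Prop := ∀ (P : Type u) [Group P] [Finite P], TenData P → False

/-- The orders of `Q` left by the order formula and the principal block in degree nine
(`d = 9, 15, 17, 19, 21, 27`; the piece F excludes `17` and `19` as they do not divide `#A₉`). -/
def NineOrders (q : ℕ) : Prop :=
  q = 8748 ∨ q = 17820 ∨ q = 21420 ∨ q = 25308 ∨ q = 29484 ∨ q = 43740

/-- Piece E: `#Q = 36 (d² + 18 d)` with `6 d` the order of `C_Q(k)`, and the Klein four formulas. -/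
def StmtNineOrder : Prop := ∀ (P : Type u) [Group P] [Finite P] (E : NineData P),
  NineOrders (Nat.card E.Q) ∧ ∃ d : ℕ, Nat.card E.Q = 36 * (d * d + 18 * d) ∧
    Nat.card ↥(E.Q ⊓ centralizer ({E.k} : Set P)) = 6 * d

/-- Piece F: degree nine is impossible. -/
def StmtNineLocal : Prop := StmtNineData.{u} → StmtNineOrder.{u} →
  ∀ (G : Type u) [Group G] [Finite G] (D : Cov 9 G), Fused D → False

end CfsgLib.AltTwoCent
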