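import Mathlib

/-!
# A four group acting on a group of odd order

`|O| · |C_O(V)|² = |C_O(z)| · |C_O(u)| · |C_O(uz)|`: an element inverted by `z` is uniquely `p q p`
with `p` inverted by `z` and `u`, and `q` inverted by `z` and fixed by `u`.
-/

set_option autoImplicit false
set_option linter.style.haveILetI false
set_option linter.unusedSectionVars false

namespace CfsgLib.AltTwoCent.FourFixed

open Subgroup

universe u

variable {O : Type u} [Group O]

/-- the elements inverted by an automorphism -/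
def Inv (σ : O ≃* O) : Type u := {x : O // σ x = x⁻¹}

/-- the fixed elements -/
def Fix (σ : O ≃* O) : Type u := {x : O // σ x = x}

theorem sq_inj [Finite O] (hodd : Odd (Nat.card O)) {a b : O} (h : a * a = b * b) : a = b := by
  refine (powCoprime (Nat.coprime_two_right.2 hodd)).injective ?_
  simpa [powCoprime_apply, pow_two] using h

theorem sq_surj [Finite O] (hodd : Odd (Nat.card O)) (x : O) : ∃ r : O, r * r = x := by
  obtain ⟨r, hr⟩ := (powCoprime (Nat.coprime_two_right.2 hodd)).surjective x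
  exact ⟨r, by simpa [powCoprime_apply, pow_two] using hr⟩

/-- `c i` with `c` fixed and `i` inverted -/
theorem card_fix_mul_inv [Finite O] (hodd : Odd (Nat.card O)) (σ : O ≃* O)
    (hσ : ∀ x, σ (σ x) = x) : Nat.card (Fix σ) * Nat.card (Inv σ) = Nat.card O := by
  rw [← Nat.card_prod]
  refine Nat.card_congr (Equiv.ofBijective (fun p => p.1.1 * p.2.1) ⟨?_, ?_⟩)
  · rintro ⟨⟨c, hc⟩, ⟨i, hi⟩⟩ ⟨⟨c', hc'⟩, ⟨i', hi'⟩⟩ (e : c * i = c' * i')
    have e2 : c * i⁻¹ = c' * i'⁻¹ := by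
      have := congrArg σ e
      rwa [map_mul, map_mul, hc, hc', hi, hi'] at this
    have h1 : i = i' := by
      refine sq_inj hodd ?_
      calc i * i = (c * i⁻¹)⁻¹ * (c * i) := by group
        _ = (c' * i'⁻¹)⁻¹ * (c' * i') := by rw [e, e2]
        _ = i' * i' := by group
    subst h1
    have h2 : c = c' := mul_right_cancel e
    subst h2
    rfl
  · intro x
    obtain ⟨r, hr⟩ := sq_surj hodd ((σ x)⁻¹ * x)
    have hσr : σ r = r⁻¹ := by
      refine sq_inj hodd ?_
      rw [← map_mul, hr, map_mul, map_inv, hσ, ← mul_inv_rev, hr, mul_inv_rev, inv_inv]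
    refine ⟨⟨⟨x * r⁻¹, ?_⟩, ⟨r, hσr⟩⟩, inv_mul_cancel_right x r⟩
    rw [map_mul, map_inv, hσr, inv_inv]
    have h : r = r⁻¹ * ((σ x)⁻¹ * x) := by rw [← hr, inv_mul_cancel_left]
    calc σ x * r = σ x * (((σ x)⁻¹ * x) * r⁻¹) := by rw [← hr, mul_inv_cancel_right]
      _ = x * r⁻¹ := by group

/-- restriction of an automorphism to the fixed points of one commuting with it -/
def restrictFix (σ τ : O ≃* O) (hc : ∀ x, σ (τ x) = τ (σ x)) (hτ : ∀ x, τ (τ x) = x) :
    ↥(MonoidHom.eqLocus σ.toMonoidHom (MonoidHom.id O)) ≃*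
      ↥(MonoidHom.eqLocus σ.toMonoidHom (MonoidHom.id O)) where
  toFun x := ⟨τ x, (hc _).trans (congrArg τ x.2)⟩
  invFun x := ⟨τ x, (hc _).trans (congrArg τ x.2)⟩
  left_inv x := Subtype.ext (hτ _)
  right_inv x := Subtype.ext (hτ _)
  map_mul' x y := Subtype.ext (map_mul τ (x : O) y)

/-- inside the fixed points of `σ` -/
theorem card_fix_split [Finite O] (hodd : Odd (Nat.card O)) (σ τ : O ≃* O)
    (hc : ∀ x, σ (τ x) = τ (σ x)) (hτ : ∀ x, τ (τ x) = x) :
    Nat.card (Fix σ) = Nat.card {x : O // σ x = x ∧ τ x = x} *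
      Nat.card {x : O // σ x = x ∧ τ x = x⁻¹} := by
  let F : Subgroup O := MonoidHom.eqLocus σ.toMonoidHom (MonoidHom.id O)
  have h := card_fix_mul_inv (O := F) (hodd.of_dvd_nat F.card_subgroup_dvd_card)
    (restrictFix σ τ hc hτ) (fun x => Subtype.ext (hτ _))
  have e1 : Nat.card (Fix (restrictFix σ τ hc hτ)) = Nat.card {x : O // σ x = x ∧ τ x = x} :=
    Nat.card_congr
      { toFun := fun x => ⟨x.1.1, x.1.2, congrArg Subtype.val x.2⟩
        invFun := fun x => ⟨⟨x.1, x.2.1⟩, Subtype.ext x.2.2⟩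
        left_inv := fun _ => rfl
        right_inv := fun _ => rfl }
  have e2 : Nat.card (Inv (restrictFix σ τ hc hτ)) = Nat.card {x : O // σ x = x ∧ τ x = x⁻¹} :=
    Nat.card_congr
      { toFun := fun x => ⟨x.1.1, x.1.2, congrArg Subtype.val x.2⟩
        invFun := fun x => ⟨⟨x.1, x.2.1⟩, Subtype.ext x.2.2⟩
        left_inv := fun _ => rfl
        right_inv := fun _ => rfl }
  rw [e1, e2] at h
  exact h.symm

/-- an element inverted by `σ` is uniquely `p q p` -/
theorem card_inv_split [Finite O] (hodd : Odd (Nat.card O)) (σ τ : O ≃* O)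
    (hc : ∀ x, σ (τ x) = τ (σ x)) (hτ : ∀ x, τ (τ x) = x) :
    Nat.card {x : O // σ x = x⁻¹ ∧ τ x = x⁻¹} * Nat.card {x : O // σ x = x⁻¹ ∧ τ x = x} =
      Nat.card (Inv σ) := by
  rw [← Nat.card_prod]
  refine Nat.card_congr (Equiv.ofBijective
    (fun p => ⟨p.1.1 * p.2.1 * p.1.1, ?_⟩) ⟨?_, ?_⟩)
  · rw [map_mul, map_mul, p.1.2.1, p.2.2.1, mul_inv_rev, mul_inv_rev, mul_assoc]
  · rintro ⟨⟨p, hp, hp'⟩, ⟨q, hq, hq'⟩⟩ ⟨⟨r, hr, hr'⟩, ⟨s, hs, hs'⟩⟩ e
    have e0 : p * q * p = r * s * r := congrArg Subtype.val e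
    have e1 : p⁻¹ * q * p⁻¹ = r⁻¹ * s * r⁻¹ := by
      have := congrArg τ e0
      simpa [map_mul, hp', hq', hr', hs'] using this
    -- `(p p) y (p p) = x` determines `p p`
    have e2 : p * p * (p⁻¹ * q * p⁻¹) = r * r * (p⁻¹ * q * p⁻¹) := by
      refine sq_inj hodd ?_
      calc p * p * (p⁻¹ * q * p⁻¹) * (p * p * (p⁻¹ * q * p⁻¹))
          = p * q * p * (p⁻¹ * q * p⁻¹) := by group
        _ = r * s * r * (r⁻¹ * s * r⁻¹) := by rw [e0, e1]
        _ = r * r * (p⁻¹ * q * p⁻¹) * (r * r * (p⁻¹ * q * p⁻¹)) := by rw [e1]; group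
    have h1 : p = r := sq_inj hodd (mul_right_cancel e2)
    subst h1
    have h2 : q = s := mul_left_cancel (mul_right_cancel e0)
    subst h2
    rfl
  · rintro ⟨x, hx⟩
    set y := τ x with hy
    have hσy : σ y = y⁻¹ := by rw [hy, hc, hx, map_inv]
    obtain ⟨s, hs⟩ := sq_surj hodd (x * y)
    obtain ⟨p, hp⟩ := sq_surj hodd (s * y⁻¹)
    have hσs : σ s = y * s⁻¹ * y⁻¹ * 1 := by
      refine sq_inj hodd ?_
      rw [← map_mul, hs, map_mul, hx, hσy]
      calc x⁻¹ * y⁻¹ = y * (x * y)⁻¹ * y⁻¹ := by group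
        _ = y * (s * s)⁻¹ * y⁻¹ := by rw [hs]
        _ = _ := by group
    have hτs : τ s = y * s * y⁻¹ := by
      refine sq_inj hodd ?_
      rw [← map_mul, hs, map_mul, ← hy, hy, hτ, ← hy]
      calc y * x = y * (x * y) * y⁻¹ := by group
        _ = y * (s * s) * y⁻¹ := by rw [hs]
        _ = _ := by group
    have hσp : σ p = p⁻¹ := by
      refine sq_inj hodd ?_
      rw [← map_mul, hp, map_mul, map_inv, hσy, hσs, ← mul_inv_rev, hp]
      group
    have hτp : τ p = p⁻¹ := by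
      refine sq_inj hodd ?_
      rw [← map_mul, hp, map_mul, map_inv, hτs, ← mul_inv_rev, hp]
      have hxy : s * s * y⁻¹ = x := by rw [hs, mul_inv_cancel_right]
      rw [hy, hτ, ← hy, ← hxy]
      group
    refine ⟨⟨⟨p, hσp, hτp⟩, ⟨p⁻¹ * x * p⁻¹, ?_, ?_⟩⟩, Subtype.ext ?_⟩
    · rw [map_mul, map_mul, map_inv, hσp, hx]
      group
    · rw [map_mul, map_mul, map_inv, hτp, inv_inv, ← hy]
      have hxy : p * p * y * (p * p) = x := by
        rw [hp]
        calc s * y⁻¹ * y * (s * y⁻¹) = s * s * y⁻¹ := by group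
          _ = x := by rw [hs, mul_inv_cancel_right]
      rw [← hxy]
      group
    · show p * (p⁻¹ * x * p⁻¹) * p = x
      group

/-- the order formula for a four group of automorphisms of a group of odd order -/
theorem card_mul_sq [Finite O] (hodd : Odd (Nat.card O)) (σ τ : O ≃* O)
    (hc : ∀ x, σ (τ x) = τ (σ x)) (hσ : ∀ x, σ (σ x) = x) (hτ : ∀ x, τ (τ x) = x) :
    Nat.card O * Nat.card {x : O // σ x = x ∧ τ x = x} ^ 2 =
      Nat.card (Fix σ) * Nat.card (Fix τ) * Nat.card {x : O // σ x = τ x} := by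
  have h1 := card_fix_mul_inv hodd σ hσ
  have h2 := card_fix_split hodd τ σ (fun x => (hc x).symm) hσ
  have h3 := card_inv_split hodd σ τ hc hτ
  let ρ : O ≃* O := τ.trans σ
  have hρ : ∀ x, ρ x = σ (τ x) := fun _ => rfl
  have h4 := card_fix_split hodd ρ σ (fun x => by simp [hρ, hc]) hσ
  have e4 : Nat.card (Fix ρ) = Nat.card {x : O // σ x = τ x} :=
    Nat.card_congr (Equiv.subtypeEquivRight fun x => by
      rw [hρ]
      exact ⟨fun h => by conv_lhs => rw [← h, hσ], fun h => by rw [← h, hσ]⟩)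
  have e5 : Nat.card {x : O // ρ x = x ∧ σ x = x} = Nat.card {x : O // σ x = x ∧ τ x = x} :=
    Nat.card_congr (Equiv.subtypeEquivRight fun x => by
      rw [hρ]
      exact ⟨fun ⟨h, h'⟩ => ⟨h', σ.injective (h.trans h'.symm)⟩, fun ⟨h, h'⟩ => ⟨by rw [h', h], h⟩⟩)
  have e6 : Nat.card {x : O // ρ x = x ∧ σ x = x⁻¹} =
      Nat.card {x : O // σ x = x⁻¹ ∧ τ x = x⁻¹} :=
    Nat.card_congr (Equiv.subtypeEquivRight fun x => by
      rw [hρ]
      exact ⟨fun ⟨h, h'⟩ => ⟨h', σ.injective (by rw [h, map_inv, h', inv_inv])⟩,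
        fun ⟨h, h'⟩ => ⟨by rw [h', map_inv, h, inv_inv], h⟩⟩)
  have e7 : Nat.card {x : O // τ x = x ∧ σ x = x} = Nat.card {x : O // σ x = x ∧ τ x = x} :=
    Nat.card_congr (Equiv.subtypeEquivRight fun x => and_comm)
  have e8 : Nat.card {x : O // τ x = x ∧ σ x = x⁻¹} = Nat.card {x : O // σ x = x⁻¹ ∧ τ x = x} :=
    Nat.card_congr (Equiv.subtypeEquivRight fun x => and_comm)
  rw [e4, e5, e6] at h4
  rw [e7, e8] at h2
  rw [h4, h2, ← h1, ← h3]
  ring

/-! ### Subgroups normalised by commuting involutions -/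

variable {G : Type u} [Group G]

/-- conjugation by an element of the normaliser -/
noncomputable def conjAut (X : Subgroup G) (z : G) (h : z ∈ normalizer (X : Set G)) : X ≃* X where
  toFun x := ⟨z * x * z⁻¹, (mem_normalizer_iff.1 h x).1 x.2⟩
  invFun x := ⟨z⁻¹ * x * z⁻¹⁻¹, (mem_normalizer_iff.1 (inv_mem h) x).1 x.2⟩
  left_inv x := Subtype.ext (by show z⁻¹ * (z * x * z⁻¹) * z⁻¹⁻¹ = _; group)
  right_inv x := Subtype.ext (by show z * (z⁻¹ * x * z⁻¹⁻¹) * z⁻¹ = _; group)
  map_mul' x y := Subtype.ext (by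
    show z * (↑x * ↑y) * z⁻¹ = (z * x * z⁻¹) * (z * y * z⁻¹)
    group)

theorem conjAut_coe (X : Subgroup G) (z : G) (h : z ∈ normalizer (X : Set G)) (x : X) :
    (conjAut X z h x : G) = z * x * z⁻¹ := rfl

theorem conjAut_sq {X : Subgroup G} {z : G} (h : z ∈ normalizer (X : Set G)) (hz : z * z = 1)
    (x : X) : conjAut X z h (conjAut X z h x) = x := by
  have hz' : z⁻¹ = z := inv_eq_of_mul_eq_one_right hz
  refine Subtype.ext ?_
  rw [conjAut_coe, conjAut_coe, hz', ← mul_assoc, ← mul_assoc, hz, one_mul, mul_assoc, hz, mul_one]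

theorem conjAut_fix {X : Subgroup G} {z : G} (h : z ∈ normalizer (X : Set G)) (x : X) :
    conjAut X z h x = x ↔ (x : G) ∈ centralizer ({z} : Set G) := by
  rw [Subtype.ext_iff, conjAut_coe, mul_inv_eq_iff_eq_mul, mem_centralizer_singleton_iff]
  exact eq_comm

theorem conjAut_eq {X : Subgroup G} {z u : G} (h : z ∈ normalizer (X : Set G))
    (h' : u ∈ normalizer (X : Set G)) (hz : z * z = 1) (hu : u * u = 1) (hzu : Commute z u)
    (x : X) : conjAut X z h x = conjAut X u h' x ↔ (x : G) ∈ centralizer ({u * z} : Set G) := by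
  have hz' : z⁻¹ = z := inv_eq_of_mul_eq_one_right hz
  have hu' : u⁻¹ = u := inv_eq_of_mul_eq_one_right hu
  rw [Subtype.ext_iff, conjAut_coe, conjAut_coe, mem_centralizer_singleton_iff]
  constructor
  · intro e
    calc (x : G) * (u * z) = u * (u * x * u⁻¹) * z := by rw [hu']; simp [← mul_assoc, hu]
      _ = u * (z * x * z⁻¹) * z := by rw [e]
      _ = u * z * x := by group
  · intro e
    calc z * x * z⁻¹ = u * (u * z * x) * z⁻¹ := by rw [← mul_assoc, ← mul_assoc, hu, one_mul]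
      _ = u * (x * (u * z)) * z⁻¹ := by rw [e]
      _ = u * x * u⁻¹ := by rw [hu']; group

/-- the order formula for a subgroup of odd order normalised by `⟨z, u⟩` -/
theorem card_four [Finite G] (X : Subgroup G) (hX : Odd (Nat.card X)) {z u : G} (hz : z * z = 1)
    (hu : u * u = 1) (hzu : Commute z u) (hzX : z ∈ normalizer (X : Set G))
    (huX : u ∈ normalizer (X : Set G)) :
    Nat.card X *
        Nat.card ↥(X ⊓ centralizer ({z} : Set G) ⊓ centralizer ({u} : Set G)) ^ 2 =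
      Nat.card ↥(X ⊓ centralizer ({z} : Set G)) * Nat.card ↥(X ⊓ centralizer ({u} : Set G)) *
        Nat.card ↥(X ⊓ centralizer ({u * z} : Set G)) := by
  have hc : ∀ x, conjAut X z hzX (conjAut X u huX x) = conjAut X u huX (conjAut X z hzX x) := by
    intro x
    refine Subtype.ext ?_
    rw [conjAut_coe, conjAut_coe, conjAut_coe, conjAut_coe]
    calc z * (u * x * u⁻¹) * z⁻¹ = z * u * x * (z * u)⁻¹ := by group
      _ = u * z * x * (u * z)⁻¹ := by rw [hzu.eq]
      _ = _ := by group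
  have h := card_mul_sq hX (conjAut X z hzX) (conjAut X u huX) hc (conjAut_sq hzX hz)
    (conjAut_sq huX hu)
  have e : ∀ (K : Subgroup G) (P : X → Prop), (∀ x, P x ↔ (x : G) ∈ K) →
      Nat.card {x // P x} = Nat.card ↥(X ⊓ K) := fun K P hP =>
    Nat.card_congr
      { toFun := fun x => ⟨x.1.1, x.1.2, (hP x.1).1 x.2⟩
        invFun := fun x => ⟨⟨x.1, x.2.1⟩, (hP _).2 x.2.2⟩
        left_inv := fun _ => rfl
        right_inv := fun _ => rfl }
  rw [show Nat.card (Fix (conjAut X z hzX)) = _ from e _ _ (conjAut_fix hzX),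
    show Nat.card (Fix (conjAut X u huX)) = _ from e _ _ (conjAut_fix huX),
    e _ _ (conjAut_eq hzX huX hz hu hzu),
    e (centralizer ({z} : Set G) ⊓ centralizer ({u} : Set G)) _
      (fun x => (and_congr (conjAut_fix hzX x) (conjAut_fix huX x)).trans mem_inf.symm),
    ← inf_assoc] at h
  exact h

/-- `|X| = |C_X(z)| · #(elements inverted by z)` -/
theorem card_inverted [Finite G] (X : Subgroup G) (hX : Odd (Nat.card X)) {z : G} (hz : z * z = 1)
    (hzX : z ∈ normalizer (X : Set G)) :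
    Nat.card X = Nat.card ↥(X ⊓ centralizer ({z} : Set G)) *
      Nat.card {x : G // x ∈ X ∧ z * x * z⁻¹ = x⁻¹} := by
  rw [← card_fix_mul_inv hX (conjAut X z hzX) (conjAut_sq hzX hz)]
  congr 1
  · exact Nat.card_congr
      { toFun := fun x => ⟨x.1.1, x.1.2, (conjAut_fix hzX x.1).1 x.2⟩
        invFun := fun x => ⟨⟨x.1, x.2.1⟩, (conjAut_fix hzX _).2 x.2.2⟩
        left_inv := fun _ => rfl
        right_inv := fun _ => rfl }
  · exact Nat.card_congr
      { toFun := fun x => ⟨x.1.1, x.1.2, congrArg Subtype.val x.2⟩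
        invFun := fun x => ⟨⟨x.1, x.2.1⟩, Subtype.ext x.2.2⟩
        left_inv := fun _ => rfl
        right_inv := fun _ => rfl }

/-- an element centralising `z` modulo a normalised subgroup of odd order is there up to it -/
theorem exists_commute [Finite G] (X : Subgroup G) (hX : Odd (Nat.card X)) {z y : G}
    (hz : z * z = 1) (hy : y * z * y⁻¹ * z⁻¹ ∈ X) :
    ∃ o ∈ X, Commute (o * y) z := by
  set x := y * z * y⁻¹ * z⁻¹ with hx
  have hz' : z⁻¹ = z := inv_eq_of_mul_eq_one_right hz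
  obtain ⟨r, hr⟩ := sq_surj hX (⟨x, hy⟩ : X)
  have hr' : (r : G) * r = x := congrArg Subtype.val hr
  refine ⟨(r : G)⁻¹, X.inv_mem r.2, ?_⟩
  -- `z x z = x⁻¹`, hence `z r z = r⁻¹`
  have hzr : z * r * z⁻¹ = (r : G)⁻¹ := by
    obtain ⟨m, hm⟩ : ∃ m : ℕ, (r : G) = x ^ m := by
      obtain ⟨k, hk⟩ := hX
      refine ⟨k + 1, ?_⟩
      have h1 : (r : G) ^ Nat.card X = 1 := by
        rw [← SubgroupClass.coe_pow, pow_card_eq_one', OneMemClass.coe_one]
      rw [← hr', ← pow_two, ← pow_mul, show 2 * (k + 1) = Nat.card X + 1 by omega, pow_succ, h1,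
        one_mul]
    rw [hm, ← conj_pow, show z * x * z⁻¹ = x⁻¹ from ?_, inv_pow]
    rw [hx, hz']
    calc z * (y * z * y⁻¹ * z) * z = z * y * z * y⁻¹ * (z * z) := by group
      _ = z * y * z⁻¹ * y⁻¹ := by rw [hz, mul_one, hz']
      _ = (y * z * y⁻¹ * z⁻¹)⁻¹ := by group
      _ = (y * z * y⁻¹ * z)⁻¹ := by rw [hz']
  show (r : G)⁻¹ * y * z = z * ((r : G)⁻¹ * y)
  have h2 : z * (r : G)⁻¹ = r * z := by
    rw [← hzr, ← mul_assoc, ← mul_assoc, hz, one_mul, hz']
  rw [← mul_assoc, h2, mul_assoc (r : G)⁻¹]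
  rw [inv_mul_eq_iff_eq_mul, ← mul_assoc, ← mul_assoc, hr', hx, hz']
  calc y * z = y * z * y⁻¹ * (z * z) * y := by rw [hz]; group
    _ = y * z * y⁻¹ * z * z * y := by group

end CfsgLib.AltTwoCent.FourFixed
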