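import Cfsg.Agent.Lib.AltTwoCent.Big

/-!
# S1645, piece C: fusion in degrees nine and ten

All involutions other than `z` of `C(z)` are conjugate there, `t` to `t * z` by a double transposition
of two pairs; the same inside `C(u)` gives an element of order three on `⟨z, u⟩`, and a Frattini
argument puts it into `C(a)`.
-/

set_option autoImplicit false
set_option linter.style.haveILetI false
set_option linter.unusedSectionVars false
set_option linter.unusedSimpArgs false

namespace CfsgLib.AltTwoCent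

open Subgroup Equiv Equiv.Perm Pairs

universe u

namespace FusedProof

variable {n : ℕ} {G : Type u} [Group G] [Finite G] (D : Cov n G) (hn : n ≤ 10)

theorem cycleType_eight {σ : Perm (Fin n)} (h2 : σ * σ = 1) (h8 : σ.support.card = 8) :
    σ.cycleType = Multiset.replicate 4 2 := by
  have hne : σ ≠ 1 := fun h => by rw [h] at h8; simp at h8
  have ho : orderOf σ = 2 := orderOf_eq_prime (by rw [sq, h2]) hne
  obtain ⟨m, hm⟩ := Perm.cycleType_prime_order (σ := σ) (by rw [ho]; exact Nat.prime_two)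
  rw [ho] at hm
  have hs := σ.sum_cycleType
  rw [hm, h8, Multiset.sum_replicate, smul_eq_mul] at hs
  rw [hm, show m + 1 = 4 by omega]

include hn in
theorem invol_data {t : ↥(centralizer ({D.z} : Set G))} (ht : (t : G) * t = 1) (ht1 : (t : G) ≠ 1) (htz : (t : G) ≠ D.z) :
    (∀ i, D.im t (D.im t i) = i) ∧ D.im t * D.im t = 1 ∧ (D.im t).support.card = 8 := by
  obtain ⟨h1, h2, h3⟩ := D.image_invol ht ht1 htz
  refine ⟨h1, Equiv.ext h1, ?_⟩
  have hle : (D.im t).support.card ≤ n := by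
    simpa using Finset.card_le_univ (D.im t).support
  have hpos : 0 < (D.im t).support.card :=
    Finset.card_pos.2 (Finset.nonempty_iff_ne_empty.2 fun h => h2 (Perm.support_eq_empty_iff.1 h))
  omega

include hn in
/-- An involution of `C(z)` is conjugate there to its product with `z`. -/
theorem anti {t : ↥(centralizer ({D.z} : Set G))} (ht : (t : G) * t = 1) (ht1 : (t : G) ≠ 1) (htz : (t : G) ≠ D.z) :
    ∃ x : ↥(centralizer ({D.z} : Set G)), (x : G) * t * (x : G)⁻¹ = t * D.z := by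
  obtain ⟨hσ, hσσ, h8⟩ := invol_data D hn ht ht1 htz
  set σ := D.im t with hσdef
  obtain ⟨i, hi⟩ : σ.support.Nonempty := Finset.card_pos.1 (by omega)
  obtain ⟨j, hj, hji⟩ : ∃ j ∈ σ.support, j ∉ ({i, σ i} : Finset (Fin n)) := by
    by_contra hcon
    push Not at hcon
    have h' : σ.support ⊆ {i, σ i} := fun j hj => hcon j hj
    have := Finset.card_le_card h'
    have := Finset.card_le_two (a := i) (b := σ i)
    omega
  rw [Finset.mem_insert, Finset.mem_singleton, not_or] at hji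
  rw [Perm.mem_support] at hi hj
  obtain ⟨h1, h2⟩ := hji
  have hd : ∀ k, dbl σ i j k = swap i j (swap (σ i) (σ j) k) := fun k => rfl
  have hij : i ≠ σ j := fun h => h2 (by rw [h, hσ])
  have hσij : σ i ≠ σ j := fun h => h1 (σ.injective h).symm
  obtain ⟨x, hx⟩ := D.π_surj ⟨dbl σ i j, dbl_mem h1⟩
  have hxim : D.im x = dbl σ i j := congrArg Subtype.val hx
  have hcomm := dbl_comm hσ hi hj h1 h2
  have hdd : dbl σ i j * dbl σ i j = 1 := by
    have hd' : Commute (swap i j) (swap (σ i) (σ j)) :=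
      (disjoint_swaps (Ne.symm h1) hσij hi.symm hij (fun h => h2 h) hj.symm).commute
    show (swap i j * swap (σ i) (σ j)) * (swap i j * swap (σ i) (σ j)) = 1
    rw [hd'.symm.mul_mul_mul_comm, swap_mul_self, swap_mul_self, one_mul]
  have hx2 : (x : G) * x = D.z := by
    rw [D.sq_invol x (Subtype.ext (show D.im x * D.im x = 1 by rw [hxim, hdd]))]
    refine if_neg ?_
    rw [show (D.π x : Perm (Fin n)) = dbl σ i j from hxim, dbl,
      card_support_two_swaps (Ne.symm h1) hσij hi.symm hij (fun h => h2 h) hj.symm]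
    norm_num
  have hsupp : (dbl σ i j * σ).support = σ.support := by
    ext k
    rw [Perm.mem_support, Perm.mem_support, Perm.mul_apply, hd]
    constructor
    · intro h hk
      apply h
      have a1 : k ≠ σ i := fun e => hi (by rw [e, hσ] at hk; exact hk.symm)
      have a2 : k ≠ σ j := fun e => hj (by rw [e, hσ] at hk; exact hk.symm)
      have a3 : k ≠ i := fun e => hi (e ▸ hk)
      have a4 : k ≠ j := fun e => hj (e ▸ hk)
      rw [hk, swap_apply_of_ne_of_ne a1 a2, swap_apply_of_ne_of_ne a3 a4]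
    · intro hk
      by_cases e1 : k = i
      · subst e1
        rw [swap_apply_left, swap_apply_of_ne_of_ne hij.symm hj]
        exact hij.symm
      by_cases e2 : k = σ i
      · subst e2
        rw [hσ, swap_apply_of_ne_of_ne hi.symm hij, swap_apply_left]
        exact h2
      by_cases e3 : k = j
      · subst e3
        rw [swap_apply_right, swap_apply_of_ne_of_ne hi (fun e => h2 e.symm)]
        exact fun e => h2 e.symm
      by_cases e4 : k = σ j
      · subst e4
        rw [hσ, swap_apply_of_ne_of_ne h2 hj.symm, swap_apply_right]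
        exact hij
      rw [swap_apply_of_ne_of_ne (fun e => e1 (σ.injective e)) (fun e => e3 (σ.injective e)),
        swap_apply_of_ne_of_ne (fun e => e2 (by rw [← e, hσ])) (fun e => e4 (by rw [← e, hσ]))]
      exact hk
  have hxt : (x : G) * t * ((x : G) * t) = 1 := by
    have h := D.sq_invol (x * t) (Subtype.ext (show D.im (x * t) * D.im (x * t) = 1 by
      rw [map_mul, hxim, ← hσdef, hcomm.mul_mul_mul_comm, hdd, hσσ, one_mul]))
    rw [if_pos] at h
    · exact h
    · rw [show (D.π (x * t) : Perm (Fin n)) = dbl σ i j * σ by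
        rw [← hxim]; exact map_mul D.im x t, hsupp, h8]
  refine ⟨x, ?_⟩
  have hti : (t : G)⁻¹ = t := inv_eq_of_mul_eq_one_right ht
  have h3 : (x : G) * t * x = t := by
    calc (x : G) * t * x = (x : G) * t * ((x : G) * t) * (t : G)⁻¹ := by group
      _ = t := by rw [hxt, one_mul, hti]
  calc (x : G) * t * (x : G)⁻¹ = (x : G) * t * x * ((x : G) * x)⁻¹ := by group
    _ = t * D.z := by rw [h3, hx2, inv_eq_of_mul_eq_one_right D.z_sq]

include hn in
theorem conj_in {t t' : ↥(centralizer ({D.z} : Set G))} (ht : (t : G) * t = 1) (ht1 : (t : G) ≠ 1) (htz : (t : G) ≠ D.z)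
    (ht' : (t' : G) * t' = 1) (ht1' : (t' : G) ≠ 1) (htz' : (t' : G) ≠ D.z) :
    ∃ x : ↥(centralizer ({D.z} : Set G)), (x : G) * t * (x : G)⁻¹ = t' := by
  obtain ⟨hσ, hσσ, h8⟩ := invol_data D hn ht ht1 htz
  obtain ⟨-, hσσ', h8'⟩ := invol_data D hn ht' ht1' htz'
  obtain ⟨c, hc⟩ := isConj_iff.1 (Perm.isConj_iff_cycleType_eq.2
    ((cycleType_eight hσσ h8).trans (cycleType_eight hσσ' h8').symm))
  obtain ⟨e, he, hec⟩ : ∃ e, e ∈ alternatingGroup (Fin n) ∧ e * D.im t * e⁻¹ = D.im t' := by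
    by_cases hcs : c ∈ alternatingGroup (Fin n)
    · exact ⟨c, hcs, hc⟩
    obtain ⟨i, hi⟩ : (D.im t).support.Nonempty := Finset.card_pos.1 (by omega)
    rw [Perm.mem_support] at hi
    refine ⟨c * swap i (D.im t i), ?_, ?_⟩
    · rw [mem_alternatingGroup] at hcs ⊢
      rw [Perm.sign_mul, Perm.sign_swap (fun h => hi h.symm),
        (Int.units_eq_one_or _).resolve_left hcs, Int.units_mul_self]
    · have hsw : swap i (D.im t i) * D.im t * (swap i (D.im t i))⁻¹ = D.im t := by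
        have h1 : D.im t * swap i (D.im t i) * (D.im t)⁻¹ = swap i (D.im t i) := by
          rw [← Equiv.swap_apply_apply, hσ, swap_comm]
        rw [mul_inv_eq_iff_eq_mul.1 h1 |>.symm, mul_inv_cancel_right]
      calc c * swap i (D.im t i) * D.im t * (c * swap i (D.im t i))⁻¹
          = c * (swap i (D.im t i) * D.im t * (swap i (D.im t i))⁻¹) * c⁻¹ := by group
        _ = D.im t' := by rw [hsw, hc]
  obtain ⟨x, hx⟩ := D.π_surj ⟨e, he⟩
  have hxim : D.im x = e := congrArg Subtype.val hx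
  have hk : D.im ((x * t * x⁻¹)⁻¹ * t') = 1 := by
    rw [map_mul, map_inv, map_mul, map_mul, map_inv, hxim, hec, inv_mul_cancel]
  rcases D.im_eq_one hk with h | h <;> push_cast at h <;> rw [inv_mul_eq_iff_eq_mul] at h
  · exact ⟨x, by rw [h, mul_one]⟩
  · obtain ⟨y, hy⟩ := anti D hn ht ht1 htz
    refine ⟨x * y, ?_⟩
    push_cast
    rw [show (x : G) * y * t * ((x : G) * y)⁻¹ = x * ((y : G) * t * (y : G)⁻¹) * (x : G)⁻¹ by group,
      hy, h, ← conj_mul, (D.z_comm x).eq, mul_inv_cancel_right]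

include hn in
theorem mem_H_conj {v : G} (hv : orderOf v = 2) (hc : Commute v D.z) : IsConj D.z v := by
  by_cases hvz : v = D.z
  · rw [hvz]
  obtain ⟨g, hg1, hg2⟩ := D.fused
  have hsq : ∀ y : G, orderOf y = 2 → y * y = 1 := fun y hy => by
    rw [← sq, ← hy, pow_orderOf_eq_one]
  have hv1 : v ≠ 1 := fun h => by rw [h, orderOf_one] at hv; omega
  have hg0 : orderOf (g * D.z * g⁻¹) = 2 := by
    rw [← MulAut.conj_apply, MulEquiv.orderOf_eq, D.ord_z]
  obtain ⟨x, hx⟩ := conj_in D hn (t := ⟨_, hg2⟩) (t' := ⟨v, mem_centralizer_singleton_iff.2 hc⟩)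
    (hsq _ hg0) (fun h => D.z_ne (conj_eq_one_iff.1 h)) hg1 (hsq v hv) hv1 hvz
  dsimp only at hx
  exact isConj_iff.2 ⟨(x : G) * g, by rw [← hx]; group⟩

include hn in
theorem one_class {v : G} (hv : orderOf v = 2) : IsConj D.z v := by
  haveI : Fact (Nat.Prime 2) := ⟨Nat.prime_two⟩
  have h2 : ∀ w : G, orderOf w = 2 → IsPGroup 2 (zpowers w) := fun w hw =>
    IsPGroup.of_card (n := 1) (by rw [Nat.card_zpowers, hw, pow_one])
  obtain ⟨S, hS⟩ := (h2 D.z D.ord_z).exists_le_sylow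
  obtain ⟨T, hT⟩ := (h2 v hv).exists_le_sylow
  have hzS : D.z ∈ (S : Subgroup G) := hS (mem_zpowers _)
  haveI : Nontrivial ↥(S : Subgroup G) :=
    ⟨⟨⟨D.z, hzS⟩, 1, fun h => D.z_ne (congrArg Subtype.val h)⟩⟩
  have hne := S.2.center_nontrivial
  obtain ⟨⟨w, hwc⟩, hw⟩ := exists_prime_orderOf_dvd_card' 2
    (show 2 ∣ Nat.card (center (S : Subgroup G)) by
      obtain ⟨k, hk⟩ := IsPGroup.iff_card.1 (S.2.to_subgroup (center (S : Subgroup G)))
      rcases k with _ | k
      · exact absurd hk (by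
          have := Finite.one_lt_card (α := center (S : Subgroup G))
          omega)
      · rw [hk]; exact dvd_pow_self 2 k.succ_ne_zero)
  rw [← Subgroup.orderOf_coe, ← Subgroup.orderOf_coe] at hw
  have hwS : ∀ y ∈ (S : Subgroup G), Commute y (w : G) := fun y hy =>
    congrArg Subtype.val (mem_center_iff.1 hwc ⟨y, hy⟩)
  obtain ⟨b, hb⟩ := isConj_iff.1 (mem_H_conj D hn hw (hwS _ hzS).symm)
  obtain ⟨a, ha⟩ := MulAction.exists_smul_eq G S T
  obtain ⟨y, hy, hyv⟩ := (show v ∈ (a • S : Sylow 2 G) by rw [ha]; exact hT (mem_zpowers v))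
  have hyv' : a * y * a⁻¹ = v := hyv
  have hc : Commute v (a * (w : G) * a⁻¹) := by
    rw [← hyv']
    exact (Commute.conj_iff a).2 (hwS y hy)
  rw [← hb] at hc
  set e := a * b
  have hc' : Commute (e⁻¹ * v * e) D.z := by
    have h := (Commute.conj_iff e⁻¹).2 hc
    have h1 : e⁻¹ * (a * (b * D.z * b⁻¹) * a⁻¹) * e⁻¹⁻¹ = D.z := by simp only [e]; group
    rwa [h1, inv_inv] at h
  have hv' : orderOf (e⁻¹ * v * e) = 2 := by
    have := (MulAut.conj e⁻¹).orderOf_eq v
    rw [MulAut.conj_apply, inv_inv] at this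
    rw [this, hv]
  obtain ⟨x, hx⟩ := isConj_iff.1 (mem_H_conj D hn hv' hc')
  exact isConj_iff.2 ⟨e * x, by
    rw [show e * x * D.z * (e * x)⁻¹ = e * (x * D.z * x⁻¹) * e⁻¹ by group, hx]; group⟩

include hn in
/-- A Sylow 3-subgroup of `C(z, u)` has order at most three. -/
theorem not_nine {u : ↥(centralizer ({D.z} : Set G))} (hu : (u : G) * u = 1) (hu1 : (u : G) ≠ 1) (huz : (u : G) ≠ D.z) :
    ¬ 9 ∣ Nat.card ↥(centralizer ({D.z} : Set G) ⊓ centralizer ({(u : G)} : Set G)) := by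
  intro h9
  obtain ⟨-, hσσ, h8⟩ := invol_data D hn hu hu1 huz
  set K := centralizer ({D.z} : Set G) ⊓ centralizer ({(u : G)} : Set G)
  let f : ↥K →* ↥(centralizer ({D.im u} : Set (Perm (Fin n)))) :=
    (D.im.comp (Subgroup.inclusion (inf_le_left : K ≤ centralizer ({D.z} : Set G)))).codRestrict _
      fun k => mem_centralizer_singleton_iff.2 (by
        show D.im ⟨(k : G), k.2.1⟩ * D.im u = D.im u * D.im ⟨(k : G), k.2.1⟩
        rw [← map_mul, ← map_mul]
        exact congrArg D.im (Subtype.ext (mem_centralizer_singleton_iff.1 k.2.2)))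
  have hker : Nat.card f.ker ≤ 2 := by
    refine le_trans (Nat.card_le_card_of_injective (β := zpowers D.z) (fun k => ⟨(k : G), ?_⟩) ?_) ?_
    · rcases D.im_eq_one (x := ⟨((k : ↥K) : G), (k : ↥K).2.1⟩)
        (congrArg Subtype.val (MonoidHom.mem_ker.1 k.2)) with h | h <;> rw [h]
      · exact one_mem _
      · exact mem_zpowers _
    · intro a b h
      exact Subtype.ext (Subtype.ext (congrArg (fun z : zpowers D.z => (z : G)) h))
    · rw [Nat.card_zpowers, D.ord_z]
  have hC := Perm.nat_card_centralizer (D.im u)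
  rw [cycleType_eight hσσ h8, Fintype.card_fin, Multiset.toFinset_replicate] at hC
  have hr : 9 ∣ Nat.card f.range := by
    have e := f.ker.card_mul_index
    rw [Subgroup.index_ker] at e
    rw [← e] at h9
    refine Nat.Coprime.dvd_of_dvd_mul_left ?_ h9
    have hp : 0 < Nat.card f.ker := Nat.card_pos
    interval_cases Nat.card f.ker <;> norm_num
  have hd : 9 ∣ Nat.card ↥(centralizer ({D.im u} : Set (Perm (Fin n)))) :=
    hr.trans f.range.card_subgroup_dvd_card
  rw [hC] at hd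
  norm_num [Multiset.count_replicate_self] at hd
  have h8n : 8 ≤ n := by
    have := Finset.card_le_univ (D.im u).support
    simp at this
    omega
  rcases (show n = 8 ∨ n = 9 ∨ n = 10 by omega) with e | e | e <;> simp [e, Nat.factorial] at hd

end FusedProof

/-- The permutation `(012)(345)`. -/
def aPerm9 : Perm (Fin 9) := swap 0 2 * swap 0 1 * (swap 3 5 * swap 3 4)

/-- The permutation `(012)(345)`. -/
def aPerm10 : Perm (Fin 10) := swap 0 2 * swap 0 1 * (swap 3 5 * swap 3 4)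

/-- The permutation `(03)(14)(25)(67)`. -/
def uPerm9 : Perm (Fin 9) := swap 0 3 * swap 1 4 * (swap 2 5 * swap 6 7)

/-- The permutation `(03)(14)(25)(67)`. -/
def uPerm10 : Perm (Fin 10) := swap 0 3 * swap 1 4 * (swap 2 5 * swap 6 7)

namespace FusedProof

theorem build {n : ℕ} {G : Type u} [Group G] [Finite G] (D : Cov n G) (hn : n ≤ 10)
    (A U : Perm (Fin n)) (hA : A ∈ alternatingGroup (Fin n)) (hA3 : orderOf A = 3)
    (hAval : ∀ i : Fin n, ((A i : Fin n) : ℕ) =
      if (i : ℕ) < 6 then 3 * ((i : ℕ) / 3) + ((i : ℕ) + 1) % 3 else (i : ℕ))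
    (hU : U ∈ alternatingGroup (Fin n)) (hU2 : U * U = 1) (hU8 : U.support.card = 8)
    (hAU : A * U = U * A) : Nonempty (Fused D) := by
  haveI : Fact (Nat.Prime 3) := ⟨Nat.prime_three⟩
  have hoA : orderOf (⟨A, hA⟩ : alternatingGroup (Fin n)) = 3 := by
    rw [← Subgroup.orderOf_coe]; exact hA3
  obtain ⟨a, haπ, ha⟩ := D.odd_lift ⟨A, hA⟩ (by rw [hoA]; decide)
  rw [hoA] at ha
  obtain ⟨u, huπ⟩ := D.π_surj ⟨U, hU⟩
  have huim : D.im u = U := congrArg Subtype.val huπ
  have huu : (u : G) * u = 1 := by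
    rw [D.sq_invol u (Subtype.ext (show D.im u * D.im u = 1 by rw [huim, hU2]))]
    exact if_pos (by rw [show (D.π u : Perm (Fin n)) = U from huim, hU8])
  have hU1 : U ≠ 1 := fun h => by rw [h] at hU8; simp at hU8
  have hu1 : (u : G) ≠ 1 := fun h => hU1 (by
    rw [← huim, show u = 1 from Subtype.ext h, map_one])
  have huz : (u : G) ≠ D.z := fun h => hU1 (by
    rw [← huim]
    exact congrArg Subtype.val ((D.π_ker u).2 (by rw [h]; exact mem_zpowers D.z)))
  have hou : orderOf (u : G) = 2 := orderOf_eq_prime (by rw [sq, huu]) hu1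
  have hau : Commute (a : G) u := (D.comm_odd u a (by rw [ha]; decide) (by
    rw [haπ, huπ]; exact Subtype.ext hAU.symm)).symm
  have huzc : Commute (u : G) D.z := D.z_comm u
  obtain ⟨h, hh⟩ := anti D hn huu hu1 huz
  -- the same inside the centralizer of `u`
  obtain ⟨b, hb⟩ := isConj_iff.1 (one_class D hn hou)
  set t := b⁻¹ * D.z * b with ht
  have htH : t ∈ centralizer ({D.z} : Set G) := mem_centralizer_singleton_iff.2 (by
    have h1 := (Commute.conj_iff b⁻¹).2 huzc
    rw [← hb, show b⁻¹ * (b * D.z * b⁻¹) * b⁻¹⁻¹ = D.z by group, inv_inv] at h1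
    exact h1.eq.symm)
  have htt : t * t = 1 := by
    rw [ht, show b⁻¹ * D.z * b * (b⁻¹ * D.z * b) = b⁻¹ * (D.z * D.z) * b by group, D.z_sq]; group
  have ht1 : t ≠ 1 := fun e => D.z_ne (by
    rw [show D.z = b * t * b⁻¹ by rw [ht]; group, e]; group)
  have htz : t ≠ D.z := fun e => huz (by
    rw [← hb]; nth_rw 1 [← e]; rw [ht]; group)
  obtain ⟨k, hk⟩ := anti D hn (t := ⟨t, htH⟩) htt ht1 htz
  set k' := b * (k : G) * b⁻¹ with hk'
  have hkz : k' * D.z * k'⁻¹ = D.z * u := by
    have h1 : k' * (b * t * b⁻¹) * k'⁻¹ = b * t * b⁻¹ * (b * D.z * b⁻¹) := by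
      rw [hk', show b * (k : G) * b⁻¹ * (b * t * b⁻¹) * (b * (k : G) * b⁻¹)⁻¹
        = b * ((k : G) * t * (k : G)⁻¹) * b⁻¹ by group, hk]
      group
    rw [hb, show b * t * b⁻¹ = D.z by rw [ht]; group] at h1
    exact h1
  have hku : k' * (u : G) * k'⁻¹ = u := by
    rw [hk', ← hb, show b * (k : G) * b⁻¹ * (b * D.z * b⁻¹) * (b * (k : G) * b⁻¹)⁻¹
      = b * ((k : G) * D.z * (k : G)⁻¹) * b⁻¹ by group, (D.z_comm k).eq, mul_inv_cancel_right]
  set w := (h : G) * k' with hw
  have hhz : (h : G) * D.z * (h : G)⁻¹ = D.z := by rw [(D.z_comm h).eq, mul_inv_cancel_right]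
  have hwz : w * D.z * w⁻¹ = u := by
    rw [hw, show (h : G) * k' * D.z * ((h : G) * k')⁻¹
      = (h : G) * (k' * D.z * k'⁻¹) * (h : G)⁻¹ by group, hkz, ← conj_mul, hhz, hh, ← mul_assoc,
      huzc.eq.symm, mul_assoc, D.z_sq, mul_one]
  have hwu : w * (u : G) * w⁻¹ = u * D.z := by
    rw [hw, show (h : G) * k' * (u : G) * ((h : G) * k')⁻¹
      = (h : G) * (k' * (u : G) * k'⁻¹) * (h : G)⁻¹ by group, hku, hh]
  -- Frattini argument
  set K := centralizer ({D.z} : Set G) ⊓ centralizer ({(u : G)} : Set G)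
  have haK : (a : G) ∈ K := ⟨a.2, mem_centralizer_singleton_iff.2 hau.eq⟩
  have hmemK : ∀ y : G, y ∈ K ↔ Commute y D.z ∧ Commute y u := fun y =>
    and_congr mem_centralizer_singleton_iff mem_centralizer_singleton_iff
  have haw : w * (a : G) * w⁻¹ ∈ K := by
    obtain ⟨h1, h2⟩ := (hmemK _).1 haK
    have e1 : Commute (w * (a : G) * w⁻¹) (u : G) := hwz ▸ (Commute.conj_iff w).2 h1
    have e2 : Commute (w * (a : G) * w⁻¹) ((u : G) * D.z) := hwu ▸ (Commute.conj_iff w).2 h2
    refine (hmemK _).2 ⟨?_, e1⟩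
    have := e1.inv_right.mul_right e2
    rwa [inv_mul_cancel_left] at this
  have hsyl : ∀ y : ↥K, orderOf y = 3 → ∃ R : Sylow 3 ↥K, (R : Subgroup ↥K) = zpowers y := by
    intro y hy
    obtain ⟨R, hR⟩ := (IsPGroup.of_card (n := 1) (by rw [Nat.card_zpowers, hy, pow_one]) :
      IsPGroup 3 (zpowers y)).exists_le_sylow
    refine ⟨R, (eq_of_le_of_card_ge hR ?_).symm⟩
    rw [Nat.card_zpowers, hy]
    obtain ⟨j, hj⟩ := IsPGroup.iff_card.1 R.2
    by_contra hlt
    have hj2 : 2 ≤ j := by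
      by_contra hj1
      interval_cases j <;> omega
    exact not_nine D hn huu hu1 huz
      (((pow_dvd_pow 3 hj2).trans (dvd_of_eq hj.symm)).trans (R : Subgroup ↥K).card_subgroup_dvd_card)
  obtain ⟨R1, hR1⟩ := hsyl ⟨(a : G), haK⟩ (by rw [← Subgroup.orderOf_coe]; exact ha)
  obtain ⟨R2, hR2⟩ := hsyl ⟨_, haw⟩ (by
    rw [← Subgroup.orderOf_coe]
    show orderOf (w * (a : G) * w⁻¹) = 3
    rw [← MulAut.conj_apply, MulEquiv.orderOf_eq]
    exact ha)
  obtain ⟨c, hc⟩ := MulAction.exists_smul_eq ↥K R2 R1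
  have hca : c * ⟨_, haw⟩ * c⁻¹ ∈ zpowers (⟨(a : G), haK⟩ : ↥K) := by
    rw [← hR1, ← hc, Sylow.coe_subgroup_smul]
    exact ⟨⟨_, haw⟩, by rw [hR2]; exact mem_zpowers _, rfl⟩
  obtain ⟨l, hl⟩ := mem_zpowers_iff.1 hca
  have hl' : (a : G) ^ l = (c : G) * (w * (a : G) * w⁻¹) * (c : G)⁻¹ := congrArg Subtype.val hl
  obtain ⟨hcz, hcu⟩ := (hmemK _).1 c.2
  set g₁ := (c : G) * w with hg₁
  have hga : g₁ * (a : G) * g₁⁻¹ = (a : G) ^ l := by rw [hl', hg₁]; group
  have hgz : g₁ * D.z * g₁⁻¹ = u := by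
    rw [hg₁, show (c : G) * w * D.z * ((c : G) * w)⁻¹ = c * (w * D.z * w⁻¹) * (c : G)⁻¹ by group,
      hwz, hcu.eq, mul_inv_cancel_right]
  have hgu : g₁ * (u : G) * g₁⁻¹ = u * D.z := by
    rw [hg₁, show (c : G) * w * (u : G) * ((c : G) * w)⁻¹ = c * (w * u * w⁻¹) * (c : G)⁻¹ by group,
      hwu, (hcu.mul_right hcz).eq, mul_inv_cancel_right]
  have ha3 : (a : G) ^ (3 : ℤ) = 1 := by
    rw [show (3 : ℤ) = ((3 : ℕ) : ℤ) from rfl, zpow_natCast, ← ha, pow_orderOf_eq_one]
  -- `g₁ ^ 2` centralizes `a`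
  have hga2 : Commute (g₁ * g₁) (a : G) := by
    refine mul_inv_eq_iff_eq_mul.1 ?_
    rw [show g₁ * g₁ * (a : G) * (g₁ * g₁)⁻¹ = g₁ * (g₁ * a * g₁⁻¹) * g₁⁻¹ by group, hga,
      ← conj_zpow, hga, ← zpow_mul]
    have hl3 : ¬ (3 : ℤ) ∣ l := by
      rintro ⟨q, rfl⟩
      rw [zpow_mul, ha3, one_zpow] at hga
      have := conj_eq_one_iff.1 hga
      rw [this, orderOf_one] at ha
      omega
    obtain ⟨q, hq⟩ : (3 : ℤ) ∣ l * l - 1 := by
      have : l % 3 = 1 ∨ l % 3 = 2 := by omega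
      rcases this with h | h
      · obtain ⟨r, rfl⟩ : ∃ r, l = 3 * r + 1 := ⟨l / 3, by omega⟩
        exact ⟨3 * r * r + 2 * r, by ring⟩
      · obtain ⟨r, rfl⟩ : ∃ r, l = 3 * r + 2 := ⟨l / 3, by omega⟩
        exact ⟨3 * r * r + 4 * r + 1, by ring⟩
    rw [show l * l = 3 * q + 1 by omega, zpow_add, zpow_mul, ha3, one_zpow, one_mul, zpow_one]
  have hguz : g₁ * ((u : G) * D.z) * g₁⁻¹ = D.z := by
    rw [← conj_mul, hgu, hgz, mul_assoc, huzc.eq.symm, ← mul_assoc, huu, one_mul]
  have h4 : ∀ y : G, g₁ * g₁ * (g₁ * g₁) * y * (g₁ * g₁ * (g₁ * g₁))⁻¹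
      = g₁ * (g₁ * (g₁ * (g₁ * y * g₁⁻¹) * g₁⁻¹) * g₁⁻¹) * g₁⁻¹ := fun y => by group
  exact ⟨
    { one := fun v hv => isConj_iff.1 (one_class D hn hv)
      a := a
      ord_a := ha
      mem_a := a.2
      π_a := fun i => by
        rw [show (⟨(a : G), a.2⟩ : ↥(centralizer ({D.z} : Set G))) = a from rfl, haπ]
        exact hAval i
      u := u
      ord_u := hou
      mem_u := u.2
      π_u := by
        rw [show (D.π ⟨(u : G), u.2⟩ : Perm (Fin n)) = U from huim]
        exact hU8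
      au := hau
      g := g₁ * g₁ * (g₁ * g₁)
      ga := hga2.mul_left hga2
      gz := by rw [h4, hgz, hgu, hguz, hgz]
      gu := by rw [h4, hgu, hguz, hgz, hgu] }⟩

end FusedProof

/-- **Piece C of S1645.** -/
theorem fused : StmtFused.{u} := by
  intro G _ _ n D hn
  rcases hn with rfl | rfl
  · exact FusedProof.build D (by norm_num) aPerm9 uPerm9
      (by rw [mem_alternatingGroup]; decide)
      (orderOf_eq_prime (by decide) (by decide)) (by decide)
      (by rw [mem_alternatingGroup]; decide) (by decide) (by decide) (by decide)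
  · exact FusedProof.build D (by norm_num) aPerm10 uPerm10
      (by rw [mem_alternatingGroup]; decide)
      (orderOf_eq_prime (by decide) (by decide)) (by decide)
      (by rw [mem_alternatingGroup]; decide) (by decide) (by decide) (by decide)

end CfsgLib.AltTwoCent
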