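import Mathlib

/-!
# Facts about the alternating group of degree nine for the local analysis at `2A_9`
-/

set_option autoImplicit false
set_option maxRecDepth 100000
set_option linter.style.haveILetI false
set_option linter.unusedSectionVars false

namespace CfsgLib.AltTwoCent.Nine

open Equiv Subgroup

/-- a three cycle -/
def cyc (i j k : Fin 9) : Perm (Fin 9) := swap i j * swap j k

/-- the element of type `3^2` -/
def pA : Perm (Fin 9) := cyc 0 1 2 * cyc 3 4 5

/-- the three commuting three cycles -/
def pC : Fin 3 → Perm (Fin 9) := ![cyc 6 7 8, cyc 0 1 2, cyc 3 4 5]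

/-- inverts the cycles `1, 2` and fixes the cycle `0` -/
def pH : Perm (Fin 9) := swap 0 1 * swap 3 4

/-- the products of powers of the three cycles -/
def pE (e : Fin 3 × Fin 3 × Fin 3) : Perm (Fin 9) :=
  pC 0 ^ (e.1 : ℕ) * pC 1 ^ (e.2.1 : ℕ) * pC 2 ^ (e.2.2 : ℕ)

/-- what is used about a three cycle `c`: an involution `k` inverting it, elements `x, y` of order
three centralising both with `i = x y` a double transposition, and an element `h` centralising it
whose commutator with `pA` is a double transposition -/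
structure Spec (j : Fin 3) where
  k : Perm (Fin 9)
  x : Perm (Fin 9)
  y : Perm (Fin 9)
  h : Perm (Fin 9)
  k_even : Perm.sign k = 1
  k_sq : k * k = 1
  k_supp : k.support.card = 8
  k_inv : k * pC j * k⁻¹ = (pC j)⁻¹
  x_even : Perm.sign x = 1
  x_three : x ^ 3 = 1 ∧ x ≠ 1
  y_even : Perm.sign y = 1
  y_three : y ^ 3 = 1 ∧ y ≠ 1
  xk : x * k = k * x
  yk : y * k = k * y
  xc : x * pC j = pC j * x
  yc : y * pC j = pC j * y
  xy_sq : x * y * (x * y) = 1
  xy_supp : (x * y).support.card = 4
  h_even : Perm.sign h = 1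
  hc : h * pC j = pC j * h
  comm_sq : pA⁻¹ * (h * pA * h⁻¹) * (pA⁻¹ * (h * pA * h⁻¹)) = 1
  comm_supp : (pA⁻¹ * (h * pA * h⁻¹)).support.card = 4
  cut : ∀ e, (∀ i, h * pE e * h⁻¹ * pC i = pC i * (h * pE e * h⁻¹)) →
    pE e = 1 ∨ pE e = pC j ∨ pE e = (pC j)⁻¹

theorem spec_zero : Nonempty (Spec 0) :=
  ⟨{ k := swap 0 1 * swap 2 3 * swap 4 5 * swap 6 7
     x := cyc 0 2 4 * cyc 1 3 5
     y := cyc 0 4 3 * cyc 1 5 2
     h := swap 1 3 * swap 2 4
     k_even := by decide +kernel
     k_sq := by decide +kernel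
     k_supp := by decide +kernel
     k_inv := by decide +kernel
     x_even := by decide +kernel
     x_three := by decide +kernel
     y_even := by decide +kernel
     y_three := by decide +kernel
     xk := by decide +kernel
     yk := by decide +kernel
     xc := by decide +kernel
     yc := by decide +kernel
     xy_sq := by decide +kernel
     xy_supp := by decide +kernel
     h_even := by decide +kernel
     hc := by decide +kernel
     comm_sq := by decide +kernel
     comm_supp := by decide +kernel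
     cut := by decide +kernel }⟩

theorem spec_one : Nonempty (Spec 1) :=
  ⟨{ k := swap 3 4 * swap 5 6 * swap 7 8 * swap 0 1
     x := cyc 3 5 7 * cyc 4 6 8
     y := cyc 3 7 6 * cyc 4 8 5
     h := swap 3 4 * swap 5 6
     k_even := by decide +kernel
     k_sq := by decide +kernel
     k_supp := by decide +kernel
     k_inv := by decide +kernel
     x_even := by decide +kernel
     x_three := by decide +kernel
     y_even := by decide +kernel
     y_three := by decide +kernel
     xk := by decide +kernel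
     yk := by decide +kernel
     xc := by decide +kernel
     yc := by decide +kernel
     xy_sq := by decide +kernel
     xy_supp := by decide +kernel
     h_even := by decide +kernel
     hc := by decide +kernel
     comm_sq := by decide +kernel
     comm_supp := by decide +kernel
     cut := by decide +kernel }⟩

theorem pE_facts : (∀ e e', pE e = pE e' → e = e') ∧ (∀ e, pE e * pA = pA * pE e) ∧
    (∀ i j, pC i * pC j = pC j * pC i) ∧ (∀ i, pC i ^ 3 = 1) ∧ (∀ i, pC i ≠ 1) ∧
    (∀ i, Perm.sign (pC i) = 1) ∧ pA = pC 1 * pC 2 ∧ pC 0 = pE (1, 0, 0) ∧ pC 1 = pE (0, 1, 0) ∧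
    (∀ i, Perm.sign pH = 1 ∧ pH * pA * pH⁻¹ = pA⁻¹ ∧
      pH * pC i * pH⁻¹ = if i = 0 then pC i else (pC i)⁻¹) ∧ pH ^ 2 = 1 := by
  decide +kernel

/-- an involution commuting with a three cycle moves at most six points -/
theorem commute_cycle (j : Fin 3) (σ : Perm (Fin 9)) (h2 : σ * σ = 1)
    (hc : σ * pC j = pC j * σ) : σ.support.card ≤ 6 := by
  have key : ∀ j : Fin 3, ∃ p : Fin 9, (∀ q, pC j q ≠ q → q = p ∨ q = pC j p ∨ q = pC j (pC j p)) ∧
      pC j p ≠ p ∧ pC j (pC j p) ≠ p ∧ pC j (pC j p) ≠ pC j p ∧ pC j (pC j (pC j p)) = p := by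
    decide +kernel
  obtain ⟨p, hmv, h1, h2', h3, h4⟩ := key j
  have hcomm : ∀ q, σ (pC j q) = pC j (σ q) := fun q => congrArg (fun f : Perm (Fin 9) => f q) hc
  have hinv : ∀ q, σ (σ q) = q := fun q => congrArg (fun f : Perm (Fin 9) => f q) h2
  have hp : σ p = p := by
    rcases hmv (σ p) (fun e => h1 (σ.injective (by rw [hcomm, e]))) with h | h | h
    · exact h
    · exfalso
      have := hinv p
      rw [h, hcomm, h] at this
      exact h2' this
    · exfalso
      have := hinv p
      rw [h, hcomm, hcomm, h] at this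
      rw [h4] at this
      exact h1 this
  have hs : σ.support ⊆ (({p, pC j p, pC j (pC j p)} : Finset (Fin 9)))ᶜ := by
    intro q hq
    rw [Perm.mem_support] at hq
    simp only [Finset.mem_compl, Finset.mem_insert, Finset.mem_singleton, not_or]
    refine ⟨?_, ?_, ?_⟩ <;> rintro rfl <;> apply hq
    · exact hp
    · rw [hcomm, hp]
    · rw [hcomm, hcomm, hp]
  refine (Finset.card_le_card hs).trans (le_of_eq ?_)
  rw [Finset.card_compl, Fintype.card_fin,
    Finset.card_eq_three.2 ⟨p, pC j p, pC j (pC j p), h1.symm, h2'.symm, h3.symm, rfl⟩]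

/-! ### Centraliser orders -/

/-- the even elements of the centraliser of a permutation commuting with an odd one -/
theorem card_alt_centralizer (σ τ : Perm (Fin 9)) (hσ : σ ∈ alternatingGroup (Fin 9))
    (hτ : Perm.sign τ = -1) (hc : τ * σ = σ * τ) :
    2 * Nat.card (centralizer ({(⟨σ, hσ⟩ : alternatingGroup (Fin 9))} : Set (alternatingGroup (Fin 9))))
      = Nat.card (centralizer ({σ} : Set (Perm (Fin 9)))) := by
  let C : Subgroup (Perm (Fin 9)) := centralizer ({σ} : Set (Perm (Fin 9)))
  let f : C →* ℤˣ := Perm.sign.comp C.subtype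
  have hf : Function.Surjective f := by
    intro s
    rcases Int.units_eq_one_or s with rfl | rfl
    · exact ⟨1, map_one f⟩
    · exact ⟨⟨τ, mem_centralizer_singleton_iff.2 hc⟩, hτ⟩
  have h := f.ker.card_mul_index
  rw [Subgroup.index_ker, MonoidHom.range_eq_top.2 hf, card_top,
    show Nat.card ℤˣ = 2 by simp] at h
  rw [← h, mul_comm]
  congr 1
  exact Nat.card_congr
    { toFun := fun g => ⟨⟨g.1.1, mem_centralizer_singleton_iff.2
          (congrArg Subtype.val (mem_centralizer_singleton_iff.1 g.2))⟩, g.1.2⟩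
      invFun := fun g => ⟨⟨g.1.1, g.2⟩, mem_centralizer_singleton_iff.2
          (Subtype.ext (mem_centralizer_singleton_iff.1 g.1.2))⟩
      left_inv := fun _ => rfl
      right_inv := fun _ => rfl }

theorem card_cent_pA : Nat.card (centralizer ({pA} : Set (Perm (Fin 9)))) = 108 := by
  rw [Perm.nat_card_centralizer]
  decide +kernel

theorem card_cent_pC (j : Fin 3) :
    Nat.card (centralizer ({pC j} : Set (Perm (Fin 9)))) = 2160 := by
  rw [Perm.nat_card_centralizer]
  revert j
  decide +kernel

theorem swap_comm : swap 6 7 * pA = pA * swap 6 7 ∧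
    (∀ j : Fin 3, ∃ τ, Perm.sign τ = -1 ∧ τ * pC j = pC j * τ) := by
  refine ⟨by decide +kernel, fun j => ?_⟩
  fin_cases j
  · exact ⟨swap 0 1, by decide +kernel, by decide +kernel⟩
  · exact ⟨swap 6 7, by decide +kernel, by decide +kernel⟩
  · exact ⟨swap 6 7, by decide +kernel, by decide +kernel⟩

/-! ### Orders of elements -/

theorem card_cent_five (σ : Perm (Fin 9)) (h : orderOf σ = 5) :
    Nat.card (centralizer ({σ} : Set (Perm (Fin 9)))) = 120 := by
  haveI : Fact (Nat.Prime 5) := ⟨by norm_num⟩
  obtain ⟨m, hm⟩ := Perm.cycleType_prime_order (σ := σ) (h ▸ (Fact.out : Nat.Prime 5))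
  rw [h] at hm
  have h9 := σ.sum_cycleType_le
  rw [hm, Multiset.sum_replicate, smul_eq_mul, Fintype.card_fin] at h9
  obtain rfl : m = 0 := by omega
  rw [Perm.nat_card_centralizer, hm]
  decide +kernel

theorem card_cent_seven (σ : Perm (Fin 9)) (h : orderOf σ = 7) :
    Nat.card (centralizer ({σ} : Set (Perm (Fin 9)))) = 14 := by
  haveI : Fact (Nat.Prime 7) := ⟨by norm_num⟩
  obtain ⟨m, hm⟩ := Perm.cycleType_prime_order (σ := σ) (h ▸ (Fact.out : Nat.Prime 7))
  rw [h] at hm
  have h9 := σ.sum_cycleType_le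
  rw [hm, Multiset.sum_replicate, smul_eq_mul, Fintype.card_fin] at h9
  obtain rfl : m = 0 := by omega
  rw [Perm.nat_card_centralizer, hm]
  decide +kernel

/-- no abelian subgroup of order 81 -/
theorem abelian_ne_81 (R : Subgroup (Perm (Fin 9))) (hab : ∀ x ∈ R, ∀ y ∈ R, x * y = y * x) :
    Nat.card R ≠ 81 := by
  intro hR
  -- an element with a fixed point fixes the whole orbit of that point
  have horb : ∀ p : Fin 9, ∀ x ∈ R, x p = p → ∀ y ∈ R, x (y p) = y p := fun p x hx hxp y hy => by
    have := congrArg (fun f : Perm (Fin 9) => f p) (hab x hx y hy)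
    simp only [Perm.coe_mul, Function.comp_apply, hxp] at this
    exact this
  haveI : Fact (Nat.Prime 3) := ⟨by norm_num⟩
  have hp3 : IsPGroup 3 R := IsPGroup.of_card (n := 4) (by rw [hR]; norm_num)
  have hos : ∀ p : Fin 9, Nat.card (MulAction.orbit R p) *
      Nat.card (MulAction.stabilizer R p) = 81 := fun p => by
    have h := (MulAction.stabilizer R p).index_mul_card
    rw [MulAction.index_stabilizer, hR] at h
    rw [Nat.card_coe_set_eq]
    exact h
  -- every orbit has at most three points
  have h9 : ∀ p : Fin 9, Nat.card (MulAction.orbit R p) ≤ 3 := by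
    intro p
    obtain ⟨n, hn⟩ := hp3.card_orbit p
    by_contra hlt
    have hle : Nat.card (MulAction.orbit R p) ≤ 9 := by
      refine (Nat.card_le_card_of_injective _ Subtype.val_injective).trans ?_
      simp
    have h2 : Nat.card (MulAction.orbit R p) = 9 := by
      rw [hn] at hlt hle ⊢
      rcases n with _ | _ | _ | n
      · simp at hlt
      · simp at hlt
      · norm_num
      · have : 3 ^ 3 ≤ 3 ^ (n + 3) := Nat.pow_le_pow_right (by norm_num) (by omega)
        omega
    have hall : ∀ q : Fin 9, ∃ y ∈ R, y p = q := by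
      have hu : MulAction.orbit R p = Set.univ := by
        refine Set.eq_of_subset_of_ncard_le (Set.subset_univ _) ?_
        rw [Set.ncard_univ, ← Nat.card_coe_set_eq, h2]
        simp
      intro q
      obtain ⟨y, hy⟩ : q ∈ MulAction.orbit R p := hu ▸ Set.mem_univ q
      exact ⟨y, y.2, hy⟩
    have hst : Nat.card (MulAction.stabilizer R p) = 1 := by
      rw [Subgroup.card_eq_one, eq_bot_iff_forall]
      intro x hx
      refine Subtype.ext (Perm.ext fun q => ?_)
      obtain ⟨y, hy, rfl⟩ := hall q
      exact horb p x x.2 hx y hy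
    have h := hos p
    rw [h2, hst] at h
    omega
  -- hence the stabiliser of three points in different orbits
  have hstep : ∀ (A : Subgroup R) (p : Fin 9),
      Nat.card A ≤ 3 * Nat.card ↥(A ⊓ MulAction.stabilizer R p) := by
    intro A p
    haveI : (MulAction.stabilizer R p).Normal := ⟨fun n hn g => by
      rwa [show g * n * g⁻¹ = n from
        mul_inv_eq_iff_eq_mul.2 (Subtype.ext (hab g g.2 n n.2))]⟩
    have h1 : (MulAction.stabilizer R p).relIndex A ≤ 3 := by
      refine le_trans ?_ (h9 p)
      rw [Nat.card_coe_set_eq, ← MulAction.index_stabilizer]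
      exact Nat.le_of_dvd (Nat.pos_of_ne_zero Subgroup.FiniteIndex.index_ne_zero)
        (relIndex_dvd_index_of_normal _ _)
    have h2 := ((MulAction.stabilizer R p).subgroupOf A).card_mul_index
    rw [← inf_subgroupOf_left, Nat.card_congr (subgroupOfEquivOfLe (inf_le_left :
      A ⊓ MulAction.stabilizer R p ≤ A)).toEquiv, inf_subgroupOf_left] at h2
    rw [← h2, mul_comm]
    exact Nat.mul_le_mul_right _ h1
  have hbig : ∀ l : List (Fin 9), l.length ≤ 3 → ∃ x ∈ R, x ≠ 1 ∧ ∀ p ∈ l, x p = p := by
    intro l hl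
    have key : ∀ l : List (Fin 9), ∃ A : Subgroup R, 81 ≤ 3 ^ l.length * Nat.card A ∧
        ∀ x ∈ A, ∀ p ∈ l, (x : Perm (Fin 9)) p = p := by
      intro l
      induction l with
      | nil => exact ⟨⊤, by simp [hR], by simp⟩
      | cons p l ih =>
        obtain ⟨A, hA, hAl⟩ := ih
        refine ⟨A ⊓ MulAction.stabilizer R p, ?_, fun x hx q hq => ?_⟩
        · have := Nat.mul_le_mul_left (3 ^ l.length) (hstep A p)
          rw [List.length_cons, pow_succ]
          calc 81 ≤ 3 ^ l.length * Nat.card A := hA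
            _ ≤ _ := by rw [mul_assoc]; exact this
        · rcases List.mem_cons.1 hq with rfl | hq
          · exact hx.2
          · exact hAl x hx.1 q hq
    obtain ⟨A, hA, hAl⟩ := key l
    have hA2 : Nat.card A ≠ 1 := fun e => by
      rw [e] at hA
      have : 3 ^ l.length ≤ 3 ^ 3 := Nat.pow_le_pow_right (by norm_num) hl
      omega
    obtain ⟨x, hx, hx1⟩ : ∃ x ∈ A, x ≠ 1 := by
      by_contra h
      push Not at h
      exact hA2 (by rw [(eq_bot_iff_forall A).2 h, card_bot])
    exact ⟨x, x.2, fun e => hx1 (Subtype.ext e), hAl x hx⟩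
  -- orbit sizes divide a power of three, so three points meet all orbits of size three
  have hsmall : ∀ p : Fin 9, Nat.card (MulAction.orbit R p) ≠ 2 := fun p e => by
    obtain ⟨n, hn⟩ := hp3.card_orbit p
    rw [e] at hn
    rcases n with _ | n
    · simp at hn
    · rw [pow_succ] at hn; omega
  classical
  obtain ⟨l, hl, hcov⟩ : ∃ l : List (Fin 9), l.length ≤ 3 ∧
      ∀ q : Fin 9, (∃ y ∈ R, y q ≠ q) → ∃ p ∈ l, ∃ y ∈ R, y p = q := by
    let S : Finset (Finset (Fin 9)) := (Finset.univ.filter fun q : Fin 9 => ∃ y ∈ R, y q ≠ q).image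
      fun q => Finset.univ.filter fun r => ∃ y ∈ R, y q = r
    have hmem : ∀ {q r : Fin 9}, (∃ y ∈ R, y q = r) ↔ r ∈ MulAction.orbit R q :=
      fun {q r} => ⟨fun ⟨y, hy, e⟩ => ⟨⟨y, hy⟩, e⟩, fun ⟨y, e⟩ => ⟨y, y.2, e⟩⟩
    have hcard : ∀ s ∈ S, s.card = 3 := by
      intro s hs
      obtain ⟨q, hq, rfl⟩ := Finset.mem_image.1 hs
      obtain ⟨y, hy, hne⟩ := (Finset.mem_filter.1 hq).2
      have e : (Finset.univ.filter fun r => ∃ y ∈ R, y q = r).card =
          Nat.card (MulAction.orbit R q) := by
        rw [← Fintype.card_subtype, ← Nat.card_eq_fintype_card]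
        exact Nat.card_congr (Equiv.subtypeEquivRight fun r => hmem)
      have h1 : 1 < (Finset.univ.filter fun r => ∃ y ∈ R, y q = r).card :=
        Finset.one_lt_card.2 ⟨q, by simpa using ⟨1, R.one_mem, rfl⟩, y q,
          by simpa using ⟨y, hy, rfl⟩, hne.symm⟩
      have := h9 q
      have := hsmall q
      omega
    have hdis : (S : Set (Finset (Fin 9))).PairwiseDisjoint id := by
      intro s hs t ht hne
      rw [Function.onFun, Finset.disjoint_left]
      intro r hr hr'
      obtain ⟨q, -, rfl⟩ := Finset.mem_image.1 hs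
      obtain ⟨q', -, rfl⟩ := Finset.mem_image.1 ht
      simp only [id, Finset.mem_filter, Finset.mem_univ, true_and, hmem] at hr hr'
      refine hne ?_
      ext w
      simp only [Finset.mem_filter, Finset.mem_univ, true_and, hmem]
      rw [← MulAction.orbit_eq_iff.2 hr, ← MulAction.orbit_eq_iff.2 hr']
    have hS : S.card ≤ 3 := by
      have h := Finset.card_le_univ (S.biUnion id)
      rw [Finset.card_biUnion hdis] at h
      simp only [id_eq] at h
      rw [Finset.sum_congr rfl (fun s hs => hcard s hs),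
        Finset.sum_const, smul_eq_mul, Fintype.card_fin] at h
      omega
    refine ⟨(S.attach.toList.map fun s => s.1.min' (Finset.card_pos.1 (by rw [hcard s.1 s.2]; norm_num))),
      by simpa using hS, fun q hq => ?_⟩
    have hs : (Finset.univ.filter fun r => ∃ y ∈ R, y q = r) ∈ S :=
      Finset.mem_image.2 ⟨q, by simpa using hq, rfl⟩
    refine ⟨_, List.mem_map.2 ⟨⟨_, hs⟩, Finset.mem_toList.2 (Finset.mem_attach _ _), rfl⟩, ?_⟩
    have h := Finset.min'_mem (Finset.univ.filter fun r => ∃ y ∈ R, y q = r)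
      (Finset.card_pos.1 (by rw [hcard _ hs]; norm_num))
    obtain ⟨y, hy, e⟩ := (Finset.mem_filter.1 h).2
    exact ⟨y⁻¹, R.inv_mem hy, by rw [← e]; exact y.symm_apply_apply q⟩
  obtain ⟨x, hx, hx1, hxl⟩ := hbig l hl
  refine hx1 (Perm.ext fun q => ?_)
  by_contra hq
  obtain ⟨p, hp, y, hy, rfl⟩ := hcov q ⟨x, hx, hq⟩
  exact hq (horb p x hx (hxl p hp) y hy)

end CfsgLib.AltTwoCent.Nine
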