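import Cfsg.Agent.Lib.AltTwoCent.Defs
import Cfsg.Agent.Lib.AltTwoCent.NinePerm

/-!
# The centraliser `2A_9`: lifts, orders of centralisers, and small subgroups
-/

set_option autoImplicit false
set_option maxRecDepth 100000
set_option linter.style.haveILetI false
set_option linter.unusedSectionVars false

namespace CfsgLib.AltTwoCent.Nine

open Equiv Subgroup

universe u

variable {G : Type u} [Group G] (D : Cov 9 G)

/-- the centraliser of the involution -/
abbrev hh : Subgroup G := centralizer ({D.z} : Set G)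

/-- the permutation of an element of the centraliser -/
def pm : ↥(hh D) →* Perm (Fin 9) := (alternatingGroup (Fin 9)).subtype.comp D.π

theorem pm_apply (x : ↥(hh D)) : pm D x = (D.π x : Perm (Fin 9)) := rfl

theorem z_mem : D.z ∈ hh D := mem_centralizer_singleton_iff.2 rfl

theorem z_sq : D.z * D.z = 1 := by rw [← pow_two, ← D.ord_z, pow_orderOf_eq_one]

theorem z_ne : D.z ≠ 1 := fun h => by have := D.ord_z; rw [h, orderOf_one] at this; omega

theorem eq_one_or_z {w : G} (h : w ∈ zpowers D.z) : w = 1 ∨ w = D.z := by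
  obtain ⟨k, rfl⟩ := mem_zpowers_iff.1 h
  rcases Int.even_or_odd k with ⟨m, rfl⟩ | ⟨m, rfl⟩
  · left
    rw [← two_mul, zpow_mul, zpow_two, z_sq, one_zpow]
  · right
    rw [zpow_add, zpow_mul, zpow_two, z_sq, one_zpow, one_mul, zpow_one]

theorem pm_eq_one {x : ↥(hh D)} : pm D x = 1 ↔ (x : G) = 1 ∨ (x : G) = D.z := by
  rw [pm_apply, show (1 : Perm (Fin 9)) = ((1 : alternatingGroup (Fin 9)) : Perm (Fin 9)) from rfl,
    Subtype.coe_inj, D.π_ker]
  refine ⟨eq_one_or_z D, ?_⟩
  rintro (h | h) <;> rw [h]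
  · exact one_mem _
  · exact mem_zpowers _

theorem eq_or_eq_z_mul {x y : ↥(hh D)} (h : pm D x = pm D y) :
    (x : G) = y ∨ (x : G) = D.z * y := by
  have h1 : pm D (x * y⁻¹) = 1 := by rw [map_mul, map_inv, h, mul_inv_cancel]
  rcases (pm_eq_one D).1 h1 with e | e
  · exact Or.inl (mul_inv_eq_one.1 e)
  · exact Or.inr (mul_inv_eq_iff_eq_mul.1 e)

theorem z_comm {x : G} (hx : x ∈ hh D) : Commute D.z x :=
  Eq.symm (mem_centralizer_singleton_iff.1 hx)

/-- elements of odd order are determined by their permutation -/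
theorem odd_eq {x y : ↥(hh D)} (hx : Odd (orderOf (x : G))) (hy : Odd (orderOf (y : G)))
    (h : pm D x = pm D y) : (x : G) = y := by
  refine (eq_or_eq_z_mul D h).resolve_right fun e => ?_
  set m := orderOf (x : G) * orderOf (y : G)
  have h1 : (x : G) ^ m = 1 := by rw [pow_mul, pow_orderOf_eq_one, one_pow]
  have h2 : (y : G) ^ m = 1 := by rw [pow_mul', pow_orderOf_eq_one, one_pow]
  rw [e, (z_comm D y.2).mul_pow, h2, mul_one] at h1
  obtain ⟨k, hk⟩ := hx.mul hy
  rw [show m = 2 * k + 1 from hk, pow_succ, pow_mul, pow_two, z_sq, one_pow, one_mul] at h1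
  exact z_ne D h1

theorem comm {x y : ↥(hh D)} (hy : Odd (orderOf (y : G)))
    (h : pm D x * pm D y = pm D y * pm D x) : Commute (x : G) y :=
  D.comm_odd x y hy (Subtype.ext h)

theorem orderOf_pm_dvd (x : ↥(hh D)) : orderOf (pm D x) ∣ orderOf (x : G) := by
  rw [Subgroup.orderOf_coe]
  exact orderOf_map_dvd _ x

theorem lift_odd (σ : Perm (Fin 9)) (he : Perm.sign σ = 1) {n : ℕ} (hn : Odd n)
    (ho : orderOf σ = n) : ∃ x : ↥(hh D), pm D x = σ ∧ orderOf (x : G) = n := by
  have ho' : orderOf (⟨σ, Perm.mem_alternatingGroup.2 he⟩ : alternatingGroup (Fin 9)) = n :=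
    (Subgroup.orderOf_mk σ _).trans ho
  obtain ⟨x, hx, hxo⟩ := D.odd_lift _ (ho' ▸ hn)
  exact ⟨x, congrArg Subtype.val hx, hxo.trans ho'⟩

theorem exists_lift (σ : Perm (Fin 9)) (he : Perm.sign σ = 1) : ∃ x : ↥(hh D), pm D x = σ := by
  obtain ⟨x, hx⟩ := D.π_surj ⟨σ, Perm.mem_alternatingGroup.2 he⟩
  exact ⟨x, congrArg Subtype.val hx⟩

theorem sq_lift {x : ↥(hh D)} (h : pm D x * pm D x = 1) :
    (x : G) * x = if (pm D x).support.card % 8 = 0 then 1 else D.z :=
  D.sq_invol x (Subtype.ext h)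

/-- the support of an involution other than `z` -/
theorem supp_invol {x : ↥(hh D)} (h2 : (x : G) * x = 1) (h1 : (x : G) ≠ 1) (hz : (x : G) ≠ D.z) :
    (pm D x).support.card = 8 := by
  have hp : pm D x * pm D x = 1 := by
    rw [← map_mul, show x * x = 1 from Subtype.ext h2, map_one]
  have h := sq_lift D hp
  rw [h2] at h
  split_ifs at h with hc
  · have hne : (pm D x).support.card ≠ 0 := by
      rw [Ne, Finset.card_eq_zero, Perm.support_eq_empty_iff, pm_eq_one]
      tauto
    have := (Finset.card_le_univ (pm D x).support).trans (le_of_eq (Fintype.card_fin 9))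
    omega
  · exact absurd h.symm (z_ne D)

/-- the order of the centraliser in `H` of an element of odd order -/
theorem card_cent [Finite G] {t : ↥(hh D)} (ht : Odd (orderOf (t : G))) {τ : Perm (Fin 9)}
    (hτ : Perm.sign τ = -1) (hc : τ * pm D t = pm D t * τ) :
    Nat.card ↥(hh D ⊓ centralizer ({(t : G)} : Set G)) =
      Nat.card (centralizer ({pm D t} : Set (Perm (Fin 9)))) := by
  rw [← card_alt_centralizer (pm D t) τ (D.π t).2 hτ hc]
  let S : Subgroup (alternatingGroup (Fin 9)) :=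
    centralizer ({(⟨pm D t, (D.π t).2⟩ : alternatingGroup (Fin 9))} : Set _)
  have hmem : ∀ x : ↥(hh D), x ∈ S.comap D.π ↔ (x : G) ∈ centralizer ({(t : G)} : Set G) := by
    intro x
    rw [mem_comap, mem_centralizer_singleton_iff, mem_centralizer_singleton_iff]
    exact ⟨fun e => D.comm_odd x t ht e, fun e => by
      show D.π x * D.π t = D.π t * D.π x
      rw [← map_mul, ← map_mul, show x * t = t * x from Subtype.ext e]⟩
  let f : ↥(S.comap D.π) →* S := (D.π.comp (S.comap D.π).subtype).codRestrict S fun x => x.2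
  have hf : Function.Surjective f := fun s => by
    obtain ⟨x, hx⟩ := D.π_surj s
    exact ⟨⟨x, show D.π x ∈ S from hx.symm ▸ s.2⟩, Subtype.ext hx⟩
  have h := f.ker.card_mul_index
  rw [index_ker, MonoidHom.range_eq_top.2 hf, card_top] at h
  have hker : Nat.card f.ker = 2 := by
    rw [← D.ord_z, ← Nat.card_zpowers]
    refine Nat.card_congr
      { toFun := fun x => ⟨x.1.1.1, (D.π_ker _).1 (congrArg Subtype.val x.2)⟩
        invFun := fun w => ⟨⟨⟨w.1, (zpowers_le.2 (z_mem D)) w.2⟩, ?_⟩, Subtype.ext ((D.π_ker _).2 w.2)⟩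
        left_inv := fun _ => rfl
        right_inv := fun _ => rfl }
    show D.π _ ∈ S
    rw [(D.π_ker ⟨w.1, (zpowers_le.2 (z_mem D)) w.2⟩).2 w.2]
    exact S.one_mem
  rw [hker] at h
  rw [← show 2 * Nat.card S = _ from rfl, h]
  exact Nat.card_congr
    { toFun := fun x => ⟨⟨x.1, x.2.1⟩, (hmem _).2 x.2.2⟩
      invFun := fun x => ⟨x.1.1, x.1.2, (hmem _).1 x.2⟩
      left_inv := fun _ => rfl
      right_inv := fun _ => rfl }

/-! ### Subgroups of `H` meeting `⟨z⟩` trivially -/

/-- the permutation image -/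
def img (X : Subgroup G) : Subgroup (Perm (Fin 9)) := (X.subgroupOf (hh D)).map (pm D)

theorem pm_injOn {X : Subgroup G} (hz : D.z ∉ X) {x y : ↥(hh D)} (hx : (x : G) ∈ X)
    (hy : (y : G) ∈ X) (h : pm D x = pm D y) : x = y := by
  refine Subtype.ext ((eq_or_eq_z_mul D h).resolve_right fun e => hz ?_)
  rw [← mul_inv_eq_iff_eq_mul.2 e]
  exact X.mul_mem hx (X.inv_mem hy)

theorem card_img {X : Subgroup G} (hX : X ≤ hh D) (hz : D.z ∉ X) :
    Nat.card (img D X) = Nat.card X := by
  rw [← Nat.card_congr (subgroupOfEquivOfLe hX).toEquiv]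
  symm
  refine Nat.card_congr (Equiv.ofBijective
    (fun x => ⟨pm D x.1, mem_map_of_mem _ x.2⟩) ⟨fun x y e => ?_, ?_⟩)
  · exact Subtype.ext (pm_injOn D hz x.2 y.2 (congrArg (fun q : ↥(_ : Subgroup _) => (q : Perm (Fin 9))) e))
  · rintro ⟨σ, x, hx, rfl⟩
    exact ⟨⟨x, hx⟩, rfl⟩

theorem z_not_mem_of_odd [Finite G] {X : Subgroup G} (hodd : Odd (Nat.card X)) : D.z ∉ X :=
  fun h => by
    have := X.orderOf_dvd_natCard h
    rw [D.ord_z] at this
    obtain ⟨k, hk⟩ := hodd
    omega

theorem dvd_cent {X : Subgroup G} (hX : X ≤ hh D) (hz : D.z ∉ X) (t : ↥(hh D))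
    (hc : ∀ x ∈ X, Commute x (t : G)) :
    Nat.card X ∣ Nat.card (centralizer ({pm D t} : Set (Perm (Fin 9)))) := by
  rw [← card_img D hX hz]
  refine card_dvd_of_le ?_
  rintro _ ⟨x, hx, rfl⟩
  rw [mem_centralizer_singleton_iff, ← map_mul, ← map_mul]
  exact congrArg (pm D) (Subtype.ext (hc x hx))

theorem dvd_nine_factorial {X : Subgroup G} (hX : X ≤ hh D) (hz : D.z ∉ X) :
    Nat.card X ∣ 362880 := by
  rw [← card_img D hX hz]
  have h := card_subgroup_dvd_card (img D X)
  rwa [Nat.card_perm, Nat.card_fin, show Nat.factorial 9 = 362880 by decide] at h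

theorem exists_order {X : Subgroup G} (hX : X ≤ hh D) (hz : D.z ∉ X) {q : ℕ} [Fact q.Prime]
    (hq : q ∣ Nat.card X) :
    ∃ t : ↥(hh D), (t : G) ∈ X ∧ orderOf (t : G) = q ∧ orderOf (pm D t) = q := by
  haveI : Finite X := Nat.finite_of_card_ne_zero fun h => by
    have := dvd_nine_factorial D hX hz
    rw [h, zero_dvd_iff] at this
    omega
  obtain ⟨t, ht⟩ := exists_prime_orderOf_dvd_card' q hq
  rw [← Subgroup.orderOf_coe] at ht
  refine ⟨⟨t, hX t.2⟩, t.2, ht, ?_⟩
  rcases (Nat.dvd_prime (Fact.out : q.Prime)).1 (ht ▸ orderOf_pm_dvd D ⟨t, hX t.2⟩) with h | h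
  · have e := pm_injOn D hz (x := ⟨t, hX t.2⟩) (y := 1) t.2 X.one_mem
      (by rw [map_one]; exact orderOf_eq_one_iff.1 h)
    have : (t : G) = 1 := congrArg Subtype.val e
    rw [this, orderOf_one] at ht
    exact absurd ht.symm (Fact.out : q.Prime).one_lt.ne'
  · exact h

/-- abelian subgroups of odd order congruent one modulo four -/
theorem abelian_le_nine [Finite G] {R : Subgroup G} (hR : R ≤ hh D) (hodd : Odd (Nat.card R))
    (h4 : Nat.card R % 4 = 1) (hab : ∀ x ∈ R, ∀ y ∈ R, Commute x y) : Nat.card R ≤ 9 := by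
  have hz := z_not_mem_of_odd D hodd
  have hd := dvd_nine_factorial D hR hz
  have hc : ∀ q : ℕ, q.Prime → q ∣ Nat.card R → ∃ t : ↥(hh D), orderOf (pm D t) = q ∧
      Nat.card R ∣ Nat.card (centralizer ({pm D t} : Set (Perm (Fin 9)))) := fun q hq hdvd => by
    haveI : Fact q.Prime := ⟨hq⟩
    obtain ⟨t, ht, -, hto⟩ := exists_order D hR hz hdvd
    exact ⟨t, hto, dvd_cent D hR hz t fun x hx => hab x hx t ht⟩
  by_cases h5 : 5 ∣ Nat.card R
  · obtain ⟨t, ht, hdvd⟩ := hc 5 (by norm_num) h5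
    rw [card_cent_five _ ht] at hdvd
    have h15 : Nat.card R ∣ 15 :=
      Nat.Coprime.dvd_of_dvd_mul_right
        (Nat.Coprime.pow_right 3 (Nat.coprime_two_right.2 hodd)) (show _ ∣ 15 * 2 ^ 3 from hdvd)
    have := Nat.le_of_dvd (by norm_num) h15
    interval_cases (Nat.card R) <;> omega
  by_cases h7 : 7 ∣ Nat.card R
  · obtain ⟨t, ht, hdvd⟩ := hc 7 (by norm_num) h7
    rw [card_cent_seven _ ht] at hdvd
    have := Nat.le_of_dvd (by norm_num) hdvd
    interval_cases (Nat.card R) <;> omega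
  have h81 : Nat.card R ∣ 81 := by
    rw [show (362880 : ℕ) = 81 * 5 * 7 * 2 ^ 7 by norm_num] at hd
    refine ((hd |> Nat.Coprime.dvd_of_dvd_mul_right (Nat.Coprime.pow_right 7
      (Nat.coprime_two_right.2 hodd))) |> Nat.Coprime.dvd_of_dvd_mul_right ?_) |>
      Nat.Coprime.dvd_of_dvd_mul_right ?_
    · exact ((Nat.Prime.coprime_iff_not_dvd (p := 5) (by norm_num)).2 h5).symm
    · exact ((Nat.Prime.coprime_iff_not_dvd (p := 7) (by norm_num)).2 h7).symm
  have hne : Nat.card R ≠ 81 := by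
    rw [← card_img D hR hz]
    refine abelian_ne_81 _ ?_
    rintro _ ⟨x, hx, rfl⟩ _ ⟨y, hy, rfl⟩
    rw [← map_mul, ← map_mul]
    exact congrArg (pm D) (Subtype.ext (hab x hx y hy))
  obtain ⟨i, hi, he⟩ := (Nat.dvd_prime_pow (p := 3) (m := 4) (by norm_num)).1 (by simpa using h81)
  rw [he] at h4 hne ⊢
  interval_cases i <;> simp_all

/-- an element of order three power normalising a group of order five or seven -/
theorem dvd_mod {q i : ℕ} (hq : q = 5 ∨ q = 7) (h : i ^ 9 % q = 1) : i ^ 3 % q = 1 := by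
  rw [Nat.pow_mod] at h ⊢
  rcases hq with rfl | rfl
  · have := Nat.mod_lt i (by norm_num : (0 : ℕ) < 5)
    interval_cases (i % 5) <;> simp_all
  · have := Nat.mod_lt i (by norm_num : (0 : ℕ) < 7)
    interval_cases (i % 7) <;> simp_all

/-- `A_9` has no subgroup of order 90 or 126 without `z` -/
theorem no_ninety [Finite G] {X : Subgroup G} (hX : X ≤ hh D) (hz : D.z ∉ X) :
    Nat.card X ≠ 90 ∧ Nat.card X ≠ 126 := by
  suffices key : ∀ q : ℕ, q = 5 ∨ q = 7 → Nat.card (img D X) ≠ 18 * q by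
    rw [← card_img D hX hz]
    exact ⟨key 5 (Or.inl rfl), key 7 (Or.inr rfl)⟩
  intro q hq hcard
  set Y := img D X
  haveI : Fact q.Prime := ⟨by rcases hq with rfl | rfl <;> norm_num⟩
  haveI : Fact (Nat.Prime 3) := ⟨by norm_num⟩
  -- the normal subgroup of order `9 q`
  obtain ⟨K, hK⟩ : ∃ K : Subgroup Y, Nat.card K = 9 * q := by
    haveI : Fact (Nat.Prime 2) := ⟨Nat.prime_two⟩
    obtain ⟨P⟩ := (inferInstance : Nonempty (Sylow 2 Y))
    have hP : Nat.card P = 2 := by
      rw [P.card_eq_multiplicity, hcard]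
      rcases hq with rfl | rfl <;> decide +kernel
    have hc : IsCyclic P := isCyclic_of_prime_card hP
    have hmin : (Nat.card Y).minFac = 2 := by
      rw [hcard, Nat.minFac_eq_two_iff]; omega
    have h := (IsCyclic.isComplement' hmin hc).card_mul_card
    rw [hP, hcard] at h
    exact ⟨_, Nat.eq_of_mul_eq_mul_right (by norm_num : 0 < 2) (h.trans (by ring))⟩
  obtain ⟨Q⟩ := (inferInstance : Nonempty (Sylow q K))
  have hQ : Nat.card Q = q := by
    rw [Q.card_eq_multiplicity, hK]
    rcases hq with rfl | rfl <;> decide +kernel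
  haveI : Subsingleton (Sylow q K) := by
    have h1 := Sylow.card_dvd_index Q
    have h2 := card_sylow_modEq_one q K
    have h3 := (Q : Subgroup K).card_mul_index
    rw [hK, hQ] at h3
    have h4 : (Q : Subgroup K).index = 9 := by rcases hq with rfl | rfl <;> omega
    rw [h4] at h1
    have h5 := Nat.le_of_dvd (by norm_num) h1
    refine (Nat.card_eq_one_iff_unique.1 ?_).1
    unfold Nat.ModEq at h2
    rcases hq with rfl | rfl <;> interval_cases (Nat.card (Sylow _ K)) <;> omega
  have hn : (Q : Subgroup K).Normal := Sylow.normal_of_subsingleton Q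
  haveI : IsCyclic Q := isCyclic_of_prime_card hQ
  obtain ⟨⟨f, hfQ⟩, hf⟩ := IsCyclic.exists_generator (α := Q)
  have hfo : orderOf f = q := by
    rw [← Subgroup.orderOf_mk f hfQ, ← Nat.card_zpowers,
      (Subgroup.eq_top_iff' _).2 hf, card_top, hQ]
  have hfo' : orderOf ((f : Y) : Perm (Fin 9)) = q := by
    rw [Subgroup.orderOf_coe, Subgroup.orderOf_coe, hfo]
  have hcent := (by rcases hq with rfl | rfl
                    · exact Or.inl ⟨rfl, card_cent_five _ hfo'⟩
                    · exact Or.inr ⟨rfl, card_cent_seven _ hfo'⟩ :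
    (q = 5 ∧ Nat.card (centralizer ({((f : Y) : Perm (Fin 9))} : Set (Perm (Fin 9)))) = 120) ∨
    (q = 7 ∧ Nat.card (centralizer ({((f : Y) : Perm (Fin 9))} : Set (Perm (Fin 9)))) = 14))
  obtain ⟨T⟩ := (inferInstance : Nonempty (Sylow 3 K))
  have hT : Nat.card T = 9 := by
    rw [T.card_eq_multiplicity, hK]
    rcases hq with rfl | rfl <;> decide +kernel
  -- every cube, and for `q = 5` every element, of `T` centralises `f`
  have hexp : ∀ t ∈ (T : Subgroup K), ∃ i : ℕ, t * f * t⁻¹ = f ^ i := fun t _ => by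
    have h := hn.conj_mem f hfQ t
    obtain ⟨i, -, hi⟩ := (mem_zpowers_iff_mem_range_orderOf.1 (hf ⟨_, h⟩)) |> Finset.mem_image.1
    exact ⟨i, (congrArg Subtype.val hi).symm⟩
  have hcube : ∀ t ∈ (T : Subgroup K), Commute (t ^ 3) f ∧ (q = 5 → Commute t f) := by
    intro t ht
    obtain ⟨i, hi⟩ := hexp t ht
    have hpow : ∀ m : ℕ, t ^ m * f * (t ^ m)⁻¹ = f ^ (i ^ m) := by
      intro m
      induction m with
      | zero => simp
      | succ m ih =>
        rw [pow_succ' t m, mul_inv_rev, pow_succ i m,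
          show t * t ^ m * f * ((t ^ m)⁻¹ * t⁻¹) = t * (t ^ m * f * (t ^ m)⁻¹) * t⁻¹ by group,
          ih, ← conj_pow, hi, ← pow_mul, mul_comm]
    have h9 : i ^ 9 % q = 1 := by
      have h := hpow 9
      have ht9 : t ^ 9 = 1 := by
        have h' := Subgroup.orderOf_dvd_natCard _ ht
        rw [hT] at h'
        exact orderOf_dvd_iff_pow_eq_one.1 h' 
      rw [ht9, one_mul, inv_one, mul_one] at h
      have h' : f ^ 1 = f ^ (i ^ 9) := by rw [pow_one]; exact h
      have h'' := (pow_eq_pow_iff_modEq).1 h'.symm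
      rw [hfo] at h''
      rw [h'']
      rcases hq with rfl | rfl <;> rfl
    have h3 := dvd_mod hq h9
    have hfix : ∀ m : ℕ, i ^ m % q = 1 → Commute (t ^ m) f := fun m hm => by
      have h := hpow m
      rw [← pow_mod_orderOf f, hfo, hm, pow_one] at h
      exact mul_inv_eq_iff_eq_mul.1 h
    refine ⟨hfix 3 h3, fun h5 => ?_⟩
    subst h5
    have : i ^ 1 % 5 = 1 := by
      rw [pow_one]
      have := Nat.pow_mod i 3 5
      have hlt := Nat.mod_lt i (by norm_num : (0 : ℕ) < 5)
      rw [h3] at this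
      rcases (show i % 5 = 0 ∨ i % 5 = 1 ∨ i % 5 = 2 ∨ i % 5 = 3 ∨ i % 5 = 4 by omega) with
        e | e | e | e | e <;> rw [e] at this ⊢ <;> omega
    have := hfix 1 this
    rwa [pow_one] at this
  let C := centralizer ({((f : Y) : Perm (Fin 9))} : Set (Perm (Fin 9)))
  have hmemC : ∀ t : K, Commute t f → ((t : Y) : Perm (Fin 9)) ∈ C := fun t h =>
    mem_centralizer_singleton_iff.2 (congrArg (fun x : K => ((x : Y) : Perm (Fin 9))) h.eq)
  rcases hcent with ⟨h5, hc⟩ | ⟨h7, hc⟩
  · have hle : ((T : Subgroup K).map K.subtype).map Y.subtype ≤ C := by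
      rintro _ ⟨_, ⟨t, ht, rfl⟩, rfl⟩
      exact hmemC t ((hcube t ht).2 h5)
    have := card_dvd_of_le hle
    rw [card_map_of_injective Subtype.val_injective, card_map_of_injective Subtype.val_injective,
      hc, hT] at this
    norm_num at this
  · -- an element of order three centralising `f`
    haveI : Finite T := inferInstance
    by_cases hcyc : ∃ t ∈ (T : Subgroup K), t ^ 3 ≠ 1
    · obtain ⟨t, ht, h3⟩ := hcyc
      have ho : orderOf (t ^ 3) = 3 := by
        refine orderOf_eq_prime ?_ h3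
        have h' := Subgroup.orderOf_dvd_natCard _ ht
        rw [hT] at h'
        rw [← pow_mul]
        exact orderOf_dvd_iff_pow_eq_one.1 h' 
      have h := Subgroup.orderOf_dvd_natCard C (hmemC _ (hcube t ht).1)
      rw [Subgroup.orderOf_coe, Subgroup.orderOf_coe, ho, hc] at h
      norm_num at h
    · push Not at hcyc
      -- nine elements act by three powers
      have hsq : ∀ t ∈ (T : Subgroup K), ∃ i : Fin 7, (i : ℕ) ^ 3 % 7 = 1 ∧
          t * f * t⁻¹ = f ^ (i : ℕ) := by
        intro t ht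
        obtain ⟨i, hi⟩ := hexp t ht
        refine ⟨⟨i % 7, Nat.mod_lt _ (by norm_num)⟩, ?_, by rw [hi, ← pow_mod_orderOf, hfo, h7]⟩
        have e : t ^ 3 * f * (t ^ 3)⁻¹ = f ^ (i * i * i) := by
          rw [show t ^ 3 * f * (t ^ 3)⁻¹ = t * (t * (t * f * t⁻¹) * t⁻¹) * t⁻¹ by
            simp [pow_succ, mul_assoc], hi,
            ← conj_pow, hi, ← pow_mul, ← conj_pow, hi, ← pow_mul]
          congr 1
          ring
        rw [hcyc t ht, one_mul, inv_one, mul_one] at e
        have e' := (pow_eq_pow_iff_modEq).1 ((pow_one f).trans e)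
        rw [hfo, h7] at e'
        show (i % 7) ^ 3 % 7 = 1
        rw [← Nat.pow_mod, show i ^ 3 = i * i * i by ring, ← e']
      choose φ hφ hφ' using hsq
      have hnot : ¬ Function.Injective
          fun t : (T : Subgroup K) => (⟨φ t t.2, hφ t t.2⟩ : {i : Fin 7 // (i : ℕ) ^ 3 % 7 = 1}) :=
        fun hinj => by
          have h1 : Nat.card T ≤ Nat.card {i : Fin 7 // (i : ℕ) ^ 3 % 7 = 1} :=
            Nat.card_le_card_of_injective _ hinj
          rw [hT, Nat.card_eq_fintype_card,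
            show Fintype.card {i : Fin 7 // (i : ℕ) ^ 3 % 7 = 1} = 3 by decide +kernel] at h1
          omega
      simp only [Function.Injective, not_forall] at hnot
      obtain ⟨t, t', he, hne⟩ := hnot
      have he' : φ t t.2 = φ t' t'.2 := congrArg Subtype.val he
      have hcm : Commute ((t'⁻¹ * t : (T : Subgroup K)) : K) f := by
        refine mul_inv_eq_iff_eq_mul.1 ?_
        rw [coe_mul, InvMemClass.coe_inv,
          show (t' : K)⁻¹ * t * f * ((t' : K)⁻¹ * t)⁻¹ = (t' : K)⁻¹ * (t * f * (t : K)⁻¹) * t' by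
            group, hφ' t t.2, he', ← hφ' t' t'.2]
        group
      have ho : orderOf ((t'⁻¹ * t : (T : Subgroup K)) : K) = 3 :=
        orderOf_eq_prime (hcyc _ (t'⁻¹ * t).2) fun e => hne (inv_mul_eq_one.1 (Subtype.ext e)).symm
      have h := Subgroup.orderOf_dvd_natCard C (hmemC _ hcm)
      rw [Subgroup.orderOf_coe, Subgroup.orderOf_coe, ho, hc] at h
      norm_num at h

end CfsgLib.AltTwoCent.Nine
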