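import Cfsg.Agent.Lib.AltTwoCent.Defs
import Cfsg.Agent.Lib.AltTwoCent.NineCover

/-!
# The order of the centraliser of an element of type `3^2`

The data of `N(⟨a⟩)/⟨a⟩` give the order up to the condition on `C(a, k)`, which is conjugate into the
double cover of `A_9`, so that the orders `90` and `126` do not occur.
-/

set_option autoImplicit false

namespace CfsgLib.AltTwoCent.Nine

open Subgroup

universe u

variable {G : Type u} [Group G] (D : Cov 9 G)

/-- the powers of an element of order three -/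
theorem mem_zpowers_three {a w : G} (ha : orderOf a = 3) (hw : w ∈ zpowers a) :
    w = 1 ∨ w = a ∨ w = a⁻¹ := by
  have h3 : a ^ 3 = 1 := ha ▸ pow_orderOf_eq_one a
  obtain ⟨k, rfl⟩ := mem_zpowers_iff.1 hw
  rw [← zpow_mod_orderOf, ha]
  have h1 := Int.emod_nonneg k (by norm_num : (3 : ℤ) ≠ 0)
  have h2 := Int.emod_lt_of_pos k (by norm_num : (0 : ℤ) < 3)
  push_cast
  rcases (show k % 3 = 0 ∨ k % 3 = 1 ∨ k % 3 = 2 by omega) with e | e | e <;> rw [e]
  · exact Or.inl (zpow_zero a)
  · exact Or.inr (Or.inl (zpow_one a))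
  · refine Or.inr (Or.inr (eq_inv_of_mul_eq_one_left ?_))
    rw [show (2 : ℤ) = (2 : ℕ) from rfl, zpow_natCast, ← pow_succ, h3]

/-- the orders left for the centraliser of `a` -/
theorem card_ca [Finite G] (F : Fused D) (hD : StmtNineData.{u}) (hO : StmtNineOrder.{u}) :
    Nat.card (centralizer ({F.a} : Set G)) = 26244 ∨
      Nat.card (centralizer ({F.a} : Set G)) = 131220 := by
  obtain ⟨E, hQ⟩ := hD G D F
  obtain ⟨hq, d, hqd, hkd⟩ := hO (Loc F.a) E
  set Y := centralizer ({F.a} : Set G) with hY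
  set A := zpowers F.a with hA
  set N := normalizer (A : Set G) with hN
  have hAY : A ≤ Y := zpowers_le.2 (mem_centralizer_singleton_iff.2 rfl)
  have hYN : Y ≤ N := fun y hy => mem_normalizer_iff.2 fun x => by
    have h1 : ∀ i : ℤ, y * F.a ^ i * y⁻¹ = F.a ^ i := fun i => by
      have : Commute y (F.a ^ i) :=
        Commute.zpow_right (mem_centralizer_singleton_iff.1 hy : y * F.a = F.a * y) i
      rw [this.eq, mul_inv_cancel_right]
    constructor
    · intro hx
      obtain ⟨i, rfl⟩ := mem_zpowers_iff.1 hx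
      rw [h1]
      exact zpow_mem_zpowers _ _
    · intro hx
      obtain ⟨i, hi⟩ := mem_zpowers_iff.1 hx
      have : x = F.a ^ i := by
        apply mul_left_cancel (a := y)
        apply mul_right_cancel (b := y⁻¹)
        rw [← hi, h1]
      exact this ▸ zpow_mem_zpowers _ _
  have hAN : A ≤ N := hAY.trans hYN
  let q := QuotientGroup.mk' (A.subgroupOf N)
  have hker : ∀ x : N, q x = 1 ↔ (x : G) ∈ A := fun x =>
    (QuotientGroup.eq_one_iff x).trans mem_subgroupOf
  have hmemQ : ∀ x : N, q x ∈ E.Q ↔ (x : G) ∈ Y := by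
    intro x
    rw [hQ]
    constructor
    · rintro ⟨y, hy, e⟩
      have h1 : q (y⁻¹ * x) = 1 := by rw [map_mul, map_inv, e, inv_mul_cancel]
      have h2 := Y.mul_mem (mem_subgroupOf.1 hy) (hAY ((hker _).1 h1))
      rwa [Subgroup.coe_mul, Subgroup.coe_inv, mul_inv_cancel_left] at h2
    · exact fun h => ⟨x, mem_subgroupOf.2 h, rfl⟩
  -- the order of `Y`
  have hcardY : Nat.card Y = 3 * Nat.card E.Q := by
    let f : Y →* E.Q := (q.comp (inclusion hYN)).codRestrict E.Q fun y => (hmemQ _).2 y.2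
    have hf : Function.Surjective f := fun w => by
      obtain ⟨x, hx⟩ := QuotientGroup.mk'_surjective (A.subgroupOf N) (w : Loc F.a)
      have hxY : (x : G) ∈ Y := (hmemQ x).1 (hx.symm ▸ w.2)
      exact ⟨⟨x, hxY⟩, Subtype.ext hx⟩
    have h := f.ker.card_mul_index
    rw [index_ker, MonoidHom.range_eq_top.2 hf, card_top] at h
    rw [← h]
    congr 1
    rw [← F.ord_a, ← Nat.card_zpowers]
    exact Nat.card_congr
      { toFun := fun x => ⟨x.1.1, (hker (inclusion hYN x.1)).1 (congrArg Subtype.val x.2)⟩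
        invFun := fun w => ⟨⟨w.1, hAY w.2⟩, Subtype.ext ((hker _).2 w.2)⟩
        left_inv := fun _ => rfl
        right_inv := fun _ => rfl }
  -- the involution `k` above `E.k`
  obtain ⟨k, hk⟩ := QuotientGroup.mk'_surjective (A.subgroupOf N) E.k
  replace hk : q k = E.k := hk
  have hkY : (k : G) ∉ Y := fun h => E.kQ (hk ▸ (hmemQ k).2 h)
  have hinv : (k : G) * F.a * (k : G)⁻¹ = F.a⁻¹ := by
    rcases mem_zpowers_three F.ord_a ((mem_normalizer_iff.1 k.2 F.a).1 (mem_zpowers _)) with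
      h | h | h
    · exact absurd (conj_eq_one_iff.1 h) fun e => by simpa [e] using F.ord_a
    · exact absurd (mem_centralizer_singleton_iff.2 (mul_inv_eq_iff_eq_mul.1 h)) hkY
    · exact h
  have hk2 : (k : G) * k = 1 := by
    have h1 : ((k * k : N) : G) ∈ A := (hker _).1 (by
      rw [map_mul, hk, ← pow_two, ← E.ord_k, pow_orderOf_eq_one])
    rw [Subgroup.coe_mul] at h1
    have h2 : (k : G) * ((k : G) * k) * (k : G)⁻¹ = (k : G) * k := by group
    have hne : F.a⁻¹ ≠ F.a := fun e => by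
      have h4 : F.a ^ 2 = 1 := by rw [pow_two]; nth_rw 1 [← e]; exact inv_mul_cancel _
      have h5 := orderOf_dvd_of_pow_eq_one h4
      rw [F.ord_a] at h5
      norm_num at h5
    rcases mem_zpowers_three F.ord_a h1 with h | h | h
    · exact h
    · rw [h, hinv] at h2
      exact absurd h2 hne
    · rw [h, ← conj_inv, hinv, inv_inv] at h2
      exact absurd h2.symm hne
  have hk1 : (k : G) ≠ 1 := fun h => hkY (h ▸ one_mem _)
  have hko : orderOf (k : G) = 2 := orderOf_eq_prime (by rw [pow_two]; exact hk2) hk1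
  -- `C_Y(k)` maps onto `C_Q(k)`
  have hsurj : ∀ w : Loc F.a, w ∈ E.Q → Commute w E.k →
      ∃ y : N, (y : G) ∈ Y ∧ Commute (y : G) k ∧ q y = w := by
    intro w hw hwk
    obtain ⟨y, rfl⟩ := QuotientGroup.mk'_surjective (A.subgroupOf N) w
    have hyY : (y : G) ∈ Y := (hmemQ y).1 hw
    have h1 : ((y⁻¹ * (k * y * k⁻¹) : N) : G) ∈ A := (hker _).1 (by
      show q _ = 1
      rw [map_mul, map_mul, map_mul, map_inv, map_inv, hk, ← hwk.eq, mul_inv_cancel_right]
      exact inv_mul_cancel (q y))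
    simp only [Subgroup.coe_mul, Subgroup.coe_inv] at h1
    obtain ⟨i, hi⟩ := mem_zpowers_iff.1 h1
    refine ⟨⟨(y : G) * F.a ^ (2 * i), N.mul_mem y.2 (hAN (zpow_mem_zpowers _ _))⟩,
      Y.mul_mem hyY (hAY (zpow_mem_zpowers _ _)), ?_, ?_⟩
    · have hconj : (k : G) * y * (k : G)⁻¹ = (y : G) * F.a ^ i := by rw [hi]; group
      have hapow : (k : G) * F.a ^ (2 * i) * (k : G)⁻¹ = F.a ^ (-(2 * i)) := by
        rw [← conj_zpow, hinv, inv_zpow, ← zpow_neg]
      refine (mul_inv_eq_iff_eq_mul.1 (?_ :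
        (k : G) * ((y : G) * F.a ^ (2 * i)) * (k : G)⁻¹ = (y : G) * F.a ^ (2 * i))).symm
      rw [show (k : G) * ((y : G) * F.a ^ (2 * i)) * (k : G)⁻¹ =
        ((k : G) * y * (k : G)⁻¹) * ((k : G) * F.a ^ (2 * i) * (k : G)⁻¹) by group, hconj, hapow,
        mul_assoc, ← zpow_add, zpow_eq_zpow_iff_modEq.2]
      rw [F.ord_a]
      exact (Int.modEq_iff_dvd).2 ⟨i, by push_cast; ring⟩
    · show q _ = q y
      rw [show (⟨(y : G) * F.a ^ (2 * i), _⟩ : N) =
        y * ⟨F.a ^ (2 * i), hAN (zpow_mem_zpowers _ _)⟩ from Subtype.ext rfl, map_mul,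
        (hker ⟨F.a ^ (2 * i), hAN (zpow_mem_zpowers _ _)⟩).2 (zpow_mem_zpowers _ _), mul_one]
  set T := Y ⊓ centralizer ({(k : G)} : Set G) with hT
  have hcardT : Nat.card T = 6 * d := by
    rw [← hkd]
    have hqmem : ∀ y : T, q ⟨y, hYN y.2.1⟩ ∈ centralizer ({E.k} : Set (Loc F.a)) := fun y => by
      rw [mem_centralizer_singleton_iff, ← hk, ← map_mul, ← map_mul]
      exact congrArg q (Subtype.ext (mem_centralizer_singleton_iff.1 y.2.2))
    refine Nat.card_congr (Equiv.ofBijective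
      (fun y : T => (⟨q ⟨y, hYN y.2.1⟩, (hmemQ _).2 y.2.1, hqmem y⟩ :
        ↥(E.Q ⊓ centralizer ({E.k} : Set (Loc F.a))))) ⟨fun y y' e => ?_, fun w => ?_⟩)
    · have e' : q (⟨y, hYN y.2.1⟩⁻¹ * ⟨y', hYN y'.2.1⟩) = 1 := by
        rw [map_mul, map_inv]
        rw [show q ⟨y, hYN y.2.1⟩ = q ⟨y', hYN y'.2.1⟩ from congrArg Subtype.val e]
        exact inv_mul_cancel _
      have h1 := (hker _).1 e'
      simp only [Subgroup.coe_mul, Subgroup.coe_inv] at h1
      have hc : Commute (k : G) ((y : G)⁻¹ * y') := by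
        have := Eq.symm (mem_centralizer_singleton_iff.1 (T.mul_mem (T.inv_mem y.2) y'.2).2)
        exact this
      refine Subtype.ext (eq_of_inv_mul_eq_one ?_)
      rcases mem_zpowers_three F.ord_a h1 with h | h | h
      · exact h
      · refine absurd (mem_centralizer_singleton_iff.2 ?_) hkY
        rw [← h]; exact hc.eq
      · refine absurd (mem_centralizer_singleton_iff.2 ?_) hkY
        rw [h] at hc
        exact (Commute.inv_right_iff.1 hc).eq
    · obtain ⟨y, hyY, hyk, hy⟩ := hsurj w w.2.1 (mem_centralizer_singleton_iff.1 w.2.2)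
      exact ⟨⟨y, hyY, mem_centralizer_singleton_iff.2 hyk⟩, Subtype.ext hy⟩
  -- the conjugate inside the cover
  obtain ⟨x, hx⟩ := F.one (k : G) hko
  set X := T.comap (MulAut.conj x).toMonoidHom with hX
  have hmemX : ∀ v, v ∈ X ↔ x * v * x⁻¹ ∈ T := fun v => Iff.rfl
  have hXh : X ≤ hh D := fun v hv => by
    have h1 := mem_centralizer_singleton_iff.1 ((hmemX v).1 hv).2
    rw [← hx] at h1
    refine mem_centralizer_singleton_iff.2 ?_
    refine mul_left_cancel (a := x) (mul_right_cancel (b := x⁻¹) ?_)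
    calc x * (v * D.z) * x⁻¹ = x * v * x⁻¹ * (x * D.z * x⁻¹) := by group
      _ = x * D.z * x⁻¹ * (x * v * x⁻¹) := h1
      _ = _ := by group
  have hXz : D.z ∉ X := fun h => hkY (hx ▸ ((hmemX _).1 h).1)
  have hcardX : Nat.card X = 6 * d := by
    rw [← hcardT]
    exact Nat.card_congr
      { toFun := fun v => ⟨x * v * x⁻¹, v.2⟩
        invFun := fun w => ⟨x⁻¹ * w * x, (hmemX _).2 (by
          rw [show x * (x⁻¹ * (w : G) * x) * x⁻¹ = w by group]; exact w.2)⟩
        left_inv := fun v => Subtype.ext (by show x⁻¹ * (x * (v : G) * x⁻¹) * x = v; group)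
        right_inv := fun w => Subtype.ext (by show x * (x⁻¹ * (w : G) * x) * x⁻¹ = w; group) }
  obtain ⟨n90, n126⟩ := no_ninety D hXh hXz
  have hdvd := dvd_nine_factorial D hXh hXz
  rw [hcardX] at n90 n126 hdvd
  have hd2 : d < 32 := by
    rcases hq with h | h | h | h | h | h <;> rw [h] at hqd <;> nlinarith
  rcases hq with h | h | h | h | h | h <;> rw [h] at hqd hcardY
  · exact Or.inl hcardY
  all_goals first
    | exact Or.inr hcardY
    | (exfalso; interval_cases d <;> omega)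

end CfsgLib.AltTwoCent.Nine
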