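import Cfsg.Agent.Lib.AltTwoCent.NinePerm

/-!
# The normaliser of `⟨pA⟩` in `A₉`, enumerated
-/

set_option autoImplicit false
set_option maxRecDepth 100000
set_option linter.style.haveILetI false
set_option linter.unusedSectionVars false

namespace CfsgLib.AltTwoCent.Nine

open Equiv Subgroup

/-- the involution inverting `pA` -/
def pK : Perm (Fin 9) := swap 0 4 * swap 1 3 * (swap 2 5 * swap 6 7)

/-- powers of the first cycle of `pA` -/
def pI : Fin 3 → Perm (Fin 9) := ![1, cyc 0 1 2, cyc 0 2 1]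

/-- powers of the second cycle of `pA` -/
def pJ : Fin 3 → Perm (Fin 9) := ![1, cyc 3 4 5, cyc 3 5 4]

/-- the exchange of the two cycles -/
def pW : Fin 2 → Perm (Fin 9) := ![1, swap 0 3 * swap 1 4 * swap 2 5]

/-- the permutations of the last three points -/
def pS : Fin 6 → Perm (Fin 9) := ![1, cyc 6 7 8, cyc 6 8 7, swap 6 7, swap 6 8, swap 7 8]

/-- indices of the centraliser of `pA` -/
abbrev CIdx : Type := Fin 3 × Fin 3 × Fin 2 × Fin 6

/-- the centraliser of `pA` in `S₉` -/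
def cPar (c : CIdx) : Perm (Fin 9) := pI c.1 * pJ c.2.1 * (pW c.2.2.1 * pS c.2.2.2)

/-- whether `cPar c` is even -/
def evC (c : CIdx) : Bool := decide ((c.2.2.1 : ℕ) = 0) == decide ((c.2.2.2 : ℕ) < 3)

/-- the normaliser of `⟨pA⟩` in `S₉` -/
def nPar (p : Bool × CIdx) : Perm (Fin 9) := bif p.1 then pK * cPar p.2 else cPar p.2

/-- whether a lift squares to `1` -/
abbrev Par (σ : Perm (Fin 9)) : Prop := σ.support.card % 8 = 0

/-- the inner involutions with eight moved points -/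
def uRep (p : Fin 3 × Fin 3) : Perm (Fin 9) :=
  ![swap 0 3 * swap 1 4 * swap 2 5, swap 0 5 * swap 1 3 * swap 2 4,
    swap 0 4 * swap 1 5 * swap 2 3] p.1 * ![swap 6 7, swap 6 8, swap 7 8] p.2

/-- the outer involutions with eight moved points, modulo `pA` -/
def oRep (j : Fin 3) : Perm (Fin 9) :=
  swap 0 4 * swap 1 3 * swap 2 5 * ![swap 6 7, swap 6 8, swap 7 8] j

/-- the centraliser of `pK` in `C(pA)` up to the inner involution -/
def tRep : Finset (Perm (Fin 9)) := {1, cyc 0 1 2 * cyc 3 5 4, cyc 0 2 1 * cyc 3 4 5}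

/-- representatives modulo `pA` of the even part of the normaliser -/
def zRep : Finset (Perm (Fin 9)) :=
  (Finset.univ.filter fun p : Bool × Fin 3 × Fin 2 × Fin 6 =>
    evC (p.2.1, 0, p.2.2.1, p.2.2.2) = true).image fun p =>
      nPar (p.1, p.2.1, 0, p.2.2.1, p.2.2.2)

theorem sign_cPar (c : CIdx) : Perm.sign (cPar c) = 1 ↔ evC c = true := by
  have hI : ∀ i, Perm.sign (pI i) = 1 := by decide +kernel
  have hJ : ∀ i, Perm.sign (pJ i) = 1 := by decide +kernel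
  have hWS : ∀ f s, Perm.sign (pW f) * Perm.sign (pS s) = 1 ↔
      (decide ((f : ℕ) = 0) == decide ((s : ℕ) < 3)) = true := by decide +kernel
  rw [cPar, map_mul, map_mul, map_mul, hI, hJ, one_mul, one_mul, hWS]
  rfl

theorem sign_nPar (p : Bool × CIdx) : Perm.sign (nPar p) = 1 ↔ evC p.2 = true := by
  have hK : Perm.sign pK = 1 := by decide +kernel
  obtain ⟨e, c⟩ := p
  cases e <;> simp [nPar, map_mul, hK, sign_cPar]

theorem cPar_comm : ∀ c, cPar c * pA = pA * cPar c := by decide +kernel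

theorem pK_facts : Perm.sign pK = 1 ∧ pK * pK = 1 ∧ pK * pA * pK⁻¹ = pA⁻¹ ∧
    pK.support.card = 8 ∧ pA ^ 3 = 1 ∧ pA ≠ 1 ∧ pA ≠ pA⁻¹ := by
  decide +kernel

theorem cPar_injective : Function.Injective cPar := by
  have key : ∀ c d : CIdx, (cPar c 0, cPar c 3, cPar c 6, cPar c 7) =
      (cPar d 0, cPar d 3, cPar d 6, cPar d 7) → c = d := by
    decide +kernel
  exact fun c d e => key c d (by rw [e])

theorem exists_cPar {σ : Perm (Fin 9)} (h : σ * pA = pA * σ) : ∃ c, cPar c = σ := by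
  let f : CIdx → centralizer ({pA} : Set (Perm (Fin 9))) := fun c =>
    ⟨cPar c, mem_centralizer_singleton_iff.2 (cPar_comm c)⟩
  have hf : Function.Bijective f := by
    refine (Nat.bijective_iff_injective_and_card f).2
      ⟨fun c d e => cPar_injective (congrArg Subtype.val e), ?_⟩
    rw [card_cent_pA, Nat.card_eq_fintype_card]
    rfl
  obtain ⟨c, hc⟩ := hf.2 ⟨σ, mem_centralizer_singleton_iff.2 h⟩
  exact ⟨c, congrArg Subtype.val hc⟩

theorem exists_nPar {σ : Perm (Fin 9)} (h : σ * pA * σ⁻¹ = pA ∨ σ * pA * σ⁻¹ = pA⁻¹) :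
    ∃ p, nPar p = σ := by
  rcases h with h | h
  · obtain ⟨c, hc⟩ := exists_cPar (mul_inv_eq_iff_eq_mul.1 h)
    exact ⟨(false, c), hc⟩
  · obtain ⟨hs, hk, hka, -, -⟩ := pK_facts
    obtain ⟨c, hc⟩ := exists_cPar (σ := pK * σ) (by
      have : pK * σ * pA * (pK * σ)⁻¹ = pA := by
        rw [show pK * σ * pA * (pK * σ)⁻¹ = pK * (σ * pA * σ⁻¹) * pK⁻¹ by group, h, ← conj_inv,
          hka, inv_inv]
      exact mul_inv_eq_iff_eq_mul.1 this)
    refine ⟨(true, c), ?_⟩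
    show pK * cPar c = σ
    rw [hc, ← mul_assoc, hk, one_mul]

theorem nPar_normalizes : ∀ p : Bool × CIdx,
    nPar p * pA * (nPar p)⁻¹ = if p.1 then pA⁻¹ else pA := by
  decide +kernel

theorem nPar_shift : ∀ p : Bool × CIdx, nPar p * pA ^ ((-p.2.2.1 : Fin 3) : ℕ) =
    nPar (p.1, p.2.1 - p.2.2.1, 0, p.2.2.2.1, p.2.2.2.2) := by
  decide +kernel

theorem uRep_facts : (∀ i, Perm.sign (uRep i) = 1 ∧ uRep i * uRep i = 1 ∧
      (uRep i).support.card = 8 ∧ uRep i * pA = pA * uRep i) ∧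
    (∀ i j, ∀ l : Fin 3, uRep j = uRep i * pA ^ (l : ℕ) → l = 0) := by
  decide +kernel

theorem inner_class : ∀ c, evC c = true → cPar c * cPar c = 1 → (cPar c).support.card = 8 →
    ∃ i, uRep i = cPar c := by
  decide +kernel

theorem inner_cent : ∀ i, ∀ c, evC c = true → cPar c * uRep i = uRep i * cPar c →
    ∃ l : Fin 3, cPar c * pA ^ (l : ℕ) = 1 ∨ cPar c * pA ^ (l : ℕ) = uRep i := by
  decide +kernel

theorem inner_anti : ∀ i, ∀ c, evC c = true → nPar (true, c) * uRep i = uRep i * nPar (true, c) →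
    nPar (true, c) * nPar (true, c) = 1 ∧ ¬ (Par (nPar (true, c)) ↔ Par (nPar (true, c) * uRep i)) := by
  decide +kernel

theorem inner_swap : ∀ i, ∃ c, evC c = true ∧ nPar (true, c) * uRep i = uRep i * nPar (true, c) := by
  decide +kernel

theorem inner_conj : ∀ i, ∃ c, evC c = true ∧ cPar c * uRep (0, 0) = uRep i * cPar c := by
  decide +kernel

theorem k_cent : ∀ c, evC c = true → cPar c * pK = pK * cPar c → cPar c ∈ tRep ∨
    (cPar c ^ 3 * cPar c ^ 3 = 1 ∧ ¬ (Par (cPar c ^ 3) ↔ Par (cPar c ^ 3 * pK))) := by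
  decide +kernel

theorem tRep_facts : (∀ σ ∈ tRep, Perm.sign σ = 1 ∧ σ * pA = pA * σ ∧ σ * pK = pK * σ ∧
      σ ^ 3 = 1 ∧ (σ * σ = 1 → σ = 1)) ∧
    (∀ σ ∈ tRep, ∀ τ ∈ tRep, ∀ l : Fin 3, τ = σ * pA ^ (l : ℕ) → l = 0) ∧ tRep.card = 3 := by
  have h1 : ∀ i : Fin 3, let σ := ![1, cyc 0 1 2 * cyc 3 5 4, cyc 0 2 1 * cyc 3 4 5] i
      Perm.sign σ = 1 ∧ σ * pA = pA * σ ∧ σ * pK = pK * σ ∧ σ ^ 3 = 1 ∧
        (σ * σ = 1 → σ = 1) := by
    intro i
    fin_cases i <;> decide +kernel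
  have h2 : ∀ σ ∈ tRep, ∃ i : Fin 3, ![1, cyc 0 1 2 * cyc 3 5 4, cyc 0 2 1 * cyc 3 4 5] i = σ := by
    intro σ hσ
    rw [tRep, Finset.mem_insert, Finset.mem_insert, Finset.mem_singleton] at hσ
    rcases hσ with h | h | h
    exacts [⟨0, h.symm⟩, ⟨1, h.symm⟩, ⟨2, h.symm⟩]
  refine ⟨fun σ hσ => ?_, fun σ hσ τ hτ => ?_, by decide +kernel⟩
  · obtain ⟨i, rfl⟩ := h2 σ hσ
    exact h1 i
  · obtain ⟨i, rfl⟩ := h2 σ hσ
    obtain ⟨j, rfl⟩ := h2 τ hτ
    revert i j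
    decide +kernel

theorem outer_class : ∀ c, evC c = true → nPar (true, c) * nPar (true, c) = 1 →
    (nPar (true, c)).support.card = 8 →
    ∃ l : Fin 3, ∃ j, oRep j = nPar (true, c) * pA ^ (l : ℕ) := by
  decide +kernel

theorem oRep_facts : (∀ j, Perm.sign (oRep j) = 1 ∧ oRep j * oRep j = 1 ∧
      (oRep j).support.card = 8 ∧ oRep j * pA * (oRep j)⁻¹ = pA⁻¹) ∧
    (∀ i j, ∀ l : Fin 3, oRep j = oRep i * pA ^ (l : ℕ) → l = 0) ∧
    (∀ j, ∃ c, evC c = true ∧ cPar c * pK = oRep j * cPar c) ∧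
    (uRep (0, 0) * pK = pK * uRep (0, 0) ∧ ¬ Par (uRep (0, 0) * pK)) := by
  decide +kernel

theorem pair_power : ∀ i j, ∃ m : Fin 4, (uRep i * oRep j) ^ ((m : ℕ) + 1) *
    (uRep i * oRep j) ^ ((m : ℕ) + 1) = 1 ∧ ¬ Par ((uRep i * oRep j) ^ ((m : ℕ) + 1)) := by
  decide +kernel

theorem rep_cards : (Finset.univ.image uRep).card = 9 ∧ (Finset.univ.image oRep).card = 3 := by
  decide +kernel

theorem zRep_card : zRep.card = 36 := by decide +kernel

theorem zRep_facts : ∀ p q : Bool × Fin 3 × Fin 2 × Fin 6, ∀ l : Fin 3,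
    nPar (q.1, q.2.1, 0, q.2.2.1, q.2.2.2) =
      nPar (p.1, p.2.1, 0, p.2.2.1, p.2.2.2) * pA ^ (l : ℕ) → l = 0 := by
  decide +kernel

end CfsgLib.AltTwoCent.Nine
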