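import Cfsg.Agent.Lib.AltTwoCent.Defs
import Cfsg.Agent.Lib.AltTwoCent.NineCover
import Cfsg.Agent.Lib.AltTwoCent.NineDataPerm

/-!
# S1645, piece C9: the data of `N(⟨a⟩)/⟨a⟩` in degree nine
-/

set_option autoImplicit false
set_option maxRecDepth 100000
set_option linter.style.haveILetI false
set_option linter.unusedSectionVars false

namespace CfsgLib.AltTwoCent.NineDataProof

open Equiv Subgroup Nine

universe u

variable {G : Type u} [Group G] [Finite G] {D : Cov 9 G} (F : Fused D)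

/-- the normaliser -/
abbrev NN : Subgroup G := normalizer (zpowers F.a : Set G)

/-- the projection -/
abbrev qq : ↥(NN F) →* Loc F.a := QuotientGroup.mk' ((zpowers F.a).subgroupOf (NN F))

/-- the image of the centraliser -/
abbrev QQ : Subgroup (Loc F.a) :=
  ((centralizer ({F.a} : Set G)).subgroupOf (NN F)).map (qq F)

/-- `a` in the centraliser of `z` -/
abbrev aH : ↥(hh D) := ⟨F.a, F.mem_a⟩

theorem pm_a : pm D (aH F) = pA := by
  refine Equiv.ext fun i => Fin.ext ?_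
  rw [pm_apply, F.π_a i]
  revert i
  decide +kernel

theorem a_cube : F.a ^ 3 = 1 := F.ord_a ▸ pow_orderOf_eq_one F.a

theorem a_ne : F.a ≠ 1 := fun h => by simpa [h] using F.ord_a

theorem mem_A {w : G} (hw : w ∈ zpowers F.a) : ∃ l : Fin 3, w = F.a ^ (l : ℕ) := by
  classical
  obtain ⟨i, hi, rfl⟩ := Finset.mem_image.1 (mem_zpowers_iff_mem_range_orderOf.1 hw)
  rw [F.ord_a, Finset.mem_range] at hi
  exact ⟨⟨i, hi⟩, rfl⟩

theorem a_pow_two {l : Fin 3} (h : F.a ^ (l : ℕ) * F.a ^ (l : ℕ) = 1) : l = 0 := by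
  rw [← pow_add] at h
  have h' := orderOf_dvd_of_pow_eq_one h
  rw [F.ord_a] at h'
  have := l.isLt
  exact Fin.ext (show (l : ℕ) = 0 by omega)

theorem a_inv : F.a⁻¹ = F.a ^ 2 :=
  inv_eq_of_mul_eq_one_right (by rw [← pow_succ', a_cube])

theorem mem_NN {x : G} (h : x * F.a * x⁻¹ = F.a ∨ x * F.a * x⁻¹ = F.a⁻¹) : x ∈ NN F := by
  refine mem_normalizer_iff.2 fun w => ⟨fun hw => ?_, fun hw => ?_⟩
  · obtain ⟨i, rfl⟩ := mem_zpowers_iff.1 hw
    rw [← conj_zpow]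
    rcases h with h | h <;> rw [h]
    · exact zpow_mem (mem_zpowers _) i
    · exact zpow_mem (inv_mem (mem_zpowers _)) i
  · obtain ⟨i, hi⟩ := mem_zpowers_iff.1 hw
    have hw' : w = (x⁻¹ * F.a * x⁻¹⁻¹) ^ i := by rw [conj_zpow, hi]; group
    rw [hw']
    rcases h with h | h
    · rw [show x⁻¹ * F.a * x⁻¹⁻¹ = F.a by conv_lhs => arg 1; arg 2; rw [← h]
                                          group]
      exact zpow_mem (mem_zpowers _) i
    · rw [show x⁻¹ * F.a * x⁻¹⁻¹ = F.a⁻¹ by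
        have h' : F.a = x * F.a⁻¹ * x⁻¹ := by rw [← conj_inv, h, inv_inv]
        conv_lhs => arg 1; arg 2; rw [h']
        group]
      exact zpow_mem (inv_mem (mem_zpowers _)) i

theorem conj_cases {x : G} (hx : x ∈ NN F) :
    x * F.a * x⁻¹ = F.a ∨ x * F.a * x⁻¹ = F.a⁻¹ := by
  obtain ⟨l, hl⟩ := mem_A F ((mem_normalizer_iff.1 hx F.a).1 (mem_zpowers _))
  rw [hl, a_inv]
  fin_cases l
  · simp only [pow_zero, conj_eq_one_iff] at hl
    exact absurd hl (a_ne F)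
  · exact Or.inl (pow_one _)
  · exact Or.inr rfl

theorem comm_mem {x : G} (h : Commute x F.a) : x ∈ NN F :=
  mem_NN F (Or.inl (mul_inv_eq_iff_eq_mul.2 h.eq))

theorem a_odd : Odd (orderOf (aH F : G)) := by
  show Odd (orderOf F.a)
  rw [F.ord_a]; decide

theorem comm_a (x : ↥(hh D)) : Commute (x : G) F.a ↔ pm D x * pA = pA * pm D x := by
  rw [← pm_a F]
  refine ⟨fun h => ?_, fun h => Nine.comm D (a_odd F) h⟩
  rw [← map_mul, ← map_mul, show x * aH F = aH F * x from Subtype.ext h.eq]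

theorem pm_normalizes {x : ↥(hh D)} (h : (x : G) ∈ NN F) :
    pm D x * pA * (pm D x)⁻¹ = pA ∨ pm D x * pA * (pm D x)⁻¹ = pA⁻¹ := by
  rw [← pm_a F, ← map_inv, ← map_mul, ← map_mul, ← map_inv]
  exact (conj_cases F h).imp
    (fun e => congrArg (pm D) (Subtype.ext e)) (fun e => congrArg (pm D) (Subtype.ext e))

theorem mem_of_pm {x : ↥(hh D)}
    (h : pm D x * pA * (pm D x)⁻¹ = pA ∨ pm D x * pA * (pm D x)⁻¹ = pA⁻¹) : (x : G) ∈ NN F := by
  rw [← pm_a F, ← map_inv, ← map_mul, ← map_mul, ← map_inv] at h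
  have ho : Odd (orderOf ((x * aH F * x⁻¹ : ↥(hh D)) : G)) := by
    show Odd (orderOf ((x : G) * F.a * (x : G)⁻¹))
    rw [← MulAut.conj_apply, MulEquiv.orderOf_eq, F.ord_a]; decide
  refine mem_NN F (h.imp (fun e => odd_eq D ho (a_odd F) e) fun e => odd_eq D ho ?_ e)
  show Odd (orderOf F.a⁻¹)
  rw [orderOf_inv, F.ord_a]; decide

theorem pm_pow (x : ↥(hh D)) (l : ℕ) : pm D (x * aH F ^ l) = pm D x * pA ^ l := by
  rw [map_mul, map_pow, pm_a]

theorem sign_pm (x : ↥(hh D)) : Perm.sign (pm D x) = 1 :=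
  Perm.mem_alternatingGroup.1 (D.π x).2

theorem exists_n {x : ↥(hh D)} (h : (x : G) ∈ NN F) :
    ∃ p : Bool × CIdx, evC p.2 = true ∧ nPar p = pm D x := by
  obtain ⟨p, hp⟩ := exists_nPar (pm_normalizes F h)
  exact ⟨p, (sign_nPar p).1 (hp ▸ sign_pm x), hp⟩

theorem exists_c {x : ↥(hh D)} (h : Commute (x : G) F.a) :
    ∃ c, evC c = true ∧ cPar c = pm D x := by
  obtain ⟨c, hc⟩ := exists_cPar ((comm_a F x).1 h)
  exact ⟨c, (sign_cPar c).1 (hc ▸ sign_pm x), hc⟩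

theorem exists_out {x : ↥(hh D)} (h : (x : G) ∈ NN F) (hn : ¬ Commute (x : G) F.a) :
    ∃ c, evC c = true ∧ nPar (true, c) = pm D x := by
  obtain ⟨⟨e, c⟩, he, hp⟩ := exists_n F h
  cases e
  · exact absurd ((comm_a F x).2 (hp ▸ cPar_comm c)) hn
  · exact ⟨c, he, hp⟩

theorem q_eq {x y : G} (hx : x ∈ NN F) (hy : y ∈ NN F) :
    qq F ⟨x, hx⟩ = qq F ⟨y, hy⟩ ↔ ∃ l : Fin 3, y = x * F.a ^ (l : ℕ) := by
  rw [QuotientGroup.mk'_apply, QuotientGroup.mk'_apply, QuotientGroup.eq, mem_subgroupOf]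
  refine ⟨fun h => ?_, ?_⟩
  · obtain ⟨l, hl⟩ := mem_A F (w := x⁻¹ * y) h
    exact ⟨l, by rw [← hl, mul_inv_cancel_left]⟩
  · rintro ⟨l, rfl⟩
    show x⁻¹ * (x * F.a ^ (l : ℕ)) ∈ zpowers F.a
    rw [inv_mul_cancel_left]
    exact pow_mem (mem_zpowers _) _

theorem q_shift (x : ↥(hh D)) (hx : (x : G) ∈ NN F) (l : Fin 3) :
    ∃ h : ((x * aH F ^ (l : ℕ) : ↥(hh D)) : G) ∈ NN F, qq F ⟨_, h⟩ = qq F ⟨(x : G), hx⟩ := by
  have h : ((x * aH F ^ (l : ℕ) : ↥(hh D)) : G) ∈ NN F := by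
    push_cast
    exact mul_mem hx (pow_mem (comm_mem F (Commute.refl _)) _)
  exact ⟨h, ((q_eq F hx h).2 ⟨l, by push_cast; rfl⟩).symm⟩

theorem mem_QQ {x : G} (hx : x ∈ NN F) : qq F ⟨x, hx⟩ ∈ QQ F ↔ Commute x F.a := by
  constructor
  · rintro ⟨⟨y, hy⟩, hyc, e⟩
    obtain ⟨l, hl⟩ := (q_eq F hy hx).1 e
    rw [hl]
    exact Commute.mul_left (mem_centralizer_singleton_iff.1 hyc) (Commute.pow_self F.a _)
  · exact fun h => mem_map_of_mem _ (mem_subgroupOf.2 (mem_centralizer_singleton_iff.2 h.eq))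

theorem of_comm {x w : G} (hx : x ∈ NN F) (hw : Commute w F.a) (h2 : w * w = 1)
    (h : Commute (qq F ⟨x, hx⟩) (qq F ⟨w, comm_mem F hw⟩)) : Commute x w := by
  have e : qq F ⟨x * w, mul_mem hx (comm_mem F hw)⟩ = qq F ⟨w * x, mul_mem (comm_mem F hw) hx⟩ := h.eq
  obtain ⟨l, hl⟩ := (q_eq F _ _).1 e
  have h1 : x⁻¹ * w * x = w * F.a ^ (l : ℕ) := by
    rw [mul_assoc, hl, ← mul_assoc, inv_mul_cancel_left]
  have h3 : F.a ^ (l : ℕ) * F.a ^ (l : ℕ) = 1 := by
    have e2 : w * F.a ^ (l : ℕ) * (w * F.a ^ (l : ℕ)) = 1 := by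
      rw [← h1, show x⁻¹ * w * x * (x⁻¹ * w * x) = x⁻¹ * (w * w) * x by group, h2]; group
    rwa [(hw.pow_right (l : ℕ)).symm.mul_mul_mul_comm, h2, one_mul] at e2
  rw [a_pow_two F h3] at hl
  exact (hl.trans (by simp)).symm

theorem za : Commute D.z F.a := Nine.z_comm D F.mem_a

/-- the involution in the quotient -/
abbrev zL : Loc F.a := qq F ⟨D.z, comm_mem F (za F)⟩

theorem comm_zL (x : ↥(hh D)) (hx : (x : G) ∈ NN F) : Commute (qq F ⟨(x : G), hx⟩) (zL F) :=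
  Commute.map (show Commute (⟨(x : G), hx⟩ : ↥(NN F)) ⟨D.z, comm_mem F (za F)⟩ from
    Subtype.ext (Nine.z_comm D x.2).eq.symm) (qq F)

theorem rep_z {v : Loc F.a} (hv : Commute v (zL F)) :
    ∃ (x : ↥(hh D)) (h : (x : G) ∈ NN F), qq F ⟨(x : G), h⟩ = v := by
  obtain ⟨⟨x, hx⟩, rfl⟩ := QuotientGroup.mk'_surjective _ v
  exact ⟨⟨x, mem_centralizer_singleton_iff.2 (of_comm F hx (za F) (z_sq D) hv).eq⟩, hx, rfl⟩

theorem invol_rep {v : Loc F.a} (h2 : orderOf v = 2) (hv : Commute v (zL F)) :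
    ∃ (x : ↥(hh D)) (h : (x : G) ∈ NN F), qq F ⟨(x : G), h⟩ = v ∧ (x : G) * x = 1 ∧
      (x : G) ≠ 1 := by
  obtain ⟨x, hx, rfl⟩ := rep_z F hv
  have hsq : qq F ⟨(x : G), hx⟩ * qq F ⟨(x : G), hx⟩ = 1 := by
    rw [← pow_two, ← h2, pow_orderOf_eq_one]
  have e : qq F (⟨1, one_mem _⟩ : ↥(NN F)) = qq F ⟨(x : G) * x, mul_mem hx hx⟩ := by
    rw [show (⟨(x : G) * x, mul_mem hx hx⟩ : ↥(NN F)) = ⟨x, hx⟩ * ⟨x, hx⟩ from rfl, map_mul, hsq]
    exact map_one _
  obtain ⟨l, hl⟩ := (q_eq F _ _).1 e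
  rw [one_mul] at hl
  have hy : ((x ^ 3 : ↥(hh D)) : G) ∈ NN F := by push_cast; exact pow_mem hx 3
  have hq : qq F ⟨((x ^ 3 : ↥(hh D)) : G), hy⟩ = qq F ⟨(x : G), hx⟩ := by
    rw [show (⟨((x ^ 3 : ↥(hh D)) : G), hy⟩ : ↥(NN F)) = ⟨x, hx⟩ ^ 3 from
      Subtype.ext (by push_cast; rfl), map_pow, pow_succ, pow_two, hsq, one_mul]
  refine ⟨x ^ 3, hy, hq, ?_, fun h1 => ?_⟩
  · push_cast
    rw [← pow_add, show 3 + 3 = 2 * 3 from rfl, pow_mul, pow_two, hl, ← pow_mul, mul_comm,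
      pow_mul, a_cube, one_pow]
  · have : qq F ⟨((x ^ 3 : ↥(hh D)) : G), hy⟩ = 1 := by
      rw [show (⟨((x ^ 3 : ↥(hh D)) : G), hy⟩ : ↥(NN F)) = 1 from Subtype.ext h1, map_one]
    rw [hq] at this
    rw [this, orderOf_one] at h2
    omega

/-- lifts in opposite parity anticommute -/
theorem not_comm {x y : ↥(hh D)} (hx : pm D x * pm D x = 1) (hy : pm D y * pm D y = 1)
    (hy8 : Par (pm D y)) (hc : pm D x * pm D y = pm D y * pm D x)
    (hp : ¬ (Par (pm D x) ↔ Par (pm D x * pm D y))) :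
    (x : G) * y * (x : G)⁻¹ = D.z * y := by
  have he : pm D (x * y * x⁻¹) = pm D y := by
    rw [map_mul, map_mul, map_inv, hc, mul_inv_cancel_right]
  refine (eq_or_eq_z_mul D he).resolve_left fun e => hp ?_
  have hcm : Commute (x : G) y := mul_inv_eq_iff_eq_mul.1 e
  have h1 := sq_lift D (x := x * y) (by
    rw [map_mul, (show Commute (pm D y) (pm D x) from hc.symm).mul_mul_mul_comm, hx, hy, one_mul])
  push_cast at h1
  rw [hcm.symm.mul_mul_mul_comm, sq_lift D hx, sq_lift D hy, if_pos hy8, mul_one, map_mul] at h1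
  by_cases a : Par (pm D x) <;> by_cases b : Par (pm D x * pm D y)
  · exact iff_of_true a b
  · rw [if_pos a, if_neg b] at h1; exact absurd h1.symm (z_ne D)
  · rw [if_neg a, if_pos b] at h1; exact absurd h1 (z_ne D)
  · exact iff_of_false a b

theorem not_comm' {x y : ↥(hh D)} (h : (x : G) * y * (x : G)⁻¹ = D.z * y) :
    ¬ Commute (x : G) y := fun hc => z_ne D (by
  rw [hc.eq, mul_inv_cancel_right] at h
  exact mul_eq_right.1 h.symm)

theorem conj_to {b b' : ↥(hh D)} (y w : ↥(hh D)) (hy : (y : G) ∈ NN F) (hw : (w : G) ∈ NN F)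
    (h : pm D y * pm D b = pm D b' * pm D y) (ha : (w : G) * b * (w : G)⁻¹ = D.z * b) :
    ∃ c : ↥(hh D), (c : G) ∈ NN F ∧ (c : G) * b * (c : G)⁻¹ = b' := by
  have he : pm D (y * b * y⁻¹) = pm D b' := by
    rw [map_mul, map_mul, map_inv, h, mul_inv_cancel_right]
  rcases eq_or_eq_z_mul D he with e | e <;> push_cast at e
  · exact ⟨y, hy, e⟩
  · refine ⟨y * w, by push_cast; exact mul_mem hy hw, ?_⟩
    push_cast
    rw [show (y : G) * w * b * ((y : G) * w)⁻¹ = y * (w * b * (w : G)⁻¹) * (y : G)⁻¹ by group, ha,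
      ← mul_assoc (y : G), ← (Nine.z_comm D y.2).eq, mul_assoc D.z, mul_assoc D.z, e, ← mul_assoc,
      z_sq, one_mul]

theorem card_lifts (s : Finset (Perm (Fin 9))) (he : ∀ σ ∈ s, Perm.sign σ = 1) :
    Nat.card {x : ↥(hh D) // pm D x ∈ s} = 2 * s.card := by
  choose ℓ hℓ using fun σ : s => exists_lift D σ.1 (he σ.1 σ.2)
  let zH : ↥(hh D) := ⟨D.z, z_mem D⟩
  have hz : pm D zH = 1 := (pm_eq_one D).2 (Or.inr rfl)
  let f : Bool × s → {x : ↥(hh D) // pm D x ∈ s} := fun p =>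
    ⟨bif p.1 then zH * ℓ p.2 else ℓ p.2, by
      obtain ⟨b, σ⟩ := p
      cases b <;> simp [map_mul, hz, hℓ]⟩
  have hf : Function.Bijective f := by
    refine ⟨?_, fun ⟨x, hx⟩ => ?_⟩
    · rintro ⟨b, σ⟩ ⟨b', τ⟩ e
      have e1 : (bif b then zH * ℓ σ else ℓ σ) = bif b' then zH * ℓ τ else ℓ τ :=
        congrArg Subtype.val e
      have e2 : σ = τ := Subtype.ext (by
        have := congrArg (pm D) e1
        cases b <;> cases b' <;> simpa [map_mul, hz, hℓ] using this)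
      subst e2
      cases b <;> cases b' <;> simp only [cond_true, cond_false] at e1
      · rfl
      · exact absurd (congrArg Subtype.val (right_eq_mul.1 e1.symm.symm)) (z_ne D)
      · exact absurd (congrArg Subtype.val (mul_eq_right.1 e1)) (z_ne D)
      · rfl
    · rcases eq_or_eq_z_mul D (hℓ ⟨pm D x, hx⟩).symm with e | e
      · exact ⟨(false, ⟨pm D x, hx⟩), Subtype.ext (Subtype.ext e.symm)⟩
      · exact ⟨(true, ⟨pm D x, hx⟩), Subtype.ext (Subtype.ext e.symm)⟩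
  rw [← Nat.card_eq_of_bijective f hf]
  simp

theorem card_reps (s : Finset (Perm (Fin 9))) (S : Set (Loc F.a))
    (he : ∀ σ ∈ s, Perm.sign σ = 1) (hn : ∀ σ ∈ s, σ * pA * σ⁻¹ = pA ∨ σ * pA * σ⁻¹ = pA⁻¹)
    (hi : ∀ σ ∈ s, ∀ τ ∈ s, ∀ l : Fin 3, τ = σ * pA ^ (l : ℕ) → l = 0)
    (hto : ∀ (x : ↥(hh D)) (h : (x : G) ∈ NN F), pm D x ∈ s → qq F ⟨(x : G), h⟩ ∈ S)
    (hfrom : ∀ v ∈ S, ∃ (x : ↥(hh D)) (h : (x : G) ∈ NN F), qq F ⟨(x : G), h⟩ = v ∧
      ∃ l : Fin 3, pm D x * pA ^ (l : ℕ) ∈ s) :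
    Nat.card S = 2 * s.card := by
  rw [← card_lifts (D := D) s he]
  have hN : ∀ x : {x : ↥(hh D) // pm D x ∈ s}, (x.1 : G) ∈ NN F := fun x =>
    mem_of_pm F (hn _ x.2)
  refine (Nat.card_eq_of_bijective
    (fun x : {x : ↥(hh D) // pm D x ∈ s} =>
      (⟨qq F ⟨(x.1 : G), hN x⟩, hto x.1 (hN x) x.2⟩ : S)) ⟨fun x y e => ?_, fun ⟨v, hv⟩ => ?_⟩).symm
  · obtain ⟨l, hl⟩ := (q_eq F _ _).1 (congrArg Subtype.val e)
    have hl' : y.1 = x.1 * aH F ^ (l : ℕ) := Subtype.ext (by push_cast; exact hl)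
    have h0 := hi _ x.2 _ y.2 l (by rw [hl', pm_pow])
    rw [h0] at hl'
    exact Subtype.ext (by simpa using hl'.symm)
  · obtain ⟨x, hx, rfl, l, hl⟩ := hfrom v hv
    obtain ⟨h, e⟩ := q_shift F x hx l
    exact ⟨⟨x * aH F ^ (l : ℕ), by rwa [pm_pow]⟩, Subtype.ext e⟩

theorem card_cent_z : Nat.card (centralizer ({zL F} : Set (Loc F.a))) = 72 := by
  have hmem : ∀ σ ∈ zRep, ∃ p : Bool × Fin 3 × Fin 2 × Fin 6,
      evC (p.2.1, 0, p.2.2.1, p.2.2.2) = true ∧ nPar (p.1, p.2.1, 0, p.2.2.1, p.2.2.2) = σ :=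
    fun σ hσ => by simpa [zRep] using hσ
  rw [← SetLike.coe_sort_coe, card_reps F zRep, zRep_card]
  · intro σ hσ
    obtain ⟨p, hp, rfl⟩ := hmem σ hσ
    exact (sign_nPar _).2 hp
  · intro σ hσ
    obtain ⟨⟨e, p⟩, -, rfl⟩ := hmem σ hσ
    rw [nPar_normalizes]
    cases e <;> simp
  · intro σ hσ τ hτ l hl
    obtain ⟨p, -, rfl⟩ := hmem σ hσ
    obtain ⟨q, -, rfl⟩ := hmem τ hτ
    exact zRep_facts p q l hl
  · exact fun x h _ => mem_centralizer_singleton_iff.2 (comm_zL F x h).eq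
  · intro v hv
    obtain ⟨x, hx, rfl⟩ := rep_z F (mem_centralizer_singleton_iff.1 hv)
    obtain ⟨p, hev, hp⟩ := exists_n F hx
    refine ⟨x, hx, rfl, -p.2.2.1, ?_⟩
    rw [← hp, nPar_shift]
    exact Finset.mem_image.2 ⟨(p.1, p.2.1 - p.2.2.1, p.2.2.2.1, p.2.2.2.2),
      Finset.mem_filter.2 ⟨Finset.mem_univ _, hev⟩, rfl⟩

/-- `u` in the centraliser of `z` -/
abbrev uH : ↥(hh D) := ⟨F.u, F.mem_u⟩

theorem u_sq : F.u * F.u = 1 := by rw [← pow_two, ← F.ord_u, pow_orderOf_eq_one]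

theorem ua : Commute F.u F.a := F.au.symm

/-- `u` in the quotient -/
abbrev uL : Loc F.a := qq F ⟨F.u, comm_mem F (ua F)⟩

theorem exists_U : ∃ i, uRep i = pm D (uH F) := by
  obtain ⟨c, hev, hc⟩ := exists_c F (x := uH F) (ua F)
  obtain ⟨i, hi⟩ := inner_class c hev (by
    rw [hc, ← map_mul, show uH F * uH F = 1 from Subtype.ext (u_sq F), map_one]) (by
    rw [hc]; exact F.π_u)
  exact ⟨i, hi.trans hc⟩

theorem u_anti : ∃ w : ↥(hh D), (w : G) ∈ NN F ∧ (w : G) * F.u * (w : G)⁻¹ = D.z * F.u := by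
  obtain ⟨i, hi⟩ := exists_U F
  obtain ⟨c, hev, hc⟩ := inner_swap i
  obtain ⟨h1, h2⟩ := inner_anti i c hev hc
  obtain ⟨w, hw⟩ := exists_lift D (nPar (true, c)) ((sign_nPar _).2 hev)
  refine ⟨w, mem_of_pm F (Or.inr ?_), not_comm (x := w) (y := uH F) ?_ ?_ ?_ ?_ ?_⟩
  · rw [hw, nPar_normalizes]; rfl
  · rwa [hw]
  · rw [← hi]; exact (uRep_facts.1 i).2.1
  · rw [← hi, Par, (uRep_facts.1 i).2.2.1]
  · rwa [hw, ← hi]
  · rwa [hw, ← hi]

theorem zu_inner {v : Loc F.a} (h1 : Commute v (zL F)) (h2 : Commute v (uL F)) :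
    ∃ (x : ↥(hh D)) (h : (x : G) ∈ NN F), qq F ⟨(x : G), h⟩ = v ∧ Commute (x : G) F.a ∧
      Commute (x : G) F.u := by
  obtain ⟨x, hx, rfl⟩ := rep_z F h1
  have hc := of_comm F hx (ua F) (u_sq F) h2
  refine ⟨x, hx, rfl, ?_, hc⟩
  by_contra hn
  obtain ⟨c, hev, hp⟩ := exists_out F hx hn
  obtain ⟨i, hi⟩ := exists_U F
  have hcp : pm D x * pm D (uH F) = pm D (uH F) * pm D x := by
    rw [← map_mul, ← map_mul, show x * uH F = uH F * x from Subtype.ext hc.eq]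
  obtain ⟨h3, h4⟩ := inner_anti i c hev (by rwa [hp, hi])
  rw [hp] at h3
  rw [hp, hi] at h4
  refine not_comm' (not_comm h3 ?_ ?_ hcp h4) hc
  · rw [← hi]; exact (uRep_facts.1 i).2.1
  · rw [← hi, Par, (uRep_facts.1 i).2.2.1]

theorem zu_le : centralizer ({zL F} : Set (Loc F.a)) ⊓ centralizer ({uL F} : Set (Loc F.a)) ≤
    QQ F := fun v hv => by
  obtain ⟨x, hx, rfl, ha, -⟩ := zu_inner F (mem_centralizer_singleton_iff.1 hv.1)
    (mem_centralizer_singleton_iff.1 hv.2)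
  exact (mem_QQ F hx).2 ha

theorem card_zu : Nat.card ↥(centralizer ({zL F} : Set (Loc F.a)) ⊓
    centralizer ({uL F} : Set (Loc F.a))) = 4 := by
  obtain ⟨i, hi⟩ := exists_U F
  have hne : (1 : Perm (Fin 9)) ≠ uRep i := fun e => by
    have := (uRep_facts.1 i).2.2.1
    rw [← e] at this
    simp at this
  rw [← SetLike.coe_sort_coe, card_reps F {1, uRep i}, Finset.card_pair hne]
  · simp only [Finset.mem_insert, Finset.mem_singleton]
    rintro σ (rfl | rfl)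
    · exact map_one _
    · exact (uRep_facts.1 i).1
  · simp only [Finset.mem_insert, Finset.mem_singleton]
    rintro σ (rfl | rfl) <;> left
    · group
    · exact mul_inv_eq_iff_eq_mul.2 (uRep_facts.1 i).2.2.2
  · simp only [Finset.mem_insert, Finset.mem_singleton]
    obtain ⟨-, -, -, -, h3, -⟩ := pK_facts
    have hsup : ∀ l : Fin 3, (pA ^ (l : ℕ)).support.card ≠ 8 := by decide +kernel
    have h8 := (uRep_facts.1 i).2.2.1
    rintro σ (rfl | rfl) τ (rfl | rfl) l hl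
    · revert hl; clear hsup h8 hne; revert l; decide +kernel
    · rw [one_mul] at hl
      exact absurd (hl ▸ h8) (hsup l)
    · refine absurd ?_ (hsup l)
      rw [← Perm.support_inv, ← eq_inv_of_mul_eq_one_left hl.symm]
      exact h8
    · exact uRep_facts.2 i i l hl
  · intro x h hx
    refine ⟨mem_centralizer_singleton_iff.2 (comm_zL F x h).eq, mem_centralizer_singleton_iff.2 ?_⟩
    have hc : Commute (x : G) F.u := by
      simp only [Finset.mem_insert, Finset.mem_singleton] at hx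
      rcases hx with hx | hx
      · rcases (pm_eq_one D).1 hx with e | e <;> rw [e]
        · exact Commute.one_left _
        · exact Nine.z_comm D F.mem_u
      · rcases eq_or_eq_z_mul D (hx.trans hi) with e | e
        · rw [e]
        · rw [e]
          exact (Nine.z_comm D F.mem_u).mul_left (Commute.refl _)
    exact (Commute.map (show Commute (⟨(x : G), h⟩ : ↥(NN F)) ⟨F.u, comm_mem F (ua F)⟩ from
      Subtype.ext hc.eq) (qq F)).eq
  · intro v hv
    obtain ⟨x, hx, rfl, ha, hu⟩ := zu_inner F (mem_centralizer_singleton_iff.1 hv.1)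
      (mem_centralizer_singleton_iff.1 hv.2)
    obtain ⟨c, hev, hc⟩ := exists_c F ha
    obtain ⟨l, hl⟩ := inner_cent i c hev (by
      rw [hc, hi, ← map_mul, ← map_mul, show x * uH F = uH F * x from Subtype.ext hu.eq])
    exact ⟨x, hx, rfl, l, by simpa [← hc] using hl⟩

theorem inner {v : Loc F.a} (hv : v ∈ QQ F) (h2 : orderOf v = 2) (hz : Commute v (zL F)) :
    v = zL F ∨ ∃ c ∈ centralizer ({zL F} : Set (Loc F.a)), c * uL F * c⁻¹ = v := by
  obtain ⟨x, hx, rfl, hxx, hx1⟩ := invol_rep F h2 hz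
  by_cases hxz : (x : G) = D.z
  · exact Or.inl (congrArg (qq F) (Subtype.ext hxz))
  right
  obtain ⟨c, hev, hc⟩ := exists_c F ((mem_QQ F hx).1 hv)
  obtain ⟨j, hj⟩ := inner_class c hev (by
    rw [hc, ← map_mul, show x * x = 1 from Subtype.ext hxx, map_one]) (by
    rw [hc]; exact supp_invol D hxx hx1 hxz)
  rw [hc] at hj
  obtain ⟨i, hi⟩ := exists_U F
  obtain ⟨d, hd, hdi⟩ := inner_conj i
  obtain ⟨d', hd', hdj⟩ := inner_conj j
  obtain ⟨y, hy⟩ := exists_lift D (cPar d) ((sign_cPar d).2 hd)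
  obtain ⟨y', hy'⟩ := exists_lift D (cPar d') ((sign_cPar d').2 hd')
  have hN : ∀ {t : ↥(hh D)} {e : CIdx}, pm D t = cPar e → (t : G) ∈ NN F := fun {t e} he =>
    comm_mem F ((comm_a F t).2 (he ▸ cPar_comm e))
  obtain ⟨w, hw, hwu⟩ := u_anti F
  obtain ⟨g, hg, hgu⟩ := conj_to F (b := uH F) (b' := x) (y' * y⁻¹) w
    (by push_cast; exact mul_mem (hN hy') (inv_mem (hN hy))) hw (by
      rw [map_mul, map_inv, hy, hy', ← hi, ← hj]
      have e1 : (cPar d)⁻¹ * uRep i = uRep (0, 0) * (cPar d)⁻¹ := by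
        rw [eq_mul_inv_iff_mul_eq, mul_assoc, ← hdi, inv_mul_cancel_left]
      rw [mul_assoc, e1, ← mul_assoc, hdj, mul_assoc]) hwu
  refine ⟨qq F ⟨(g : G), hg⟩, mem_centralizer_singleton_iff.2 (comm_zL F g hg).eq, ?_⟩
  rw [← map_inv, ← map_mul, ← map_mul]
  exact congrArg (qq F) (Subtype.ext hgu)

section K

variable {k : ↥(hh D)} (hk : pm D k = pK)
include hk

theorem k_sq : (k : G) * k = 1 := by
  rw [sq_lift D (by rw [hk]; exact pK_facts.2.1), if_pos (by rw [hk, pK_facts.2.2.2.1])]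

theorem k_NN : (k : G) ∈ NN F := mem_of_pm F (Or.inr (hk ▸ pK_facts.2.2.1))

theorem k_out : ¬ Commute (k : G) F.a := fun h => by
  have e := (comm_a F k).1 h
  rw [hk] at e
  exact pK_facts.2.2.2.2.2.2 ((mul_inv_eq_iff_eq_mul.2 e).symm.trans pK_facts.2.2.1)

theorem a_k : (k : G) * F.a * (k : G)⁻¹ = F.a⁻¹ :=
  (conj_cases F (k_NN F hk)).resolve_left fun h => k_out F hk (mul_inv_eq_iff_eq_mul.1 h)

theorem comm_t {x : ↥(hh D)} (hx : pm D x ∈ tRep) : Commute (x : G) k := by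
  obtain ⟨hs, -, hc, h3, -⟩ := tRep_facts.1 _ hx
  have ho : Odd (orderOf (pm D x)) := by
    rcases (Nat.dvd_prime Nat.prime_three).1 (orderOf_dvd_of_pow_eq_one h3) with e | e <;>
      rw [e] <;> decide
  obtain ⟨y, hy, hyo⟩ := lift_odd D _ hs ho rfl
  have hyk : Commute (k : G) y := Nine.comm D (hyo ▸ ho) (by rw [hy, hk]; exact hc.symm)
  rcases eq_or_eq_z_mul D hy.symm with e | e <;> rw [e]
  · exact hyk.symm
  · exact (Nine.z_comm D k.2).mul_left hyk.symm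

theorem cent_k {x : ↥(hh D)} (ha : Commute (x : G) F.a) (hc : Commute (x : G) k) :
    pm D x ∈ tRep := by
  obtain ⟨c, hev, hcx⟩ := exists_c F ha
  have hcp : pm D x * pK = pK * pm D x := by
    rw [← hk, ← map_mul, ← map_mul, show x * k = k * x from Subtype.ext hc.eq]
  rcases k_cent c hev (by rwa [hcx]) with h | ⟨h1, h2⟩
  · rwa [hcx] at h
  · rw [hcx] at h1 h2
    have := not_comm (x := x ^ 3) (y := k) (by rwa [map_pow]) (by rw [hk]; exact pK_facts.2.1)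
      (by rw [hk, Par, pK_facts.2.2.2.1]) (by
        rw [map_pow, hk]
        exact (show Commute (pm D x) pK from hcp).pow_left 3)
      (by rwa [map_pow, hk])
    refine absurd ?_ (not_comm' this)
    push_cast
    exact hc.pow_left 3

theorem q_comm_k {x : ↥(hh D)} (hx : (x : G) ∈ NN F)
    (h : Commute (qq F ⟨(x : G), hx⟩) (qq F ⟨(k : G), k_NN F hk⟩)) :
    ∃ l : Fin 3, (x : G) * k = k * x * F.a ^ (l : ℕ) := by
  exact (q_eq F (mul_mem (k_NN F hk) hx) (mul_mem hx (k_NN F hk))).1 h.symm.eq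

theorem card_cent_k : Nat.card ↥(QQ F ⊓ centralizer ({zL F} : Set (Loc F.a)) ⊓
    centralizer ({qq F ⟨(k : G), k_NN F hk⟩} : Set (Loc F.a))) = 6 := by
  rw [← SetLike.coe_sort_coe, card_reps F tRep, tRep_facts.2.2]
  · exact fun σ hσ => (tRep_facts.1 σ hσ).1
  · exact fun σ hσ => Or.inl (mul_inv_eq_iff_eq_mul.2 (tRep_facts.1 σ hσ).2.1)
  · exact tRep_facts.2.1
  · intro x h hx
    refine ⟨⟨(mem_QQ F h).2 ((comm_a F x).2 (tRep_facts.1 _ hx).2.1),
      mem_centralizer_singleton_iff.2 (comm_zL F x h).eq⟩, mem_centralizer_singleton_iff.2 ?_⟩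
    exact (Commute.map (show Commute (⟨(x : G), h⟩ : ↥(NN F)) ⟨(k : G), k_NN F hk⟩ from
      Subtype.ext (comm_t hk hx).eq) (qq F)).eq
  · rintro v ⟨⟨hQ, hz⟩, hkv⟩
    obtain ⟨x, hx, rfl⟩ := rep_z F (mem_centralizer_singleton_iff.1 hz)
    obtain ⟨l, hl⟩ := q_comm_k F hk hx (mem_centralizer_singleton_iff.1 hkv)
    have hxa := (mem_QQ F hx).1 hQ
    let m : Fin 3 := 2 * l
    have hma : Commute ((x * aH F ^ (m : ℕ) : ↥(hh D)) : G) F.a := by
      push_cast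
      exact hxa.mul_left (Commute.pow_self F.a _)
    refine ⟨x, hx, rfl, m, ?_⟩
    rw [← pm_pow F]
    refine cent_k F hk hma ?_
    show (x * F.a ^ (m : ℕ)) * (k : G) = k * (x * F.a ^ (m : ℕ))
    have hka : F.a ^ (m : ℕ) * (k : G) = k * (F.a ^ (m : ℕ))⁻¹ := by
      have hinv : (k : G)⁻¹ = k := inv_eq_of_mul_eq_one_right (k_sq hk)
      have h' : (k : G) * F.a ^ (m : ℕ) * (k : G)⁻¹ = (F.a ^ (m : ℕ))⁻¹ := by
        rw [← conj_pow, a_k F hk, inv_pow]
      rw [← h', hinv, ← mul_assoc, ← mul_assoc, k_sq hk, one_mul]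
    rw [mul_assoc, hka, ← mul_assoc, hl, mul_assoc, mul_assoc]
    congr 2
    rw [mul_inv_eq_iff_eq_mul, ← pow_add, pow_eq_pow_iff_modEq, F.ord_a]
    show (l : ℕ) % 3 = _ % 3
    exact (by decide : ∀ l : Fin 3,
      (l : ℕ) % 3 = (((2 * l : Fin 3) : ℕ) + ((2 * l : Fin 3) : ℕ)) % 3) l

theorem invol_k {v : Loc F.a} (hv : v ∈ QQ F) (h2 : orderOf v = 2) (hz : Commute v (zL F))
    (hkv : Commute v (qq F ⟨(k : G), k_NN F hk⟩)) : v = zL F := by
  obtain ⟨x, hx, rfl, hxx, hx1⟩ := invol_rep F h2 hz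
  obtain ⟨l, hl⟩ := q_comm_k F hk hx hkv
  have hxa := (mem_QQ F hx).1 hv
  have h3 : (k : G) * (F.a ^ (l : ℕ) * F.a ^ (l : ℕ)) = k := by
    calc (k : G) * (F.a ^ (l : ℕ) * F.a ^ (l : ℕ))
        = (k : G) * ((x : G) * x) * (F.a ^ (l : ℕ) * F.a ^ (l : ℕ)) := by rw [hxx, mul_one]
      _ = (k : G) * x * F.a ^ (l : ℕ) * ((x : G) * F.a ^ (l : ℕ)) := by
        rw [mul_assoc (k : G), (hxa.pow_right (l : ℕ)).mul_mul_mul_comm]
        simp only [mul_assoc]
      _ = (x : G) * k * ((x : G) * F.a ^ (l : ℕ)) := by rw [hl]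
      _ = (x : G) * (k * x * F.a ^ (l : ℕ)) := by simp only [mul_assoc]
      _ = k := by rw [← hl, ← mul_assoc, hxx, one_mul]
  rw [a_pow_two F (mul_eq_left.1 h3)] at hl
  have hs := cent_k F hk hxa (show Commute (x : G) k from hl.trans (by simp))
  have h1 := (tRep_facts.1 _ hs).2.2.2.2 (by
    rw [← map_mul, show x * x = 1 from Subtype.ext hxx, map_one])
  exact congrArg (qq F) (Subtype.ext (((pm_eq_one D).1 h1).resolve_left hx1))

theorem outer_rep {v : Loc F.a} (hv : v ∉ QQ F) (h2 : orderOf v = 2) (hz : Commute v (zL F)) :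
    ∃ (x : ↥(hh D)) (h : (x : G) ∈ NN F), qq F ⟨(x : G), h⟩ = v ∧ ∃ j, oRep j = pm D x := by
  obtain ⟨x, hx, rfl, hxx, hx1⟩ := invol_rep F h2 hz
  have hn : ¬ Commute (x : G) F.a := fun h => hv ((mem_QQ F hx).2 h)
  have hxz : (x : G) ≠ D.z := fun e => hn (e ▸ za F)
  obtain ⟨c, hev, hc⟩ := exists_out F hx hn
  obtain ⟨l, j, hj⟩ := outer_class c hev (by
    rw [hc, ← map_mul, show x * x = 1 from Subtype.ext hxx, map_one]) (by
    rw [hc]; exact supp_invol D hxx hx1 hxz)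
  obtain ⟨h, e⟩ := q_shift F x hx l
  exact ⟨_, h, e, j, by rw [hj, hc, pm_pow]⟩

theorem outer {v : Loc F.a} (hv : v ∉ QQ F) (h2 : orderOf v = 2) (hz : Commute v (zL F)) :
    ∃ c ∈ centralizer ({zL F} : Set (Loc F.a)), c * qq F ⟨(k : G), k_NN F hk⟩ * c⁻¹ = v := by
  obtain ⟨x, hx, rfl, j, hj⟩ := outer_rep F hk hv h2 hz
  obtain ⟨d, hd, hdj⟩ := oRep_facts.2.2.1 j
  obtain ⟨y, hy⟩ := exists_lift D (cPar d) ((sign_cPar d).2 hd)
  obtain ⟨hU1, hU2, hU8, hUA⟩ := uRep_facts.1 (0, 0)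
  obtain ⟨hUK, hUKp⟩ := oRep_facts.2.2.2
  obtain ⟨w, hw⟩ := exists_lift D (uRep (0, 0)) hU1
  obtain ⟨g, hg, hgk⟩ := conj_to F (b := k) (b' := x) y w
    (comm_mem F ((comm_a F y).2 (hy ▸ cPar_comm d))) (comm_mem F ((comm_a F w).2 (hw ▸ hUA)))
    (by rw [hy, hk, ← hj]; exact hdj)
    (not_comm (by rw [hw]; exact hU2) (by rw [hk]; exact pK_facts.2.1) (by rw [hk, Par, pK_facts.2.2.2.1])
      (by rw [hw, hk]; exact hUK) (by
        rw [hw, hk]
        exact fun h => hUKp (h.1 (by rw [Par, hU8]))))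
  refine ⟨qq F ⟨(g : G), hg⟩, mem_centralizer_singleton_iff.2 (comm_zL F g hg).eq, ?_⟩
  rw [← map_inv, ← map_mul, ← map_mul]
  exact congrArg (qq F) (Subtype.ext hgk)

/-- the inner involutions other than `z` -/
abbrev II : Set (Loc F.a) :=
  {v | v ∈ QQ F ∧ orderOf v = 2 ∧ Commute v (zL F) ∧ v ≠ zL F}

/-- the outer involutions -/
abbrev OO : Set (Loc F.a) := {v | v ∉ QQ F ∧ orderOf v = 2 ∧ Commute v (zL F)}

omit hk in
theorem inner_rep {v : Loc F.a} (hv : v ∈ II F) :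
    ∃ (x : ↥(hh D)) (h : (x : G) ∈ NN F), qq F ⟨(x : G), h⟩ = v ∧ ∃ i, uRep i = pm D x := by
  obtain ⟨hQ, h2, hz, hne⟩ := hv
  obtain ⟨x, hx, rfl, hxx, hx1⟩ := invol_rep F h2 hz
  have hxz : (x : G) ≠ D.z := fun e => hne (congrArg (qq F) (Subtype.ext e))
  obtain ⟨c, hev, hc⟩ := exists_c F ((mem_QQ F hx).1 hQ)
  obtain ⟨i, hi⟩ := inner_class c hev (by
    rw [hc, ← map_mul, show x * x = 1 from Subtype.ext hxx, map_one]) (by
    rw [hc]; exact supp_invol D hxx hx1 hxz)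
  exact ⟨x, hx, rfl, i, hi.trans hc⟩

omit hk in
theorem order_two {x : ↥(hh D)} (hx : (x : G) ∈ NN F) (h : pm D x * pm D x = 1)
    (h8 : (pm D x).support.card = 8) : orderOf (qq F ⟨(x : G), hx⟩) = 2 := by
  have h2 : (x : G) * x = 1 := by rw [sq_lift D h, if_pos (by rw [h8])]
  refine orderOf_eq_prime ?_ fun e => ?_
  · rw [pow_two, ← map_mul, ← map_one (qq F)]
    exact congrArg (qq F) (Subtype.ext h2)
  · rw [← map_one (qq F)] at e
    obtain ⟨l, hl⟩ := (q_eq F hx (one_mem _)).1 e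
    have hx' : (x : G) = (F.a ^ (l : ℕ))⁻¹ := eq_inv_of_mul_eq_one_left hl.symm
    rw [hx', ← mul_inv_rev, inv_eq_one] at h2
    rw [a_pow_two F h2] at hx'
    have := (pm_eq_one D (x := x)).2 (Or.inl (by simpa using hx'))
    rw [this] at h8
    simp at h8

omit hk in
theorem card_II : Nat.card (II F) = 18 := by
  rw [card_reps F (Finset.univ.image uRep), rep_cards.1]
  · simp only [Finset.mem_image, Finset.mem_univ, true_and, forall_exists_index,
      forall_apply_eq_imp_iff]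
    exact fun i => (uRep_facts.1 i).1
  · simp only [Finset.mem_image, Finset.mem_univ, true_and, forall_exists_index,
      forall_apply_eq_imp_iff]
    exact fun i => Or.inl (mul_inv_eq_iff_eq_mul.2 (uRep_facts.1 i).2.2.2)
  · simp only [Finset.mem_image, Finset.mem_univ, true_and, forall_exists_index,
      forall_apply_eq_imp_iff]
    exact uRep_facts.2
  · intro x h hx
    obtain ⟨i, -, hi⟩ := Finset.mem_image.1 hx
    obtain ⟨-, h2, h8, ha⟩ := uRep_facts.1 i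
    rw [hi] at h2 h8 ha
    refine ⟨(mem_QQ F h).2 ((comm_a F x).2 ha), order_two F h h2 h8, comm_zL F x h, fun e => ?_⟩
    obtain ⟨l, hl⟩ := (q_eq F (comm_mem F (za F)) h).1 e.symm
    have hl' : x = ⟨D.z, z_mem D⟩ * aH F ^ (l : ℕ) := Subtype.ext (by push_cast; exact hl)
    have hp : pm D x = pA ^ (l : ℕ) := by
      rw [hl', pm_pow, (pm_eq_one D).2 (Or.inr rfl), one_mul]
    rw [hp] at h8
    exact (by decide +kernel : ∀ l : Fin 3, (pA ^ (l : ℕ)).support.card ≠ 8) l h8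
  · intro v hv
    obtain ⟨x, hx, e, i, hi⟩ := inner_rep F hv
    exact ⟨x, hx, e, 0, by simp [← hi]⟩

omit hk in
theorem card_OO (hk : pm D k = pK) : Nat.card (OO F) = 6 := by
  rw [card_reps F (Finset.univ.image oRep), rep_cards.2]
  · simp only [Finset.mem_image, Finset.mem_univ, true_and, forall_exists_index,
      forall_apply_eq_imp_iff]
    exact fun i => (oRep_facts.1 i).1
  · simp only [Finset.mem_image, Finset.mem_univ, true_and, forall_exists_index,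
      forall_apply_eq_imp_iff]
    exact fun i => Or.inr (oRep_facts.1 i).2.2.2
  · simp only [Finset.mem_image, Finset.mem_univ, true_and, forall_exists_index,
      forall_apply_eq_imp_iff]
    exact oRep_facts.2.1
  · intro x h hx
    obtain ⟨i, -, hi⟩ := Finset.mem_image.1 hx
    obtain ⟨-, h2, h8, ha⟩ := oRep_facts.1 i
    rw [hi] at h2 h8 ha
    refine ⟨fun hQ => ?_, order_two F h h2 h8, comm_zL F x h⟩
    have := (comm_a F x).1 ((mem_QQ F h).1 hQ)
    exact pK_facts.2.2.2.2.2.2 ((mul_inv_eq_iff_eq_mul.2 this).symm.trans ha)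
  · intro v hv
    obtain ⟨x, hx, e, j, hj⟩ := outer_rep F hk hv.1 hv.2.1 hv.2.2
    exact ⟨x, hx, e, 0, by simp [← hj]⟩

theorem card_zpairs : Nat.card (ZPair (QQ F) (zL F)) = 108 := by
  have key : ∀ p : Loc F.a × Loc F.a, (p.1 ∈ QQ F ∧ p.2 ∉ QQ F ∧ orderOf p.1 = 2 ∧
      orderOf p.2 = 2 ∧ Commute p.1 (zL F) ∧ Commute p.2 (zL F) ∧
      ∃ i : ℕ, (p.1 * p.2) ^ i = zL F) ↔ p.1 ∈ II F ∧ p.2 ∈ OO F := by
    rintro ⟨v, w⟩
    constructor
    · rintro ⟨hv, hw, h1, h2, c1, c2, i, hi⟩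
      refine ⟨⟨hv, h1, c1, fun e => ?_⟩, hw, h2, c2⟩
      dsimp only at e hi
      subst e
      have hzw : (zL F * w) ^ 2 = 1 := by
        rw [(show Commute (zL F) w from c2.symm).mul_pow, ← h1, pow_orderOf_eq_one, h1, ← h2,
          pow_orderOf_eq_one, one_mul]
      rw [← Nat.div_add_mod i 2, pow_add, pow_mul, hzw, one_pow, one_mul] at hi
      rcases Nat.mod_two_eq_zero_or_one i with e | e <;> rw [e] at hi
      · rw [pow_zero] at hi
        rw [← hi, orderOf_one] at h1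
        omega
      · rw [pow_one] at hi
        rw [mul_eq_left.1 hi, orderOf_one] at h2
        omega
    · rintro ⟨hI, hO⟩
      refine ⟨hI.1, hO.1, hI.2.1, hO.2.1, hI.2.2.1, hO.2.2, ?_⟩
      obtain ⟨x, hx, e1, i, hi⟩ := inner_rep F hI
      obtain ⟨y, hy, e2, j, hj⟩ := outer_rep F hk hO.1 hO.2.1 hO.2.2
      obtain ⟨m, hm1, hm2⟩ := pair_power i j
      have ht : pm D ((x * y) ^ ((m : ℕ) + 1)) = (uRep i * oRep j) ^ ((m : ℕ) + 1) := by
        rw [map_pow, map_mul, hi, hj]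
      have hz := sq_lift D (x := (x * y) ^ ((m : ℕ) + 1)) (by rwa [ht])
      rw [ht, if_neg hm2] at hz
      push_cast at hz
      refine ⟨((m : ℕ) + 1) + ((m : ℕ) + 1), ?_⟩
      rw [← e1, ← e2, ← map_mul, ← map_pow]
      exact congrArg (qq F) (Subtype.ext (by push_cast; rw [pow_add]; exact hz))
  rw [ZPair, Nat.card_congr ((Equiv.subtypeEquivRight key).trans (Equiv.subtypeProdEquivProd
    (p := fun v => v ∈ II F) (q := fun w => w ∈ OO F)))]
  rw [Nat.card_prod]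
  show Nat.card (II F) * Nat.card (OO F) = 108
  rw [card_II, card_OO F hk]

end K

theorem index_QQ {k : ↥(hh D)} (hk : pm D k = pK) : (QQ F).index = 2 := by
  refine index_eq_two_iff.2 ⟨qq F ⟨(k : G), k_NN F hk⟩, fun b => ?_⟩
  obtain ⟨⟨x, hx⟩, rfl⟩ := QuotientGroup.mk'_surjective _ b
  rw [← map_mul]
  show Xor (qq F ⟨x * (k : G), mul_mem hx (k_NN F hk)⟩ ∈ QQ F) (qq F ⟨x, hx⟩ ∈ QQ F)
  rw [mem_QQ F (mul_mem hx (k_NN F hk)), mem_QQ F hx]
  have hkk := a_k F hk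
  by_cases h : Commute x F.a
  · refine Or.inr ⟨h, fun h' => k_out F hk ?_⟩
    have := h.inv_left.mul_left h'
    rwa [inv_mul_cancel_left] at this
  · refine Or.inl ⟨?_, h⟩
    have hx' := (conj_cases F hx).resolve_left fun e => h (mul_inv_eq_iff_eq_mul.1 e)
    refine mul_inv_eq_iff_eq_mul.1 ?_
    rw [show x * (k : G) * F.a * (x * (k : G))⁻¹ = x * (k * F.a * (k : G)⁻¹) * x⁻¹ by group, hkk,
      ← conj_inv, hx', inv_inv]

theorem nine_data : ∃ E : NineData (Loc F.a), E.Q = QQ F := by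
  obtain ⟨k, hk⟩ := exists_lift D pK pK_facts.1
  have hU : F.u ≠ D.z := fun e => by
    have h1 : (pm D (uH F)) = 1 := (pm_eq_one D).2 (Or.inr e)
    have h8 : (pm D (uH F)).support.card = 8 := F.π_u
    simp [h1] at h8
  have hord : ∀ w : G, (hw : Commute w F.a) → w * w = 1 → w ≠ 1 →
      orderOf (qq F ⟨w, comm_mem F hw⟩) = 2 := by
    intro w hw h2 h1
    refine orderOf_eq_prime ?_ fun e => ?_
    · rw [pow_two, ← map_mul, ← map_one (qq F)]
      exact congrArg (qq F) (Subtype.ext h2)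
    · rw [← map_one (qq F)] at e
      obtain ⟨l, hl⟩ := (q_eq F (comm_mem F hw) (one_mem _)).1 e
      have hw' : w = (F.a ^ (l : ℕ))⁻¹ := eq_inv_of_mul_eq_one_left hl.symm
      rw [hw', ← mul_inv_rev, inv_eq_one] at h2
      rw [a_pow_two F h2] at hw'
      exact h1 (by simpa using hw')
  exact ⟨
    { Q := QQ F
      index := index_QQ F hk
      z := zL F
      u := uL F
      g := qq F ⟨F.g, comm_mem F F.ga⟩
      k := qq F ⟨(k : G), k_NN F hk⟩
      zQ := (mem_QQ F _).2 (za F)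
      uQ := (mem_QQ F _).2 (ua F)
      gQ := (mem_QQ F _).2 F.ga
      kQ := fun h => k_out F hk ((mem_QQ F _).1 h)
      ord_z := hord _ (za F) (z_sq D) (z_ne D)
      ord_u := hord _ (ua F) (u_sq F) fun h => by simpa [h] using F.ord_u
      ord_k := order_two F (k_NN F hk) (by rw [hk]; exact pK_facts.2.1)
        (by rw [hk]; exact pK_facts.2.2.2.1)
      zu := (comm_zL F (uH F) _).symm
      zk := (comm_zL F k (k_NN F hk)).symm
      u_ne := fun e => by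
        obtain ⟨l, hl⟩ := (q_eq F _ _).1 e.symm
        refine hU ?_
        have h2 := u_sq F
        rw [hl, ((za F).pow_right (l : ℕ)).symm.mul_mul_mul_comm, z_sq, one_mul] at h2
        rw [hl, a_pow_two F h2]
        simp
      gz := by
        rw [← map_inv, ← map_mul, ← map_mul]
        exact congrArg (qq F) (Subtype.ext F.gz)
      gu := by
        rw [← map_inv, ← map_mul, ← map_mul, ← map_mul]
        exact congrArg (qq F) (Subtype.ext F.gu)
      card_z := card_cent_z F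
      card_zu := card_zu F
      card_zuQ := by rw [inf_assoc, inf_eq_right.2 (zu_le F), card_zu F]
      inner := fun v hv h2 hz => inner F hv h2 hz
      card_k := card_cent_k F hk
      invol_k := fun v hv h2 hz hkv => invol_k F hk hv h2 hz hkv
      outer := fun v hv h2 hz => outer F hk hv h2 hz
      card_pairs := card_zpairs F hk }, rfl⟩

end CfsgLib.AltTwoCent.NineDataProof

namespace CfsgLib.AltTwoCent

universe u

/-- **Piece C9 of S1645.** -/
theorem nineData : StmtNineData.{u} := fun _ _ _ _ F => NineDataProof.nine_data F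

end CfsgLib.AltTwoCent
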