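import Cfsg.Agent.Lib.AltTwoCent.NineThree
import Cfsg.Agent.Lib.Involutions.ZStar.Main

/-!
# Degree nine is impossible

The centraliser of the three cycle central in the core has an odd core of order at most `243`; this is
centralised by `a`, hence by a lift of a double transposition and by its square `z`.
-/

set_option autoImplicit false

namespace CfsgLib.AltTwoCent.Nine

open scoped Pointwise
open Subgroup Equiv Cfsg CfsgLib.Base CfsgLib.AltTwoCent.FourFixed

universe u

/-- a permutation of order dividing four whose square has one fixed point -/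
theorem mod_four_of_free {α : Type*} [Finite α] (σ : Perm α) (a0 : α) (ha : σ a0 = a0)
    (h4 : σ ^ 4 = 1) (hfix : ∀ x, σ (σ x) = x → x = a0) : Nat.card α % 4 = 1 := by
  classical
  haveI := Fintype.ofFinite α
  have hs : σ.support = Finset.univ.erase a0 := by
    ext x
    simp only [Perm.mem_support, Finset.mem_erase, Finset.mem_univ, and_true]
    exact ⟨fun h e => h (by rw [e, ha]), fun h e => h (hfix x (by rw [e, e]))⟩
  have hd : 4 ∣ σ.cycleType.sum := by
    refine Multiset.dvd_sum fun n hn => ?_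
    have h1 : n ∣ 4 := (Perm.dvd_of_mem_cycleType hn).trans (orderOf_dvd_of_pow_eq_one h4)
    have h2 : 2 ≤ n := Perm.two_le_of_mem_cycleType hn
    have h3 : n ≠ 2 := by
      rintro rfl
      obtain ⟨c, τ, e, hdis, hc, hcard⟩ := Perm.mem_cycleType_iff.1 hn
      obtain ⟨x, hx⟩ : c.support.Nonempty := Finset.card_pos.1 (by omega)
      have hτ : ∀ w ∈ c.support, τ w = w := fun w hw =>
        (hdis w).resolve_left (Perm.mem_support.1 hw)
      have hcx : c x ∈ c.support := Perm.apply_mem_support.2 hx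
      have hcc : c (c x) = x := by
        have h := pow_orderOf_eq_one c
        rw [hc.orderOf, hcard, pow_two] at h
        exact Perm.congr_fun h x
      have hxσ : σ (σ x) = x := by
        rw [e]
        show c (τ (c (τ x))) = x
        rw [hτ x hx, hτ _ hcx, hcc]
      have := hfix x hxσ
      subst this
      have hxs : σ x ≠ x := by
        rw [e, Perm.mul_apply, hτ x hx]
        exact Perm.mem_support.1 hx
      exact hxs ha
    have : n ≤ 4 := Nat.le_of_dvd (by norm_num) h1
    interval_cases n <;> simp_all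
  rw [Perm.sum_cycleType, hs, Finset.card_erase_of_mem (Finset.mem_univ _), Finset.card_univ,
    ← Nat.card_eq_fintype_card] at hd
  have : 0 < Nat.card α := Nat.card_pos_iff.2 ⟨⟨a0⟩, inferInstance⟩
  omega

theorem pC_eq_pE (i : Fin 3) : ∃ e, pC i = pE e := by revert i; decide +kernel

theorem mem_of_sq_mem {G : Type u} [Group G] {S : Subgroup G} {x : G} (ho : Odd (orderOf x))
    (h : x * x ∈ S) : x ∈ S := by
  obtain ⟨k, hk⟩ := ho
  have : x = (x * x) ^ (k + 1) := by
    rw [← pow_two, ← pow_mul, show 2 * (k + 1) = orderOf x + 1 by omega, pow_succ,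
      pow_orderOf_eq_one, one_mul]
  exact this ▸ S.pow_mem h _

theorem mem_normalizer_centralizer {G : Type u} [Group G] {n c : G}
    (h : n * c * n⁻¹ = c ∨ n * c * n⁻¹ = c⁻¹) :
    n ∈ normalizer (centralizer ({c} : Set G) : Set G) := by
  refine mem_normalizer_iff.2 fun w => ?_
  rw [mem_centralizer_singleton_iff, mem_centralizer_singleton_iff]
  have h1 : w * c = c * w ↔
      n * w * n⁻¹ * (n * c * n⁻¹) = n * c * n⁻¹ * (n * w * n⁻¹) := by
    rw [show n * w * n⁻¹ * (n * c * n⁻¹) = n * (w * c) * n⁻¹ by group,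
      show n * c * n⁻¹ * (n * w * n⁻¹) = n * (c * w) * n⁻¹ by group]
    exact ⟨fun e => by rw [e], fun e => mul_left_cancel (mul_right_cancel e)⟩
  rcases h with e | e
  · rwa [e] at h1
  · rw [e] at h1
    exact h1.trans Commute.inv_right_iff

variable {G : Type u} [Group G] (D : Cov 9 G)

theorem orderOf_conj (w v : G) : orderOf (w * v * w⁻¹) = orderOf v := by
  rw [← MulAut.conj_apply, MulEquiv.orderOf_eq]

/-- the fixed points of an involution inverting `c` in the odd core of its centraliser -/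
theorem fixed_le_nine [Finite G] (hone : ∀ v : G, orderOf v = 2 → ∃ x : G, x * D.z * x⁻¹ = v)
    {c : G} (hc : c ∈ hh D) (hoc : orderOf c = 3)
    (hfix : oCa c ⊓ centralizer ({D.z} : Set G) ≤ zpowers c) {k i : G} (hk : orderOf k = 2)
    (hkz : Commute k D.z) (hinv : k * c * k⁻¹ = c⁻¹) (hi : i * i = D.z) (hik : Commute i k)
    (hic : Commute i c) :
    Nat.card ↥(oCa c ⊓ centralizer ({k} : Set G)) ≤ 9 := by
  classical
  set R := oCa c ⊓ centralizer ({k} : Set G) with hR
  have hcz : Commute D.z c := z_comm D hc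
  have hzR : D.z ∈ normalizer (R : Set G) :=
    mem_normalizer_inf_centralizer (centralizer_le_normalizer_oCa c
      (mem_centralizer_singleton_iff.2 hcz.eq)) hkz.symm
  have hiR : i ∈ normalizer (R : Set G) :=
    mem_normalizer_inf_centralizer (centralizer_le_normalizer_oCa c
      (mem_centralizer_singleton_iff.2 hic.eq)) hik
  have hodd : Odd (Nat.card R) := (odd_oCa c).of_dvd_nat (card_dvd_of_le inf_le_left)
  have hbot : R ⊓ centralizer ({D.z} : Set G) = ⊥ := by
    refine (Subgroup.eq_bot_iff_forall _).2 fun x hx => ?_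
    have hxk : Commute x k := mem_centralizer_singleton_iff.1 hx.1.2
    have hkx : k * x * k⁻¹ = x := by rw [← hxk.eq, mul_inv_cancel_right]
    have hne : c⁻¹ ≠ c := fun e => by
      have h2 : c ^ 2 = 1 := by rw [pow_two]; nth_rw 1 [← e]; exact inv_mul_cancel _
      have := orderOf_dvd_of_pow_eq_one h2
      rw [hoc] at this
      norm_num at this
    rcases mem_zpowers_three hoc (hfix ⟨hx.1.1, hx.2⟩) with e | e | e
    · exact e
    · rw [e, hinv] at hkx
      exact absurd hkx hne
    · rw [e, ← conj_inv, hinv, inv_inv] at hkx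
      exact absurd hkx.symm hne
  have hinvR : ∀ x ∈ R, D.z * x * D.z⁻¹ = x⁻¹ := by
    have h := card_inverted R hodd (z_sq D) hzR
    rw [hbot, card_bot, one_mul] at h
    have hbij : Function.Bijective
        (fun x : {x : G // x ∈ R ∧ D.z * x * D.z⁻¹ = x⁻¹} => (⟨x.1, x.2.1⟩ : R)) :=
      Function.Injective.bijective_of_nat_card_le
        (fun x y e => Subtype.ext (by simpa using congrArg (fun q : R => (q : G)) e)) h.le
    intro x hx
    obtain ⟨w, hw⟩ := hbij.2 ⟨x, hx⟩
    rw [← show w.1 = x from congrArg Subtype.val hw]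
    exact w.2.2
  have hab : ∀ x ∈ R, ∀ y ∈ R, Commute x y := fun x hx y hy => by
    have h := hinvR _ (R.mul_mem hx hy)
    rw [show D.z * (x * y) * D.z⁻¹ = (D.z * x * D.z⁻¹) * (D.z * y * D.z⁻¹) by group, hinvR x hx,
      hinvR y hy, ← mul_inv_rev] at h
    exact (inv_injective h).symm
  have h4 : Nat.card R % 4 = 1 := by
    refine mod_four_of_free (conjAut R i hiR).toEquiv (1 : R) (map_one (conjAut R i hiR)) ?_ ?_
    · refine Equiv.ext fun x => Subtype.ext ?_
      show i * (i * (i * (i * (x : G) * i⁻¹) * i⁻¹) * i⁻¹) * i⁻¹ = x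
      calc i * (i * (i * (i * (x : G) * i⁻¹) * i⁻¹) * i⁻¹) * i⁻¹ =
            (i * i) * ((i * i) * x * (i * i)⁻¹) * (i * i)⁻¹ := by group
        _ = D.z * (D.z * x * D.z⁻¹) * D.z⁻¹ := by rw [hi]
        _ = x := by rw [hinvR x x.2, ← conj_inv, hinvR x x.2, inv_inv]
    · intro x hx
      have h1 : i * (i * (x : G) * i⁻¹) * i⁻¹ = x := congrArg Subtype.val hx
      rw [show i * (i * (x : G) * i⁻¹) * i⁻¹ = (i * i) * x * (i * i)⁻¹ by group, hi,
        hinvR x x.2] at h1
      have h2 : (x : G) ^ 2 = 1 := by rw [pow_two]; nth_rw 2 [← h1]; exact mul_inv_cancel _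
      refine Subtype.ext (orderOf_eq_one_iff.1 ?_)
      rcases (Nat.dvd_prime Nat.prime_two).1 (orderOf_dvd_of_pow_eq_one h2) with e | e
      · exact e
      · obtain ⟨m, hm⟩ := odd_orderOf_mem hodd x.2; omega
  obtain ⟨w, hw⟩ := hone k hk
  set R' := R.comap (MulAut.conj w).toMonoidHom with hR'
  have hmem : ∀ v, v ∈ R' ↔ w * v * w⁻¹ ∈ R := fun v => Iff.rfl
  have hcard : Nat.card R' = Nat.card R := Nat.card_congr
    { toFun := fun v => ⟨w * v * w⁻¹, v.2⟩
      invFun := fun v => ⟨w⁻¹ * v * w, (hmem _).2 (by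
        rw [show w * (w⁻¹ * (v : G) * w) * w⁻¹ = v by group]; exact v.2)⟩
      left_inv := fun v => Subtype.ext (by show w⁻¹ * (w * (v : G) * w⁻¹) * w = v; group)
      right_inv := fun v => Subtype.ext (by show w * (w⁻¹ * (v : G) * w) * w⁻¹ = v; group) }
  have hle : R' ≤ hh D := fun v hv => by
    have h1 := mem_centralizer_singleton_iff.1 ((hmem v).1 hv).2
    rw [← hw] at h1
    refine mem_centralizer_singleton_iff.2 ?_
    refine mul_left_cancel (a := w) (mul_right_cancel (b := w⁻¹) ?_)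
    calc w * (v * D.z) * w⁻¹ = w * v * w⁻¹ * (w * D.z * w⁻¹) := by group
      _ = w * D.z * w⁻¹ * (w * v * w⁻¹) := h1
      _ = _ := by group
  rw [← hcard] at h4 hodd ⊢
  refine abelian_le_nine D hle hodd h4 fun x hx y hy => ?_
  have h := (hab _ ((hmem x).1 hx) _ ((hmem y).1 hy)).eq
  refine mul_left_cancel (a := w) (mul_right_cancel (b := w⁻¹) ?_)
  calc w * (x * y) * w⁻¹ = w * x * w⁻¹ * (w * y * w⁻¹) := by group
    _ = w * y * w⁻¹ * (w * x * w⁻¹) := h
    _ = _ := by group

/-- odd normal subgroups meeting `C(z) ⊓ C(c)` lie in the group of the three cycles -/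
theorem le_of_normalized [Finite G] {K E N : Subgroup G} (hK : Nat.card K = 2160)
    (hKh : K ≤ hh D) (hEK : E ≤ K) (hE : Nat.card E = 27) (hNK : N ≤ K)
    (hN : Odd (Nat.card N)) (hn : K ≤ normalizer (N : Set G)) : N ≤ E := by
  classical
  set M := E ⊔ N with hM
  have hMK : M ≤ K := sup_le hEK hNK
  have hMset : (M : Set G) = (E : Set G) * (N : Set G) :=
    Subgroup.coe_mul_of_left_le_normalizer_right E N (hEK.trans hn)
  have hMdvd : Nat.card M ∣ Nat.card E * Nat.card N := by
    haveI : (N.subgroupOf M).Normal :=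
      normal_subgroupOf_of_le_normalizer (hMK.trans hn)
    let f : E →* M ⧸ N.subgroupOf M :=
      (QuotientGroup.mk' _).comp (inclusion (le_sup_left : E ≤ M))
    have hf : Function.Surjective f := fun q => by
      obtain ⟨⟨x, hx⟩, rfl⟩ := QuotientGroup.mk'_surjective _ q
      have hx' : x ∈ (M : Set G) := hx
      rw [hMset] at hx'
      obtain ⟨e, he, n, hn', rfl⟩ := Set.mem_mul.1 hx'
      refine ⟨⟨e, he⟩, (QuotientGroup.eq).2 (mem_subgroupOf.2 ?_)⟩
      show e⁻¹ * (e * n) ∈ N
      rw [inv_mul_cancel_left]; exact hn'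
    rw [Subgroup.card_eq_card_quotient_mul_card_subgroup (N.subgroupOf M),
      Nat.card_congr (subgroupOfEquivOfLe (le_sup_right : N ≤ M)).toEquiv]
    exact Nat.mul_dvd_mul_right (card_dvd_of_surjective f hf) _
  have hMe : 27 ∣ Nat.card M := hE ▸ card_dvd_of_le le_sup_left
  have hM2160 : Nat.card M ∣ 2160 := hK ▸ card_dvd_of_le hMK
  have hModd : Odd (Nat.card M) := (by rw [hE]; exact Odd.mul (by decide) hN :
    Odd (Nat.card E * Nat.card N)).of_dvd_nat hMdvd
  have hM135 : Nat.card M ∣ 135 :=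
    Nat.Coprime.dvd_of_dvd_mul_right (Nat.Coprime.pow_right 4 (Nat.coprime_two_right.2 hModd))
      (show _ ∣ 135 * 2 ^ 4 from hM2160)
  by_contra hNE
  have hne : Nat.card M ≠ 27 := fun h => hNE (le_sup_right.trans
    (Subgroup.eq_of_le_of_card_ge (le_sup_left : E ≤ M) (by rw [hE, ← hM, h])).ge)
  have h135 : Nat.card M = 135 := by
    obtain ⟨r, hr⟩ := hMe
    rw [hr] at hM135 hne ⊢
    have : r ∣ 5 := Nat.dvd_of_mul_dvd_mul_left (by norm_num) (show 27 * r ∣ 27 * 5 from hM135)
    rcases (Nat.dvd_prime (by norm_num : Nat.Prime 5)).1 this with rfl | rfl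
    · simp at hne
    · rfl
  haveI : Fact (Nat.Prime 5) := ⟨by norm_num⟩
  haveI : Fact (Nat.Prime 3) := ⟨by norm_num⟩
  obtain ⟨P⟩ := (inferInstance : Nonempty (Sylow 5 M))
  obtain ⟨Q, hQ⟩ := (IsPGroup.of_card (n := 3) (p := 3) (show Nat.card (E.subgroupOf M) = 3 ^ 3 by
    rw [Nat.card_congr (subgroupOfEquivOfLe (le_sup_left : E ≤ M)).toEquiv, hE]; norm_num)
    ).exists_le_sylow
  have hPc : Nat.card (P : Subgroup M) = 5 := by
    rw [P.card_eq_multiplicity, h135]; decide +kernel
  have hQc : Nat.card (Q : Subgroup M) = 27 := by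
    rw [Q.card_eq_multiplicity, h135]; decide +kernel
  have hP1 : Nat.card (Sylow 5 M) = 1 := by
    have h1 := P.card_dvd_index
    have h2 : (P : Subgroup M).index = 27 := by
      have h := (P : Subgroup M).card_mul_index
      rw [hPc, h135] at h
      omega
    rw [h2] at h1
    have h3 := card_sylow_modEq_one 5 M
    have h4 := Nat.le_of_dvd (by norm_num) h1
    unfold Nat.ModEq at h3
    interval_cases (Nat.card (Sylow 5 M)) <;> simp_all
  have hQ1 : Nat.card (Sylow 3 M) = 1 := by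
    have h1 := Q.card_dvd_index
    have h2 : (Q : Subgroup M).index = 5 := by
      have h := (Q : Subgroup M).card_mul_index
      rw [hQc, h135] at h
      omega
    rw [h2] at h1
    have h3 := card_sylow_modEq_one 3 M
    have h4 := Nat.le_of_dvd (by norm_num) h1
    unfold Nat.ModEq at h3
    interval_cases (Nat.card (Sylow 3 M)) <;> simp_all
  haveI : Subsingleton (Sylow 5 M) := (Nat.card_eq_one_iff_unique.1 hP1).1
  haveI : Subsingleton (Sylow 3 M) := (Nat.card_eq_one_iff_unique.1 hQ1).1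
  have hPn : (P : Subgroup M).Normal := P.normal_of_subsingleton
  have hQn : (Q : Subgroup M).Normal := Q.normal_of_subsingleton
  have hdis : Disjoint (P : Subgroup M) (Q : Subgroup M) :=
    disjoint_iff.2 (CfsgLib.Base.inf_eq_bot_of_coprime (by rw [hPc, hQc]; norm_num))
  obtain ⟨t, ht⟩ := exists_prime_orderOf_dvd_card' 5 (by rw [hPc] : 5 ∣ Nat.card (P : Subgroup M))
  rw [← Subgroup.orderOf_coe, ← Subgroup.orderOf_coe] at ht
  set t' : ↥(hh D) := ⟨((t : M) : G), hKh (hMK (t : M).2)⟩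
  have hto : orderOf (pm D t') = 5 := by
    have hz : D.z ∉ M := z_not_mem_of_odd D hModd
    rcases (Nat.dvd_prime (by norm_num : Nat.Prime 5)).1
      ((orderOf_pm_dvd D t').trans (dvd_of_eq ht)) with e | e
    · have h := pm_injOn D hz (x := t') (y := 1) (t : M).2 M.one_mem
        (by rw [map_one]; exact orderOf_eq_one_iff.1 e)
      have h' : ((t : M) : G) = 1 := congrArg Subtype.val h
      rw [h', orderOf_one] at ht
      norm_num at ht
    · exact e
  have hd := dvd_cent D (X := E) (hEK.trans hKh)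
    (z_not_mem_of_odd D (by rw [hE]; decide)) t' fun x hx => by
      have h := Subgroup.commute_of_normal_of_disjoint _ _ hQn hPn hdis.symm
        (⟨x, (le_sup_left : E ≤ M) hx⟩ : M) (t : M) (hQ (mem_subgroupOf.2 hx)) t.2
      exact congrArg Subtype.val h.eq
  rw [card_cent_five _ hto, hE] at hd
  norm_num at hd

/-- Piece F: degree nine is impossible. -/
theorem nineLocal : StmtNineLocal.{u} := by
  intro hD hO G _ _ D F
  classical
  obtain ⟨hcard, h27, -⟩ := core_orders F hD hO
  obtain ⟨j, hj, c, hc, hoc, hcO, hcent⟩ := exists_cycle F hD hO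
  obtain ⟨S⟩ : Nonempty (Spec j) := by
    rcases hj with rfl | rfl
    · exact spec_zero
    · exact spec_one
  obtain ⟨-, -, hpp, -, -, hpe, -⟩ := pE_facts
  have hcodd : Odd (orderOf (c : G)) := by rw [hoc]; decide
  set O := oCa F.a with hOdef
  set X := centralizer ({(c : G)} : Set G) with hX
  set Oc := oCa (c : G) with hOc
  have hOX : O ≤ X := fun w hw => mem_centralizer_singleton_iff.2 (hcent w hw).eq
  have hzc : Commute D.z (c : G) := z_comm D c.2
  have hzX : D.z ∈ X := mem_centralizer_singleton_iff.2 hzc.eq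
  have hzOc : D.z ∈ normalizer (Oc : Set G) := centralizer_le_normalizer_oCa _ hzX
  have hzO : D.z ∈ normalizer (O : Set G) := centralizer_le_normalizer_oCa _ (z_ca F)
  -- `z` is isolated in `X`
  have hiso : IsIsolatedInvolution (⟨D.z, hzX⟩ : X) := by
    refine ⟨(Subgroup.orderOf_mk _ _).trans D.ord_z, fun g hg => ?_⟩
    have hg' : Commute D.z ((g : G) * D.z * (g : G)⁻¹) := congrArg Subtype.val hg.eq
    refine Subtype.ext ?_
    show (g : G) * D.z * (g : G)⁻¹ = D.z
    by_contra hne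
    set v : ↥(hh D) := ⟨(g : G) * D.z * (g : G)⁻¹, mem_centralizer_singleton_iff.2 hg'.eq.symm⟩
    have h2 : (v : G) * v = 1 := by
      show (g : G) * D.z * (g : G)⁻¹ * ((g : G) * D.z * (g : G)⁻¹) = 1
      calc (g : G) * D.z * (g : G)⁻¹ * ((g : G) * D.z * (g : G)⁻¹) =
            g * (D.z * D.z) * (g : G)⁻¹ := by group
        _ = 1 := by rw [z_sq]; group
    have h1 : (v : G) ≠ 1 := fun e => z_ne D (conj_eq_one_iff.1 e)
    have hgc : Commute (g : G) (c : G) := mem_centralizer_singleton_iff.1 g.2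
    have hvc : Commute (v : G) (c : G) := (hgc.mul_left hzc).mul_left hgc.inv_left
    have h8 := supp_invol D h2 h1 hne
    have h6 := commute_cycle j (pm D v) (by rw [← map_mul, show v * v = 1 from Subtype.ext h2,
      map_one]) (by rw [← hc, ← map_mul, ← map_mul]; exact congrArg (pm D) (Subtype.ext hvc.eq))
    omega
  have hcomm : ∀ w ∈ X, D.z * w * D.z⁻¹ * w⁻¹ ∈ Oc := fun w hw =>
    ⟨_, CfsgLib.Involutions.ZStar.centralModCore hiso ⟨w, hw⟩, rfl⟩
  have hinvmem : ∀ w ∈ O, D.z * w * D.z⁻¹ = w⁻¹ → w ∈ Oc := fun w hw e => by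
    have h := hcomm w (hOX hw)
    rw [e, ← mul_inv_rev] at h
    exact mem_of_sq_mem (odd_orderOf_mem (odd_oCa F.a) hw) (inv_mem_iff.1 h)
  -- `Oc ⊓ C(z) = ⟨c⟩`
  set E := O ⊓ centralizer ({D.z} : Set G) with hE
  set K := hh D ⊓ X with hK
  have hK2160 : Nat.card K = 2160 := by
    obtain ⟨τ, hτ, hτc⟩ := swap_comm.2 j
    have h := card_cent D (t := c) hcodd hτ (by rw [hc]; exact hτc)
    rw [hc, card_cent_pC] at h
    exact h
  have hEK : E ≤ K := fun w hw => ⟨hw.2, hOX hw.1⟩
  have hNE : Oc ⊓ centralizer ({D.z} : Set G) ≤ E :=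
    le_of_normalized D hK2160 inf_le_left hEK h27 (fun w hw => ⟨hw.2, oCa_le _ hw.1⟩)
      ((odd_oCa _).of_dvd_nat (card_dvd_of_le inf_le_left)) fun n hn =>
      mem_normalizer_inf_centralizer (centralizer_le_normalizer_oCa _ hn.2) (z_comm D hn.1).symm
  obtain ⟨h, hh'⟩ := exists_lift D S.h S.h_even
  have hhc : Commute (h : G) (c : G) := comm D hcodd (by rw [hh', hc, S.hc])
  have hhX : (h : G) ∈ X := mem_centralizer_singleton_iff.2 hhc.eq
  have hfix : Oc ⊓ centralizer ({D.z} : Set G) ≤ zpowers (c : G) := fun w hw => by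
    set w' : ↥(hh D) := ⟨w, hw.2⟩
    obtain ⟨e, he⟩ := exists_pE F h27 (x := w') (hNE hw).1
    obtain ⟨e', he'⟩ := exists_pE F h27 (x := h * w' * h⁻¹) (hNE
      ((mem_normalizer_iff.1 (mem_normalizer_inf_centralizer
        (centralizer_le_normalizer_oCa _ hhX) (z_comm D h.2).symm) w).1 hw)).1
    rw [map_mul, map_mul, map_inv, hh', he] at he'
    have hwodd : Odd (orderOf (w' : G)) := odd_orderOf_mem (odd_oCa _) hw.1
    rcases S.cut e (fun i => by
      obtain ⟨e'', he''⟩ := pC_eq_pE i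
      rw [he', he'', pE_comm]) with h0 | h0 | h0
    · rw [show w = 1 from odd_eq D (x := w') (y := 1) hwodd (by simp) (by rw [he, h0, map_one])]
      exact one_mem _
    · rw [show w = c from odd_eq D (x := w') hwodd hcodd (by rw [he, h0, hc])]
      exact mem_zpowers _
    · rw [show w = (c : G)⁻¹ from odd_eq D (x := w') (y := c⁻¹) hwodd
        (by rw [Subgroup.coe_inv, orderOf_inv]; exact hcodd) (by rw [he, h0, map_inv, hc])]
      exact inv_mem (mem_zpowers _)
  have hcOc : (c : G) ∈ Oc := mem_oCa hcodd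
  have hfix3 : Nat.card ↥(Oc ⊓ centralizer ({D.z} : Set G)) = 3 := by
    rw [le_antisymm hfix (zpowers_le.2 ⟨hcOc, c.2⟩), Nat.card_zpowers, hoc]
  -- inverted elements
  have hOinv := card_inverted O (odd_oCa _) (z_sq D) hzO
  rw [hcard, h27] at hOinv
  have h81 : Nat.card {w : G // w ∈ O ∧ D.z * w * D.z⁻¹ = w⁻¹} = 81 := by omega
  have hzI : D.z ∈ normalizer ((O ⊓ Oc : Subgroup G) : Set G) :=
    mem_normalizer_iff.2 fun w => by
      simp only [mem_inf]
      exact and_congr (mem_normalizer_iff.1 hzO w) (mem_normalizer_iff.1 hzOc w)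
  have hoddI : Odd (Nat.card ↥(O ⊓ Oc)) :=
    (odd_oCa _).of_dvd_nat (card_dvd_of_le (inf_le_left : O ⊓ Oc ≤ O))
  have hI : 243 ≤ Nat.card ↥(O ⊓ Oc) := by
    rw [card_inverted _ hoddI (z_sq D) hzI, show 243 = 3 * 81 from rfl]
    refine Nat.mul_le_mul ?_ ?_
    · rw [← hoc, ← Nat.card_zpowers]
      exact Subgroup.card_le_of_le (zpowers_le.2 ⟨⟨hcO, hcOc⟩, c.2⟩)
    · rw [← h81]
      exact Nat.card_le_card_of_injective
        (fun w => ⟨w.1, ⟨w.2.1, hinvmem _ w.2.1 w.2.2⟩, w.2.2⟩)
        fun v w e => Subtype.ext (by simpa using congrArg (fun q : {_w : G // _} => (q : G)) e)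
  -- the involutions inverting `c`
  obtain ⟨k, hk'⟩ := exists_lift D S.k S.k_even
  have hk2 : (k : G) * k = 1 := by
    rw [sq_lift D (by rw [hk', S.k_sq]), hk', S.k_supp]
    rfl
  have hkne : ¬ ((k : G) = 1 ∨ (k : G) = D.z) := fun e => by
    have h0 : S.k = 1 := hk' ▸ (pm_eq_one D).2 e
    have h8 := S.k_supp
    rw [h0, Perm.support_one, Finset.card_empty] at h8
    omega
  have hkz : Commute (k : G) D.z := (z_comm D k.2).symm
  have hko : orderOf (k : G) = 2 :=
    orderOf_eq_prime (by rw [pow_two]; exact hk2) fun e => hkne (Or.inl e)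
  have hkzo : orderOf ((k : G) * D.z) = 2 := by
    refine orderOf_eq_prime ?_ fun e => hkne (Or.inr ?_)
    · rw [hkz.mul_pow, pow_two, pow_two, hk2, z_sq, one_mul]
    · rw [eq_inv_of_mul_eq_one_left e, inv_eq_of_mul_eq_one_right (z_sq D)]
  have hkc : (k : G) * c * (k : G)⁻¹ = (c : G)⁻¹ :=
    odd_eq D (x := k * c * k⁻¹) (y := c⁻¹)
      (by rw [show ((k * c * k⁻¹ : ↥(hh D)) : G) = (k : G) * c * (k : G)⁻¹ from rfl, orderOf_conj]
          exact hcodd)
      (by rw [Subgroup.coe_inv, orderOf_inv]; exact hcodd)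
      (by rw [map_mul, map_mul, map_inv, map_inv, hk', hc, S.k_inv])
  have hkzc : (k : G) * D.z * c * ((k : G) * D.z)⁻¹ = (c : G)⁻¹ := by
    rw [show (k : G) * D.z * c * ((k : G) * D.z)⁻¹ = k * (D.z * c * D.z⁻¹) * (k : G)⁻¹ by group,
      hzc.eq, mul_inv_cancel_right, hkc]
  obtain ⟨xl, hxl, hxo⟩ := lift_odd D S.x S.x_even (n := 3) (by decide)
    (orderOf_eq_prime S.x_three.1 S.x_three.2)
  obtain ⟨yl, hyl, hyo⟩ := lift_odd D S.y S.y_even (n := 3) (by decide)
    (orderOf_eq_prime S.y_three.1 S.y_three.2)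
  have hxodd : Odd (orderOf (xl : G)) := by rw [hxo]; decide
  have hyodd : Odd (orderOf (yl : G)) := by rw [hyo]; decide
  have hi2 : ((xl * yl : ↥(hh D)) : G) * ((xl * yl : ↥(hh D)) : G) = D.z := by
    rw [sq_lift D (by rw [map_mul, hxl, hyl, S.xy_sq]), map_mul, hxl, hyl, S.xy_supp]
    rfl
  have hik : Commute ((xl * yl : ↥(hh D)) : G) k :=
    ((comm D (x := k) hxodd (by rw [hk', hxl, S.xk])).symm).mul_left
      ((comm D (x := k) hyodd (by rw [hk', hyl, S.yk])).symm)
  have hic : Commute ((xl * yl : ↥(hh D)) : G) c :=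
    (comm D (x := xl) hcodd (by rw [hxl, hc, S.xc])).mul_left
      (comm D (x := yl) hcodd (by rw [hyl, hc, S.yc]))
  have hR : Nat.card ↥(Oc ⊓ centralizer ({(k : G)} : Set G)) ≤ 9 :=
    fixed_le_nine D F.one c.2 hoc hfix hko hkz hkc hi2 hik hic
  have hR' : Nat.card ↥(Oc ⊓ centralizer ({(k : G) * D.z} : Set G)) ≤ 9 :=
    fixed_le_nine D F.one c.2 hoc hfix hkzo (hkz.mul_left (Commute.refl _)) hkzc hi2
      (hik.mul_right (z_comm D (xl * yl).2).symm) hic
  have h4 := card_four Oc (odd_oCa _) (z_sq D) hk2 hkz.symm hzOc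
    (le_normalizer_oCa _ (mem_normalizer_centralizer (Or.inr hkc)))
  rw [hfix3] at h4
  have hOc243 : Nat.card Oc ≤ 243 := by
    refine le_trans (Nat.le_mul_of_pos_right _ (pow_pos Nat.card_pos 2)) (h4.le.trans ?_)
    exact Nat.mul_le_mul (Nat.mul_le_mul le_rfl hR) hR'
  have hIle : Nat.card ↥(O ⊓ Oc) ≤ Nat.card Oc := Subgroup.card_le_of_le inf_le_right
  have hOcO : Oc ≤ O := by
    have := Subgroup.eq_of_le_of_card_ge (inf_le_right : O ⊓ Oc ≤ Oc) (by omega)
    exact this ▸ inf_le_left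
  -- `a` centralises `Oc`, hence so does `z`
  have haOc : ∀ w ∈ Oc, Commute F.a w := fun w hw =>
    (mem_centralizer_singleton_iff.1 (oCa_le F.a (hOcO hw))).symm
  set x : ↥(hh D) := (liftA F)⁻¹ * (h * liftA F * h⁻¹) with hx
  have hxw : ∀ w ∈ Oc, Commute (x : G) w := by
    intro w hw
    have hn := centralizer_le_normalizer_oCa _ hhX
    have hw' : (h : G)⁻¹ * w * h ∈ Oc := by
      have := (mem_normalizer_iff.1 (inv_mem hn) w).1 hw
      rwa [inv_inv] at this
    have h1 : Commute ((h : G) * F.a * (h : G)⁻¹) w := by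
      show _ * w = w * _
      calc (h : G) * F.a * (h : G)⁻¹ * w = h * (F.a * ((h : G)⁻¹ * w * h)) * (h : G)⁻¹ := by group
        _ = h * (((h : G)⁻¹ * w * h) * F.a) * (h : G)⁻¹ := by rw [(haOc _ hw').eq]
        _ = _ := by group
    exact (haOc w hw).inv_left.mul_left h1
  have hx2 : (x : G) * x = D.z := by
    rw [sq_lift D (by
      rw [hx, map_mul, map_inv, map_mul, map_mul, map_inv, hh', pm_liftA]; exact S.comm_sq)]
    rw [hx, map_mul, map_inv, map_mul, map_mul, map_inv, hh', pm_liftA, S.comm_supp]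
    rfl
  have hall : Oc ≤ Oc ⊓ centralizer ({D.z} : Set G) := fun w hw =>
    ⟨hw, mem_centralizer_singleton_iff.2 (by
      rw [← hx2]; exact ((hxw w hw).mul_left (hxw w hw)).eq.symm)⟩
  have := Subgroup.card_le_of_le hall
  omega

end CfsgLib.AltTwoCent.Nine

namespace CfsgLib.AltTwoCent

universe u

/-- Piece F: degree nine is impossible. -/
theorem nineLocal : StmtNineLocal.{u} := Nine.nineLocal

end CfsgLib.AltTwoCent
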