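import Cfsg.Agent.Lib.AltTwoCent.PairBasics
import Cfsg.Agent.Lib.Blocks.KleinPrincipal
import Cfsg.Agent.Lib.CharApps.AbelianSylow
import Cfsg.Agent.S4479

/-!
# Degree nine: the order formula and the principal block
-/

set_option autoImplicit false
set_option linter.style.haveILetI false
set_option linter.unusedSectionVars false
set_option maxRecDepth 100000

namespace CfsgLib.AltTwoCent

open Subgroup CfsgLib.Involutions Cfsg

universe u

/-- The divisors of `n`. -/
def divs (n : ℕ) : List ℕ := (List.range (n + 1)).filter fun i => n % i == 0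

/-- The divisors of `36 (d² + 18 d)`. -/
def cand (d : ℕ) : List ℕ :=
  ((divs 36).flatMap fun x => (divs (d * d + 18 * d)).map fun y => x * y).eraseDups

/-- The block equation fails for the degrees `a`, `b`. -/
def okPair (X a b : ℕ) : Bool :=
  !(a % 4 == 1 && ((b % 4 == 1 && X * (a + 1) * (b + 1) * (a + b) == 648 * a * b * (1 + a + b)) ||
    (b % 4 == 3 && decide (b < a) && X * (a + 1) * (b - 1) * (a - b) == 648 * a * b * (1 + a - b))))

/-- No pair of degrees satisfies the block equation for `d`. -/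
def check (d : ℕ) : Bool :=
  (cand d).all fun a => a % 4 != 1 || (cand d).all fun b => okPair (d * d + 18 * d) a b

theorem all_check : ∀ d ∈ [1, 3, 5, 7, 11, 13, 23, 25, 29], check d = true := by decide +kernel

theorem mem_cand {d x : ℕ} (hd : 0 < d) (hx : x ∣ 36 * (d * d + 18 * d)) : x ∈ cand d := by
  obtain ⟨y, z, hy, hz, rfl⟩ := Nat.dvd_mul.1 hx
  have mem : ∀ {n i : ℕ}, 0 < n → i ∣ n → i ∈ divs n := fun {n i} hn hi =>
    List.mem_filter.2 ⟨List.mem_range.2 (Nat.lt_succ_of_le (Nat.le_of_dvd hn hi)),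
      beq_iff_eq.2 (Nat.mod_eq_zero_of_dvd hi)⟩
  exact List.mem_eraseDups.2 (List.mem_flatMap.2 ⟨y, mem (by norm_num) hy,
    List.mem_map.2 ⟨z, mem (by positivity) hz, rfl⟩⟩)

/-- The arithmetic of the block equation. -/
theorem arith {d a b c : ℕ} {ε : ℤ} (hd : Odd d) (hε : ε = 1 ∨ ε = -1) (ha : 0 < a) (hb : 0 < b)
    (hc : 0 < c) (had : a ∣ 36 * (d * d + 18 * d)) (hbd : b ∣ 36 * (d * d + 18 * d))
    (ha4 : (4 : ℤ) ∣ (a : ℤ) - 1) (hb4 : (4 : ℤ) ∣ (b : ℤ) - ε) (hc4 : (4 : ℤ) ∣ (c : ℤ) + 1)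
    (hrel : 1 + (a : ℤ) + ε * b - c = 0)
    (heq : ((d : ℤ) * d + 18 * d) * ((a + 1) * (b + ε) * (c - 1)) = 648 * ((a : ℤ) * b * c)) :
    d = 9 ∨ d = 15 ∨ d = 17 ∨ d = 19 ∨ d = 21 ∨ d = 27 := by
  have hd0 : 0 < d := hd.pos
  have hc3 : 3 ≤ c := by omega
  have hX : (d : ℤ) * d + 18 * d ≤ 1458 := by
    set X := (d : ℤ) * d + 18 * d with hX
    have hX0 : 0 ≤ X := by positivity
    have hA : (0 : ℤ) < a := by exact_mod_cast ha
    have hB : (0 : ℤ) < b := by exact_mod_cast hb
    have hC : (3 : ℤ) ≤ c := by exact_mod_cast hc3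
    have hbe : 2 * (b : ℤ) ≤ 3 * (b + ε) ∧ 0 < (b : ℤ) + ε := by
      rcases hε with rfl | rfl
      · omega
      · have : 3 ≤ b := by omega
        omega
    have h1 : (2 * (b : ℤ)) * (2 * c) ≤ 3 * (b + ε) * (3 * (c - 1)) :=
      mul_le_mul hbe.1 (by omega) (by omega) (by omega)
    have h2 : (a : ℤ) * ((2 * b) * (2 * c)) ≤ (a + 1) * (3 * (b + ε) * (3 * (c - 1))) :=
      mul_le_mul (by omega) h1 (by positivity) (by omega)
    have hpos : 0 < ((a : ℤ) + 1) * (b + ε) * (c - 1) :=
      mul_pos (mul_pos (by omega) hbe.2) (by omega)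
    nlinarith
  have hd30 : d < 31 := by nlinarith
  by_contra hne
  push Not at hne
  have hmem : d ∈ [1, 3, 5, 7, 11, 13, 23, 25, 29] := by
    obtain ⟨j, rfl⟩ := hd
    have : j < 15 := by omega
    interval_cases j <;> simp_all
  have h := all_check d hmem
  unfold check at h
  rw [List.all_eq_true] at h
  have h1 := h a (mem_cand hd0 had)
  have ha1 : a % 4 = 1 := by omega
  rw [Bool.or_eq_true, List.all_eq_true] at h1
  have h2 := (h1.resolve_left (by simp [ha1])) b (mem_cand hd0 hbd)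
  unfold okPair at h2
  rw [Bool.not_eq_true'] at h2
  rcases hε with rfl | rfl
  · have hc' : c = 1 + a + b := by omega
    have e : (d * d + 18 * d) * (a + 1) * (b + 1) * (a + b) = 648 * a * b * (1 + a + b) := by
      apply Int.natCast_inj.1
      push_cast
      rw [hc'] at heq
      push_cast at heq
      linear_combination heq
    have hb1 : b % 4 = 1 := by omega
    simp [ha1, hb1, e] at h2
  · have hc' : (c : ℤ) = 1 + a - b := by omega
    have hba : b < a := by omega
    have e : (d * d + 18 * d) * (a + 1) * (b - 1) * (a - b) = 648 * a * b * (1 + a - b) := by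
      apply Int.natCast_inj.1
      rw [show 1 + a - b = 1 + (a - b) by omega]
      push_cast [Nat.cast_sub hba.le, Nat.cast_sub (show 1 ≤ b by omega)]
      rw [hc'] at heq
      linear_combination heq
    have hb1 : b % 4 = 3 := by omega
    simp [ha1, hb1, hba, e] at h2

namespace NineData

variable {P : Type u} [Group P] [Finite P] (E : NineData P)
include E

theorem one_class {v : P} (hv : v ∉ E.Q) (hv2 : orderOf v = 2) : IsConj E.k v := by
  obtain ⟨c, hc⟩ := E.toPairCore.near hv2
  obtain ⟨d, -, hd⟩ := E.outer _ (fun h => hv ((E.toPairCore.conj_iff c v).1 h))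
    (by rw [orderOf_conj, hv2]) hc
  exact (isConj_iff.2 ⟨d, hd⟩).trans (isConj_iff.2 ⟨c⁻¹, by group⟩)

/-- `D = C_Q(k)` has one class of involutions; there is an odd number `d` of them and `#D = 6 d`. -/
theorem inD_facts :
    ∃ d : ℕ, Odd d ∧ Nat.card ↥(E.Q ⊓ centralizer ({E.k} : Set P)) = 6 * d ∧
      Nat.card {p : ↥(E.Q ⊓ centralizer ({E.k} : Set P)) × ↥(E.Q ⊓ centralizer ({E.k} : Set P)) //
        orderOf p.1 = 2 ∧ orderOf p.2 = 2 ∧ Odd (orderOf (p.1 * p.2))} = d * d := by
  classical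
  set D := E.Q ⊓ centralizer ({E.k} : Set P) with hD
  have mD : ∀ x : P, x ∈ D ↔ x ∈ E.Q ∧ Commute x E.k := fun x => by
    rw [hD, mem_inf, mem_centralizer_singleton_iff]; rfl
  let z' : D := ⟨E.z, (mD _).2 ⟨E.zQ, E.zk⟩⟩
  have hz' : orderOf z' = 2 := by rw [← Subgroup.orderOf_coe]; exact E.ord_z
  have only : ∀ v : D, orderOf v = 2 → Commute v z' → v = z' := fun v hv hc =>
    Subtype.ext (E.invol_k _ ((mD _).1 v.2).1 (by rw [Subgroup.orderOf_coe, hv])
      (congrArg Subtype.val hc.eq) ((mD _).1 v.2).2)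
  have conj : ∀ v : D, orderOf v = 2 → IsConj z' v := by
    intro v hv
    rcases Nat.even_or_odd (orderOf (v * z')) with he | ho
    · have he2 := half_invol he
      have e := only _ he2 (half_comm_right hv hz' he)
      have h1 := half_comm_left hv hz' he
      rw [e] at h1
      rw [only v hv h1.symm]
    · exact (isConj_of_odd_prod hv hz' ho).symm
  have odd : ∀ v w : D, orderOf v = 2 → orderOf w = 2 → Odd (orderOf (v * w)) := by
    intro v w hv hw
    obtain ⟨c, rfl⟩ := isConj_iff.1 (conj v hv)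
    have hw' : orderOf (c⁻¹ * w * c) = 2 := by
      have := orderOf_conj c⁻¹ w
      rwa [inv_inv, hw] at this
    rw [show c * z' * c⁻¹ * w = c * (z' * (c⁻¹ * w * c)) * c⁻¹ by group, orderOf_conj]
    by_contra hev
    rw [Nat.not_odd_iff_even] at hev
    have he2 := half_invol hev
    have e := only _ he2 (half_comm_left hz' hw' hev)
    have h1 := half_comm_right hz' hw' hev
    rw [e] at h1
    rw [only _ hw' h1.symm, invol_mul_self hz', orderOf_one] at hev
    exact Nat.not_even_one hev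
  haveI := Fintype.ofFinite D
  set I := (Finset.univ : Finset D).filter (fun v => orderOf v = 2) with hI
  have hI' : Nat.card {v : D // IsConj z' v} = I.card := by
    rw [Nat.card_eq_fintype_card, Fintype.card_subtype, hI]
    refine congrArg Finset.card (Finset.filter_congr fun v _ => ⟨fun h => ?_, conj v⟩)
    obtain ⟨c, rfl⟩ := isConj_iff.1 h
    rw [orderOf_conj, hz']
  have hodd : Odd I.card := by
    have hz'I : z' ∈ I := Finset.mem_filter.2 ⟨Finset.mem_univ _, hz'⟩
    have h0 : ((I.erase z').card : ZMod 2) = 0 := by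
      rw [Finset.cast_card]
      refine Finset.sum_involution (fun v _ => z' * v * z'⁻¹) (fun _ _ => by decide) ?_ ?_ ?_
      · intro v hv _ hfix
        obtain ⟨hne, hvI⟩ := Finset.mem_erase.1 hv
        exact hne (only v (Finset.mem_filter.1 hvI).2 (mul_inv_eq_iff_eq_mul.1 hfix).symm)
      · intro v hv
        obtain ⟨hne, hvI⟩ := Finset.mem_erase.1 hv
        refine Finset.mem_erase.2 ⟨fun h => hne ?_,
          Finset.mem_filter.2 ⟨Finset.mem_univ _, by rw [orderOf_conj, (Finset.mem_filter.1 hvI).2]⟩⟩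
        have := congrArg (fun x => z'⁻¹ * x * z') h
        simpa [mul_assoc] using this
      · intro v hv
        rw [invol_inv hz', ← mul_assoc, ← mul_assoc, invol_mul_self hz', one_mul, mul_assoc,
          invol_mul_self hz', mul_one]
    rw [ZMod.natCast_eq_zero_iff_even, Finset.card_erase_of_mem hz'I] at h0
    have := Finset.card_pos.2 ⟨z', hz'I⟩
    obtain ⟨j, hj⟩ := h0
    exact ⟨j, by omega⟩
  refine ⟨I.card, hodd, ?_, ?_⟩
  · have hc : Nat.card (centralizer ({z'} : Set D)) = 6 := by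
      rw [← E.card_k]
      exact Nat.card_congr
        { toFun := fun c => ⟨(c.1 : P), ⟨⟨((mD _).1 c.1.2).1, mem_centralizer_singleton_iff.2
            (congrArg Subtype.val (mem_centralizer_singleton_iff.1 c.2))⟩,
            mem_centralizer_singleton_iff.2 ((mD _).1 c.1.2).2.eq⟩⟩
          invFun := fun c => ⟨⟨(c : P), (mD _).2 ⟨c.2.1.1, mem_centralizer_singleton_iff.1 c.2.2⟩⟩,
            mem_centralizer_singleton_iff.2 (Subtype.ext (mem_centralizer_singleton_iff.1 c.2.1.2))⟩
          left_inv := fun c => rfl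
          right_inv := fun c => rfl }
    have h := (centralizer ({z'} : Set D)).card_mul_index
    rw [hc, ← CfsgLib.FgsB.card_isConj_eq_index, hI'] at h
    exact h.symm
  · rw [Nat.card_eq_fintype_card, Fintype.card_subtype, ← Finset.card_product]
    refine congrArg Finset.card (Finset.ext fun p => ?_)
    simp only [Finset.mem_filter, Finset.mem_univ, true_and, Finset.mem_product, hI]
    exact ⟨fun h => ⟨h.1, h.2.1⟩, fun h => ⟨h.1, h.2, odd _ _ h.1 h.2⟩⟩

theorem card_Q : ∃ d : ℕ, Odd d ∧ Nat.card E.Q = 36 * (d * d + 18 * d) ∧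
    Nat.card ↥(E.Q ⊓ centralizer ({E.k} : Set P)) = 6 * d := by
  obtain ⟨d, hd, h1, h2⟩ := E.inD_facts
  refine ⟨d, hd, ?_, h1⟩
  have hout : ∀ v : P, v ∉ E.Q → orderOf v = 2 → IsConj E.k v := fun v => E.one_class
  have hP := E.toPairCore.card_P hout
  rw [E.toPairCore.card_pair_k hout, h2, E.card_pairs,
    E.toPairCore.half_Q (mem_centralizer_singleton_iff.2 rfl), h1] at hP
  have h := E.Q.card_mul_index
  rw [E.index, hP] at h
  linarith

end NineData

/-- Piece E. -/
theorem nineOrder : StmtNineOrder.{u} := by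
  intro P _ _ E
  classical
  haveI : Fact (Nat.Prime 2) := ⟨Nat.prime_two⟩
  obtain ⟨d, hd, hQ, hD⟩ := E.card_Q
  refine ⟨?_, d, hQ, hD⟩
  have hg₀ : Odd (9 * (d * d + 18 * d)) := by
    obtain ⟨j, rfl⟩ := hd
    exact ⟨18 * j * j + 180 * j + 85, by ring⟩
  have hG : Nat.card E.Q = 4 * (9 * (d * d + 18 * d)) := by rw [hQ]; ring
  let z : E.Q := ⟨E.z, E.zQ⟩
  let u : E.Q := ⟨E.u, E.uQ⟩
  have hz : orderOf z = 2 := by rw [← Subgroup.orderOf_coe]; exact E.ord_z
  have hu : orderOf u = 2 := by rw [← Subgroup.orderOf_coe]; exact E.ord_u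
  have hzu : Commute z u := Subtype.ext E.zu.eq
  set V : Subgroup E.Q := centralizer ({z} : Set E.Q) ⊓ centralizer ({u} : Set E.Q) with hV
  have hV4 : Nat.card V = 4 := by
    refine Eq.trans ?_ E.card_zuQ
    exact Nat.card_congr
      { toFun := fun c => ⟨((c : E.Q) : P), ⟨⟨(c : E.Q).2, mem_centralizer_singleton_iff.2
          (congrArg Subtype.val (mem_centralizer_singleton_iff.1 c.2.1))⟩,
          mem_centralizer_singleton_iff.2 (congrArg Subtype.val (mem_centralizer_singleton_iff.1 c.2.2))⟩⟩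
        invFun := fun c => ⟨⟨(c : P), c.2.1.1⟩,
          mem_centralizer_singleton_iff.2 (Subtype.ext (mem_centralizer_singleton_iff.1 c.2.1.2)),
          mem_centralizer_singleton_iff.2 (Subtype.ext (mem_centralizer_singleton_iff.1 c.2.2))⟩
        left_inv := fun c => rfl
        right_inv := fun c => rfl }
  let S : Sylow 2 E.Q := Sylow.ofCard V (by
    rw [hV4, hG, Nat.factorization_mul (by norm_num) hg₀.pos.ne', Finsupp.add_apply,
      show (4 : ℕ) = 2 ^ 2 by norm_num, Nat.Prime.factorization_pow Nat.prime_two, Finsupp.single_eq_same,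
      Nat.factorization_eq_zero_of_not_dvd fun h => Nat.not_even_iff_odd.2 hg₀ (even_iff_two_dvd.2 h)])
  have hzV : z ∈ V := ⟨mem_centralizer_singleton_iff.2 rfl, mem_centralizer_singleton_iff.2 hzu.eq⟩
  have huV : u ∈ V := ⟨mem_centralizer_singleton_iff.2 hzu.eq.symm, mem_centralizer_singleton_iff.2 rfl⟩
  have hne : u ≠ z := fun h => E.u_ne (congrArg Subtype.val h)
  have hexp : ∀ x ∈ V, x * x = 1 := by
    intro x hx
    have h4 : orderOf x ∣ 2 ^ 2 := by
      have := Subgroup.orderOf_dvd_natCard V hx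
      rwa [hV4] at this
    obtain ⟨i, hi, hxi⟩ := (Nat.dvd_prime_pow Nat.prime_two).1 h4
    interval_cases i
    · rw [pow_zero, orderOf_eq_one_iff] at hxi; rw [hxi, one_mul]
    · rw [pow_one] at hxi; rw [← sq, ← hxi, pow_orderOf_eq_one]
    · exfalso
      have htop : zpowers x = V :=
        eq_of_le_of_card_ge (zpowers_le.2 hx) (by rw [Nat.card_zpowers, hxi, hV4]; norm_num)
      obtain ⟨i, hzi⟩ := mem_powers_iff_mem_zpowers.2 (htop.symm ▸ hzV : z ∈ zpowers x)
      obtain ⟨j, huj⟩ := mem_powers_iff_mem_zpowers.2 (htop.symm ▸ huV : u ∈ zpowers x)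
      exact hne (half_unique hu hz huj hzi)
  haveI hS : IsKleinFour (S : Subgroup E.Q) := by
    refine ⟨hV4, ?_⟩
    have hd2 : Monoid.exponent (S : Subgroup E.Q) ∣ 2 := Monoid.exponent_dvd_of_forall_pow_eq_one fun x =>
      Subtype.ext (by rw [SubgroupClass.coe_pow, sq]; exact hexp _ x.2)
    rcases (Nat.dvd_prime Nat.prime_two).1 hd2 with h | h
    · exfalso
      haveI := Monoid.exp_eq_one_iff.1 h
      have h1 : (⟨u, huV⟩ : (S : Subgroup E.Q)) = ⟨z, hzV⟩ := Subsingleton.elim _ _
      exact hne (congrArg Subtype.val h1)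
    · exact h
  have hone : ∀ s t : E.Q, orderOf s = 2 → orderOf t = 2 → IsConj s t := by
    have key : ∀ s : E.Q, orderOf s = 2 → IsConj z s := by
      intro s hs
      obtain ⟨c, hc⟩ := isConj_iff.1 (E.toPairCore.inner_conj s.2 (by rw [Subgroup.orderOf_coe]; exact hs))
      by_cases hcQ : c ∈ E.Q
      · exact isConj_iff.2 ⟨⟨c, hcQ⟩, Subtype.ext hc⟩
      · refine isConj_iff.2 ⟨⟨c * E.k, E.toPairCore.mul_out hcQ E.kQ⟩, Subtype.ext ?_⟩
        show c * E.k * E.z * (c * E.k)⁻¹ = _
        rw [show c * E.k * E.z * (c * E.k)⁻¹ = c * (E.k * E.z * E.k⁻¹) * c⁻¹ by group,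
          E.zk.symm.eq, mul_inv_cancel_right, hc]
    exact fun s t hs ht => (key s hs).symm.trans (key t ht)
  obtain ⟨M, hM⟩ := CfsgLib.CharApps.exists_pModular 2
  haveI := hM.2.1.isPrime
  haveI := Fintype.ofFinite E.Q
  obtain ⟨K⟩ := CfsgLib.Blocks.exists_kleinData hM S hS hone hz
  have hnc : ¬ ∃ N : Subgroup E.Q, N.Normal ∧ Nat.card N = 9 * (d * d + 18 * d) := by
    rintro ⟨N, hN, hNc⟩
    haveI := hN
    have hq : Nat.card (E.Q ⧸ N) = 2 ^ 2 := by
      have h := N.card_mul_index
      rw [index_eq_card, hNc, hG] at h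
      exact Nat.eq_of_mul_eq_mul_left hg₀.pos (by linarith)
    have hcomm := (IsPGroup.isMulCommutative_of_card_eq_prime_sq hq).is_comm.comm
    obtain ⟨c, hc⟩ := isConj_iff.1 (hone z u hz hu)
    have h1 : (QuotientGroup.mk u : E.Q ⧸ N) = QuotientGroup.mk z := by
      rw [← hc, QuotientGroup.mk_mul, QuotientGroup.mk_mul, hcomm (QuotientGroup.mk c), mul_assoc,
        ← QuotientGroup.mk_mul, mul_inv_cancel, QuotientGroup.mk_one, mul_one]
    have h2 : u * z ∈ N := by
      rw [← QuotientGroup.eq_one_iff, QuotientGroup.mk_mul, h1, ← QuotientGroup.mk_mul,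
        invol_mul_self hz, QuotientGroup.mk_one]
    have h3 : orderOf (u * z) = 2 := invol_iff.2 ⟨by
      rw [hzu.mul_mul_mul_comm, invol_mul_self hu, invol_mul_self hz, one_mul],
      fun h => hne (by rw [← invol_inv hz]; exact eq_inv_of_mul_eq_one_left h)⟩
    have := Subgroup.orderOf_dvd_natCard N h2
    rw [h3, hNc] at this
    exact Nat.not_even_iff_odd.2 hg₀ (even_iff_two_dvd.2 this)
  have hrel := K.rel 1 (by simp)
  simp only [CfsgLib.CharApps.deg_eq] at hrel
  have hrel' : 1 + (charDegree (K.X : E.Q → ℂ) : ℤ) + K.ε * charDegree (K.Y : E.Q → ℂ) -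
      charDegree (K.Z : E.Q → ℂ) = 0 := by exact_mod_cast hrel
  have hdist : ∀ χ : IrrCharacter E.Q, χ ≠ CfsgLib.Chars.principal E.Q →
      (χ : E.Q → ℂ) ≠ fun _ => 1 := fun χ h e =>
    h (Subtype.ext (by rw [e]; exact funext fun g => (CfsgLib.Chars.principal_apply g).symm))
  have hord := Cfsg.Agent.S4479.result M hM _ hg₀ hG hnc S z hzV hz K.X K.Y K.Z 1 K.ε (-1)
    (by
      rw [K.block]
      ext χ
      simp only [Set.mem_insert_iff, Set.mem_singleton_iff, Set.mem_ofPred_eq]
      refine or_congr_left ⟨fun h => h ▸ funext fun g => CfsgLib.Chars.principal_apply g, fun h => ?_⟩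
      by_contra hne'
      exact hdist χ hne' h)
    ⟨hdist _ K.X_ne, hdist _ K.Y_ne, hdist _ K.Z_ne, K.XY, K.XZ, K.YZ⟩
    ⟨Or.inl rfl, K.ε_cases, Or.inr rfl⟩
    ⟨by rw [K.valX, Int.cast_one], K.valY, by rw [K.valZ]; norm_num⟩
  have hcJ : Nat.card (centralizer ({z} : Set E.Q)) = 36 := by
    have h := E.toPairCore.card_zQ
    rw [Nat.card_congr (α := ↥(E.Q ⊓ centralizer ({E.z} : Set P))) (β := centralizer ({z} : Set E.Q))
      { toFun := fun c => ⟨⟨(c : P), c.2.1⟩, mem_centralizer_singleton_iff.2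
          (Subtype.ext (mem_centralizer_singleton_iff.1 c.2.2))⟩
        invFun := fun c => ⟨((c : E.Q) : P), (c : E.Q).2, mem_centralizer_singleton_iff.2
          (congrArg Subtype.val (mem_centralizer_singleton_iff.1 c.2))⟩
        left_inv := fun c => rfl
        right_inv := fun c => rfl }] at h
    omega
  have hcP : Nat.card (centralizer ((S : Subgroup E.Q) : Set E.Q)) = 4 := by
    have e : centralizer ((S : Subgroup E.Q) : Set E.Q) = V := by
      ext x
      constructor
      · intro hx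
        exact ⟨mem_centralizer_singleton_iff.2 (Subgroup.mem_centralizer_iff.1 hx z hzV).symm,
          mem_centralizer_singleton_iff.2 (Subgroup.mem_centralizer_iff.1 hx u huV).symm⟩
      · intro hx
        refine Subgroup.mem_centralizer_iff.2 fun y hy => ?_
        have hy' : y ∈ V := hy
        have h := hexp (y * x) (mul_mem hy' hx)
        calc y * x = (y * x)⁻¹ := eq_inv_of_mul_eq_one_left h
          _ = x * y := by
            rw [mul_inv_rev, inv_eq_of_mul_eq_one_right (hexp y hy'), inv_eq_of_mul_eq_one_right (hexp x hx)]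
    rw [e, hV4]
  rw [hcJ, hcP, hQ] at hord
  push_cast at hord
  obtain ⟨had, hbd⟩ : charDegree (K.X : E.Q → ℂ) ∣ 36 * (d * d + 18 * d) ∧
      charDegree (K.Y : E.Q → ℂ) ∣ 36 * (d * d + 18 * d) := by
    rw [← hQ]
    have key : ∀ χ : IrrCharacter E.Q, charDegree (χ : E.Q → ℂ) ∣ Nat.card E.Q := fun χ => by
      obtain ⟨n, -, h1, h2⟩ := CfsgLib.Chars.irr_degree_dvd_card χ.2
      rw [CfsgLib.CharApps.deg_eq, Nat.cast_inj] at h1
      exact h1 ▸ h2
    exact ⟨key K.X, key K.Y⟩
  have ha4 := K.modX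
  have hb4 := K.modY
  have hc4 := K.modZ
  have ha := CfsgLib.CharApps.deg_pos K.X
  have hb := CfsgLib.CharApps.deg_pos K.Y
  have hc := CfsgLib.CharApps.deg_pos K.Z
  generalize charDegree (K.X : E.Q → ℂ) = a at *
  generalize charDegree (K.Y : E.Q → ℂ) = b at *
  generalize charDegree (K.Z : E.Q → ℂ) = c at *
  have heq : ((d : ℤ) * d + 18 * d) * ((a + 1) * (b + K.ε) * (c - 1)) = 648 * ((a : ℤ) * b * c) := by
    have hne0 : ((a : ℚ) + 1) * (b + K.ε) * (c + -1) ≠ 0 := by
      intro h0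
      rw [h0, div_zero, mul_zero, zero_mul, zero_div] at hord
      have : (0 : ℚ) < 36 * ((d : ℚ) * d + 18 * d) := by
        have : 0 < d := hd.pos
        positivity
      linarith
    have key := div_mul_cancel₀ ((a : ℚ) * b * c) hne0
    have : (((d : ℤ) * d + 18 * d : ℤ) : ℚ) * ((a + 1) * (b + K.ε) * (c - 1) : ℤ) =
        ((648 * ((a : ℤ) * b * c) : ℤ) : ℚ) := by
      push_cast
      linear_combination (((a : ℚ) + 1) * (b + K.ε) * (c + -1) / 36) * hord + 648 * key
    exact_mod_cast this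
  have := arith hd K.ε_cases ha hb hc had hbd ha4 hb4 hc4 hrel' heq
  rcases this with rfl | rfl | rfl | rfl | rfl | rfl <;> rw [hQ] <;> simp [NineOrders]

end CfsgLib.AltTwoCent
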