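import Cfsg.Agent.Lib.Base.Cores
import Cfsg.Agent.S4501
import Mathlib

/-!
# A group without odd core with a fused four-group as Sylow 2-subgroup

If its order divides `4 · 5 · 3⁸` it has order at most `3 |C(z)|`, or is divisible by 60 and has
order at most `15 |C(z)|`.
-/

set_option autoImplicit false
set_option linter.style.haveILetI false
set_option linter.unusedSectionVars false

namespace CfsgLib.AltTwoCent.Nine

open Subgroup Cfsg

universe u

set_option maxHeartbeats 1000000 in
/-- at most three powers of two, three and five -/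
theorem quot_bound {W : Type u} [Group W] [Finite W] (hO : oddCore W = ⊥) {z u g : W}
    (hz : orderOf z = 2) (hu : orderOf u = 2) (hzu : Commute z u) (hne : u ≠ z)
    (gz : g * z * g⁻¹ = u) (gu : g * u * g⁻¹ = u * z)
    (hd : Nat.card W ∣ 4 * 5 * 3 ^ 8) :
    Nat.card W ≤ 3 * Nat.card (centralizer ({z} : Set W)) ∨
      (60 ∣ Nat.card W ∧ Nat.card W ≤ 15 * Nat.card (centralizer ({z} : Set W))) := by
  classical
  haveI : Fact (Nat.Prime 2) := ⟨Nat.prime_two⟩
  have hz1 : z * z = 1 := by rw [← pow_two, ← hz, pow_orderOf_eq_one]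
  have hu1 : u * u = 1 := by rw [← pow_two, ← hu, pow_orderOf_eq_one]
  have hzne : z ≠ 1 := fun h => by rw [h, orderOf_one] at hz; omega
  have hune : u ≠ 1 := fun h => by rw [h, orderOf_one] at hu; omega
  have huzne : u * z ≠ 1 := fun h => hne (by
    rw [← mul_one u, ← hz1, ← mul_assoc, h, one_mul])
  -- the four group
  let S : Subgroup W :=
    { carrier := {x | x = 1 ∨ x = z ∨ x = u ∨ x = u * z}
      one_mem' := Or.inl rfl
      inv_mem' := fun {x} hx => by
        rcases hx with rfl | rfl | rfl | rfl
        · exact Or.inl inv_one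
        · exact Or.inr (Or.inl (inv_eq_of_mul_eq_one_right hz1))
        · exact Or.inr (Or.inr (Or.inl (inv_eq_of_mul_eq_one_right hu1)))
        · refine Or.inr (Or.inr (Or.inr (inv_eq_of_mul_eq_one_right ?_)))
          rw [hzu.mul_mul_mul_comm, hu1, hz1, one_mul]
      mul_mem' := fun {x y} hx hy => by
        have e1 : z * u = u * z := hzu.eq
        rcases hx with rfl | rfl | rfl | rfl <;> rcases hy with rfl | rfl | rfl | rfl
        all_goals simp only [Set.mem_ofPred_eq, one_mul, mul_one, hz1, hu1, e1]
        all_goals first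
          | tauto
          | (left; rw [hzu.mul_mul_mul_comm, hu1, hz1, one_mul])
          | (right; right; left; rw [mul_assoc, hz1, mul_one])
          | (right; left; rw [← mul_assoc, hu1, one_mul])
          | (right; right; left; rw [← mul_assoc, e1, mul_assoc, hz1, mul_one])
          | (right; left; rw [mul_assoc, e1, ← mul_assoc, hu1, one_mul])
          | (right; left; rw [← mul_assoc, mul_assoc u z, e1, ← mul_assoc, hu1, one_mul]) }
  have hmemS : ∀ {x}, x ∈ S ↔ x = 1 ∨ x = z ∨ x = u ∨ x = u * z := Iff.rfl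
  have huz : u * z ≠ z ∧ u * z ≠ u :=
    ⟨fun h => hune (mul_eq_right.1 h), fun h => hzne (mul_eq_left.1 h)⟩
  have hS : Nat.card S = 4 := by
    rw [← SetLike.coe_sort_coe, Nat.card_coe_set_eq,
      show (S : Set W) = {1, z, u, u * z} from Set.ext fun x => hmemS,
      Set.ncard_insert_of_notMem (by simp [hzne.symm, hune.symm, huzne.symm]),
      Set.ncard_insert_of_notMem (by simp [hne.symm, huz.1.symm]),
      Set.ncard_pair huz.2.symm]
  have hgS : g ∈ normalizer (S : Set W) := by
    have hfwd : ∀ x ∈ S, g * x * g⁻¹ ∈ S := by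
      intro x hx
      rcases hmemS.1 hx with rfl | rfl | rfl | rfl
      · simp
      · exact gz ▸ hmemS.2 (by tauto)
      · exact gu ▸ hmemS.2 (by tauto)
      · rw [← conj_mul, gu, gz, mul_assoc, hzu.eq, ← mul_assoc, hu1, one_mul]
        exact hmemS.2 (by tauto)
    rw [mem_normalizer_iff]
    refine fun x => ⟨hfwd x, fun hx => ?_⟩
    have hb := (Finite.injective_iff_bijective.1
      (fun (a b : S) (e : (⟨g * a * g⁻¹, hfwd a a.2⟩ : S) = ⟨g * b * g⁻¹, hfwd b b.2⟩) =>
        Subtype.ext (mul_left_cancel (mul_right_cancel (congrArg Subtype.val e))))).2 ⟨_, hx⟩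
    obtain ⟨y, hy⟩ := hb
    rw [← mul_left_cancel (mul_right_cancel (congrArg Subtype.val hy))]
    exact y.2
  have hSab : S ≤ centralizer (S : Set W) := by
    intro x hx y hy
    have e1 : z * u = u * z := hzu.eq
    have c1 : Commute z (u * z) := hzu.mul_right (Commute.refl z)
    have c2 : Commute u (u * z) := (Commute.refl u).mul_right hzu.symm
    rcases hmemS.1 hx with rfl | rfl | rfl | rfl <;> rcases hmemS.1 hy with rfl | rfl | rfl | rfl <;>
      first
        | rfl
        | exact (mul_one _).trans (one_mul _).symm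
        | exact (one_mul _).trans (mul_one _).symm
        | exact hzu.eq
        | exact hzu.symm.eq
        | exact c1.eq
        | exact c1.symm.eq
        | exact c2.eq
        | exact c2.symm.eq
  have hS2 : IsPGroup 2 S := IsPGroup.of_card (n := 2) (by rw [hS]; norm_num)
  have hidx : ¬ 2 ∣ S.index := by
    intro h
    have h8 : 8 ∣ Nat.card W := by
      rw [← S.card_mul_index, hS]
      obtain ⟨m, hm⟩ := h
      exact ⟨m, by rw [hm]; ring⟩
    exact absurd (h8.trans hd) (by norm_num)
  let P : Sylow 2 W := hS2.toSylow hidx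
  have hP : (P : Subgroup W) = S := rfl
  -- the normaliser
  let Cz := centralizer ({z} : Set W)
  have hC : centralizer (S : Set W) ≤ Cz := fun x hx =>
    mem_centralizer_singleton_iff.2 (hx z (hmemS.2 (by tauto))).symm
  let N := normalizer (S : Set W)
  have hN3 : Nat.card N ≤ 3 * Nat.card Cz := by
    let f : N →* MulAut S := normalizerMonoidHom S
    have h6 : Nat.card f.range ≤ 6 := by
      refine (Subgroup.card_le_card_group _).trans ?_
      let T := {x : S // x ≠ 1}
      let ev : MulAut S → {p : T × T // p.1 ≠ p.2} := fun φ =>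
        ⟨(⟨φ ⟨z, hmemS.2 (by tauto)⟩, fun h => hzne (congrArg Subtype.val
            (φ.injective (h.trans (map_one φ).symm)))⟩,
          ⟨φ ⟨u, hmemS.2 (by tauto)⟩, fun h => hune (congrArg Subtype.val
            (φ.injective (h.trans (map_one φ).symm)))⟩),
          fun h => hne (congrArg Subtype.val (φ.injective (congrArg Subtype.val h))).symm⟩
      have hev : Function.Injective ev := by
        intro φ ψ e
        have e' : ((ev φ).1.1 : S) = (ev ψ).1.1 ∧ ((ev φ).1.2 : S) = (ev ψ).1.2 := by rw [e]; simp
        refine MulEquiv.ext fun x => ?_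
        rcases hmemS.1 x.2 with h | h | h | h
        · rw [show x = 1 from Subtype.ext h, map_one, map_one]
        · rw [show x = ⟨z, hmemS.2 (by tauto)⟩ from Subtype.ext h]; exact e'.1
        · rw [show x = ⟨u, hmemS.2 (by tauto)⟩ from Subtype.ext h]; exact e'.2
        · rw [show x = (⟨u, hmemS.2 (by tauto)⟩ : S) * ⟨z, hmemS.2 (by tauto)⟩ from Subtype.ext h,
            map_mul, map_mul]
          exact congrArg₂ _ e'.2 e'.1
      refine (Nat.card_le_card_of_injective ev hev).trans ?_
      haveI : Fintype T := Fintype.ofFinite T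
      have hT : Fintype.card T = 3 := by
        rw [← Nat.card_eq_fintype_card]
        have := Nat.card_congr (Equiv.sumCompl fun x : S => x = 1)
        rw [Nat.card_sum, hS, show Nat.card {x : S // x = 1} = 1 by simp] at this
        exact Nat.add_left_cancel (this.trans (by norm_num : (4 : ℕ) = 1 + 3))
      rw [Nat.card_eq_fintype_card, Fintype.card_subtype_compl fun p : T × T => p.1 = p.2,
        Fintype.card_prod, hT, Fintype.card_congr
          ({ toFun := fun p => p.1.1, invFun := fun a => ⟨(a, a), rfl⟩,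
             left_inv := fun p => Subtype.ext (Prod.ext rfl p.2), right_inv := fun _ => rfl } :
            {p : T × T // p.1 = p.2} ≃ T), hT]
    have hk : Nat.card f.ker ≤ Nat.card Cz := by
      rw [show f.ker = (centralizer (S : Set W)).subgroupOf N from normalizerMonoidHom_ker _]
      refine le_trans (le_of_eq (Nat.card_congr ?_)) (card_le_of_le hC)
      exact (subgroupOfEquivOfLe (centralizer_le_normalizer _)).toEquiv
    have hodd : Odd (Nat.card f.range) := by
      rw [← Subgroup.index_ker, ← Nat.not_even_iff_odd, even_iff_two_dvd]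
      intro h
      have h4 : 4 ∣ Nat.card f.ker := by
        rw [← hS]
        rw [← Nat.card_congr (subgroupOfEquivOfLe (le_normalizer : S ≤ N)).toEquiv]
        refine card_dvd_of_le ?_
        · rw [show f.ker = (centralizer (S : Set W)).subgroupOf N from normalizerMonoidHom_ker _]
          exact fun x hx => hSab hx
      have h8 : 8 ∣ Nat.card N := by
        rw [← f.ker.card_mul_index]
        exact Nat.mul_dvd_mul h4 h
      exact absurd ((h8.trans (card_subgroup_dvd_card N)).trans hd) (by norm_num)
    have h3 : Nat.card f.range ≤ 3 := by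
      by_contra hlt
      have h5 : Nat.card f.range = 5 := by
        obtain ⟨m, hm⟩ := hodd
        omega
      obtain ⟨φ, hφ⟩ := exists_prime_orderOf_dvd_card' (hp := ⟨by norm_num⟩) 5 (dvd_of_eq h5.symm)
      rw [← Subgroup.orderOf_coe] at hφ
      let T := {x : S // x ≠ 1}
      let r : MulAut S →* Equiv.Perm T :=
        { toFun := fun ψ => ψ.toEquiv.subtypeEquiv fun x => (map_ne_one_iff ψ ψ.injective).symm
          map_one' := rfl
          map_mul' := fun _ _ => rfl }
      have hr : Function.Injective r := by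
        intro a b e
        refine MulEquiv.ext fun x => ?_
        by_cases hx : x = 1
        · rw [hx, map_one, map_one]
        · exact congrArg Subtype.val (congrArg (fun q : Equiv.Perm T => q ⟨x, hx⟩) e)
      have hd5 : orderOf (r φ.1) ∣ Nat.card (Equiv.Perm T) := orderOf_dvd_natCard _
      have hT : Nat.card T = 3 := by
        have := Nat.card_congr (Equiv.sumCompl fun x : S => x = 1)
        rw [Nat.card_sum, hS, show Nat.card {x : S // x = 1} = 1 by simp] at this
        exact Nat.add_left_cancel (this.trans (by norm_num : (4 : ℕ) = 1 + 3))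
      rw [orderOf_injective r hr, hφ, Nat.card_perm, hT] at hd5
      exact absurd hd5 (by decide)
    calc Nat.card N = Nat.card f.ker * f.ker.index := f.ker.card_mul_index.symm
      _ = Nat.card f.ker * Nat.card f.range := by rw [Subgroup.index_ker]
      _ ≤ Nat.card Cz * 3 := Nat.mul_le_mul hk h3
      _ = 3 * Nat.card Cz := mul_comm _ _
  -- the fused involutions
  have hall : ∀ M : Subgroup W, M.Normal → M ⊓ S ≠ ⊥ → S ≤ M := by
    intro M hM hMS
    obtain ⟨x, ⟨hxM, hxS⟩, hx1⟩ := (bot_or_exists_ne_one _).resolve_left hMS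
    have hzM : z ∈ M := by
      rcases hmemS.1 hxS with rfl | rfl | rfl | rfl
      · exact absurd rfl hx1
      · exact hxM
      · have := hM.conj_mem _ hxM g⁻¹
        rwa [← gz, show g⁻¹ * (g * z * g⁻¹) * g⁻¹⁻¹ = z by group] at this
      · have h1 := hM.conj_mem _ hxM g⁻¹
        rw [← gu, show g⁻¹ * (g * u * g⁻¹) * g⁻¹⁻¹ = u by group] at h1
        have h2 := hM.conj_mem _ h1 g⁻¹
        rwa [← gz, show g⁻¹ * (g * z * g⁻¹) * g⁻¹⁻¹ = z by group] at h2
    have huM : u ∈ M := gz ▸ hM.conj_mem z hzM g
    intro y hy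
    rcases hmemS.1 hy with rfl | rfl | rfl | rfl
    · exact M.one_mem
    · exact hzM
    · exact huM
    · exact M.mul_mem huM hzM
  by_cases hA : ∃ M : Subgroup W, M.Normal ∧ M ≠ ⊥ ∧ IsPGroup 2 M
  · obtain ⟨M, hM, hM1, hM2⟩ := hA
    left
    have hle : M ≤ S := hP ▸ hM2.le_sylow_of_normal P
    have hMS : M = S := le_antisymm hle (hall M hM (by rwa [inf_eq_left.2 hle]))
    subst hMS
    have : N = ⊤ := normalizer_eq_top_iff.2 hM
    rw [← card_top (G := W), ← this]
    exact hN3
  right
  push Not at hA
  -- a minimal normal subgroup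
  haveI : Nontrivial W := ⟨⟨z, 1, hzne⟩⟩
  obtain ⟨M, ⟨hMn, hM1⟩, hmin⟩ :=
    ((Set.toFinite {M : Subgroup W | M.Normal ∧ M ≠ ⊥}).exists_minimal
      ⟨⊤, inferInstance, top_ne_bot⟩)
  have hmin' : ∀ L : Subgroup W, L.Normal → L ≠ ⊥ → L ≤ M → L = M := fun L hL hL1 hle =>
    le_antisymm hle (hmin ⟨hL, hL1⟩ hle)
  haveI := hMn
  haveI hPM : IsPGroup 2 ↥(S.subgroupOf M) := hS2.comap_subtype
  have hSM : S ≤ M := by
    refine hall M hMn fun hb => ?_
    have hoddM : ¬ 2 ∣ Nat.card M := by
      intro h
      obtain ⟨x, hx⟩ := exists_prime_orderOf_dvd_card' 2 h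
      rw [← Subgroup.orderOf_coe] at hx
      obtain ⟨Q, hQ⟩ := (IsPGroup.of_card (n := 1) (by rw [Nat.card_zpowers, hx]; rfl) :
        IsPGroup 2 (zpowers (x : W))).exists_le_sylow
      obtain ⟨c, hc⟩ := MulAction.exists_smul_eq W Q P
      have hxS : c * x * c⁻¹ ∈ M ⊓ S := by
        refine ⟨hMn.conj_mem x x.2 c, ?_⟩
        rw [← hP, ← hc, Sylow.coe_subgroup_smul]
        exact ⟨x, hQ (mem_zpowers _), rfl⟩
      rw [hb, mem_bot, conj_eq_one_iff] at hxS
      rw [hxS, orderOf_one] at hx
      omega
    exact hM1 (le_bot_iff.1 (hO ▸ CfsgLib.Base.le_pPrimeCore_of_not_dvd hoddM))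
  let PM : Sylow 2 M := P.subtype (hP ▸ hSM)
  have hPM' : (PM : Subgroup M) = S.subgroupOf M := rfl
  have hPMc : Nat.card PM = 4 := by
    rw [← hS]
    exact Nat.card_congr (subgroupOfEquivOfLe hSM).toEquiv
  have hMc : ¬ ∀ x y : M, x * y = y * x := by
    intro hab
    haveI : (PM : Subgroup M).Normal := ⟨fun n hn x => by
      rwa [hab x n, mul_inv_cancel_right]⟩
    haveI : (PM : Subgroup M).Characteristic := Sylow.characteristic_of_normal _ inferInstance
    haveI : ((PM : Subgroup M).map M.subtype).Normal := inferInstance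
    refine hA ((PM : Subgroup M).map M.subtype) inferInstance ?_ (PM.2.map _)
    intro hb
    have h := card_map_of_injective (K := (PM : Subgroup M)) (f := M.subtype) M.subtype_injective
    rw [hb, card_bot] at h
    rw [← h] at hPMc
    omega
  have hOM : oddCore M = ⊥ := by
    have h1 : (oddCore M).map M.subtype ≤ oddCore W :=
      CfsgLib.Base.le_pPrimeCore (CfsgLib.Base.coprime_card_map_pPrimeCore M)
    rw [hO, le_bot_iff, map_eq_bot_iff_of_injective _ M.subtype_injective] at h1
    exact h1
  haveI : Nontrivial M := by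
    rw [Subgroup.nontrivial_iff_ne_bot]; exact hM1
  haveI hsimple : IsSimpleGroup M := by
    refine ⟨fun L hL => ?_⟩
    by_contra hL'
    push Not at hL'
    obtain ⟨hL1, hL2⟩ := hL'
    haveI := hL
    have hLS : L ⊓ (PM : Subgroup M) ≠ ⊥ := by
      intro hb
      refine hL1 (le_bot_iff.1 (hOM ▸ CfsgLib.Base.le_pPrimeCore_of_not_dvd fun h => ?_))
      obtain ⟨x, hx⟩ := exists_prime_orderOf_dvd_card' 2 h
      rw [← Subgroup.orderOf_coe] at hx
      obtain ⟨Q, hQ⟩ := (IsPGroup.of_card (n := 1) (by rw [Nat.card_zpowers, hx]; rfl) :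
        IsPGroup 2 (zpowers (x : M))).exists_le_sylow
      obtain ⟨c, hc⟩ := MulAction.exists_smul_eq M Q PM
      have hxS : c * x * c⁻¹ ∈ L ⊓ (PM : Subgroup M) := by
        refine ⟨hL.conj_mem x x.2 c, ?_⟩
        rw [← hc, Sylow.coe_subgroup_smul]
        exact ⟨x, hQ (mem_zpowers _), rfl⟩
      rw [hb, mem_bot, conj_eq_one_iff] at hxS
      rw [hxS, orderOf_one] at hx
      omega
    have h24 : Nat.card ↥(L ⊓ (PM : Subgroup M)) = 2 ∨ Nat.card ↥(L ⊓ (PM : Subgroup M)) = 4 := by
      have hdd := card_dvd_of_le (inf_le_right : L ⊓ (PM : Subgroup M) ≤ PM)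
      rw [hPMc] at hdd
      have := Nat.le_of_dvd (by norm_num) hdd
      have h1 : Nat.card ↥(L ⊓ (PM : Subgroup M)) ≠ 1 := fun e => hLS (card_eq_one.1 e)
      interval_cases (Nat.card ↥(L ⊓ (PM : Subgroup M))) <;> omega
    rcases h24 with h2 | h4
    · -- a Sylow subgroup of order two has a normal complement
      have hL2' : ¬ 4 ∣ Nat.card L := by
        intro h
        obtain ⟨Q⟩ := (inferInstance : Nonempty (Sylow 2 L))
        have hQ4 : 4 ∣ Nat.card Q := by
          have := Q.pow_dvd_card_of_pow_dvd_card (n := 2) h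
          simpa using this
        obtain ⟨R, hR⟩ := (Q.2.map L.subtype).exists_le_sylow
        obtain ⟨c, hc⟩ := MulAction.exists_smul_eq M R PM
        have hle : ((Q : Subgroup L).map L.subtype).map (MulAut.conj c).toMonoidHom ≤
            L ⊓ (PM : Subgroup M) := by
          rintro _ ⟨y, hy, rfl⟩
          refine ⟨?_, ?_⟩
          · obtain ⟨q, -, rfl⟩ := hy
            exact hL.conj_mem q q.2 c
          · rw [← hc, Sylow.coe_subgroup_smul]
            exact ⟨y, hR hy, rfl⟩
        have := card_dvd_of_le hle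
        rw [card_map_of_injective (MulAut.conj c).injective,
          card_map_of_injective L.subtype_injective, h2] at this
        exact absurd (hQ4.trans this) (by norm_num)
      obtain ⟨Q⟩ := (inferInstance : Nonempty (Sylow 2 L))
      have h2L : 2 ∣ Nat.card L := h2 ▸ card_dvd_of_le inf_le_left
      have hQ2 : Nat.card Q = 2 := by
        obtain ⟨n, hn⟩ := IsPGroup.iff_card.1 Q.2
        have h1 := Q.pow_dvd_card_of_pow_dvd_card (n := 1) (by simpa using h2L)
        rw [hn] at h1 ⊢
        rcases n with _ | _ | n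
        · norm_num at h1
        · norm_num
        · exfalso
          refine hL2' (dvd_trans ?_ (hn ▸ (Q : Subgroup L).card_subgroup_dvd_card))
          exact dvd_trans (by norm_num) (pow_dvd_pow 2 (show 2 ≤ n + 2 by omega))
      have hQc : IsCyclic Q := isCyclic_of_prime_card hQ2
      have hmf : (Nat.card L).minFac = 2 := (Nat.minFac_eq_two_iff _).2 h2L
      have hcompl := IsCyclic.isComplement' hmf hQc
      set K := (MonoidHom.transferSylow Q (hQc.normalizer_le_centralizer hmf)).ker
      have hKodd : ¬ 2 ∣ Nat.card K := fun h => hL2' (by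
        rw [← hcompl.card_mul_card, hQ2]
        exact Nat.mul_dvd_mul h (dvd_refl 2))
      have hK1 : K = ⊥ := by
        have h1 : K ≤ oddCore L := CfsgLib.Base.le_pPrimeCore_of_not_dvd hKodd
        have h2' : (oddCore L).map L.subtype ≤ oddCore M :=
          CfsgLib.Base.le_pPrimeCore (CfsgLib.Base.coprime_card_map_pPrimeCore L)
        rw [hOM, le_bot_iff, map_eq_bot_iff_of_injective _ L.subtype_injective] at h2'
        exact le_bot_iff.1 (h1.trans h2'.le)
      have hLc : Nat.card L = 2 := by
        rw [← hcompl.card_mul_card, hK1, card_bot, one_mul, hQ2]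
      obtain ⟨w, hw, hw1⟩ := (bot_or_exists_ne_one L).resolve_left hL1
      have hLw : ∀ y ∈ L, y = 1 ∨ y = w := fun y hy => by
        by_contra hc
        push Not at hc
        have h3 : Nat.card L ≥ 3 := by
          have h := Set.ncard_le_ncard (show ({1, w, y} : Set M) ⊆ (L : Set M) by
            rintro q (rfl | rfl | rfl)
            exacts [L.one_mem, hw, hy]) (Set.toFinite _)
          rw [Set.ncard_insert_of_notMem (by simp [hw1.symm, hc.1.symm]),
            Set.ncard_pair hc.2.symm, ← Nat.card_coe_set_eq] at h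
          exact h
        omega
      have hwc : w ∈ center M := mem_center_iff.2 fun y => by
        rcases hLw _ (hL.conj_mem w hw y) with h | h
        · exact absurd (conj_eq_one_iff.1 h) hw1
        · exact mul_inv_eq_iff_eq_mul.1 h
      have htop : (center M).map M.subtype = M := by
        refine hmin' _ inferInstance ?_ (map_subtype_le _)
        rw [Ne, map_eq_bot_iff_of_injective _ M.subtype_injective]
        exact fun h => hw1 (by simpa [h] using hwc)
      refine hMc fun x y => ?_
      have hy' : (y : W) ∈ (center M).map M.subtype := htop.symm ▸ y.2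
      obtain ⟨y', hy', e⟩ := hy'
      rw [← show y' = y from Subtype.ext e]
      exact mem_center_iff.1 hy' x
    · -- `L` contains every two-element of `M`
      have hSL : (PM : Subgroup M) ≤ L := by
        have := eq_of_le_of_card_ge (inf_le_right : L ⊓ (PM : Subgroup M) ≤ PM) (by rw [h4, hPMc])
        exact inf_eq_right.1 this
      have hle : normalClosure (S : Set W) ≤ L.map M.subtype := by
        rw [normalClosure, closure_le]
        intro x hx
        obtain ⟨s, hs, hsx⟩ := Group.mem_conjugatesOfSet_iff.1 hx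
        obtain ⟨c, rfl⟩ := isConj_iff.1 hsx
        have hxM : c * s * c⁻¹ ∈ M := hMn.conj_mem s (hSM hs) c
        have hp : IsPGroup 2 ↥((S.map (MulAut.conj c).toMonoidHom).subgroupOf M) :=
          (IsPGroup.map hS2 _).comap_subtype
        obtain ⟨R', hR'⟩ := hp.exists_le_sylow
        have hR' : (⟨c * s * c⁻¹, hxM⟩ : M) ∈ R' := hR' ⟨s, hs, rfl⟩
        obtain ⟨m, hm⟩ := MulAction.exists_smul_eq M PM R'
        rw [← hm] at hR'
        obtain ⟨y, hy, e⟩ := hR'
        refine ⟨⟨c * s * c⁻¹, hxM⟩, ?_, rfl⟩
        show (⟨c * s * c⁻¹, hxM⟩ : M) ∈ L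
        rw [← e]
        exact hL.conj_mem y (hSL hy) m
      have htop := hmin' (normalClosure (S : Set W)) inferInstance
        (fun h => hzne (by
          have := subset_normalClosure (s := (S : Set W)) (hmemS.2 (Or.inr (Or.inl rfl)) : z ∈ S)
          rwa [h, SetLike.mem_coe, mem_bot] at this))
        (normalClosure_le_normal hSM)
      rw [htop] at hle
      refine hL2 (eq_top_iff.2 fun x _ => ?_)
      obtain ⟨y, hy, e⟩ := hle x.2
      rwa [← show y = x from Subtype.ext e]
  -- the order of `M`
  have hM4 : 4 ∣ Nat.card M := hPMc ▸ card_subgroup_dvd_card _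
  have hM60 : Nat.card M = 60 := by
    obtain ⟨m, hm⟩ := hM4
    have hm' : m ∣ 5 * 3 ^ 8 := by
      have h := (card_subgroup_dvd_card M).trans hd
      rw [hm, mul_assoc] at h
      exact Nat.dvd_of_mul_dvd_mul_left (by norm_num) h
    obtain ⟨a, ha, b, hb⟩ : ∃ a, a ≤ 1 ∧ ∃ b, m = 5 ^ a * 3 ^ b := by
      by_cases h5 : 5 ∣ m
      · obtain ⟨r, rfl⟩ := h5
        obtain ⟨b, -, hb⟩ := (Nat.dvd_prime_pow (by norm_num : Nat.Prime 3)).1
          (Nat.dvd_of_mul_dvd_mul_left (by norm_num) hm')
        exact ⟨1, le_refl _, b, by rw [hb, pow_one]⟩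
      · obtain ⟨b, -, hb⟩ := (Nat.dvd_prime_pow (by norm_num : Nat.Prime 3)).1
          (((Nat.Prime.coprime_iff_not_dvd (by norm_num)).2 h5).symm.dvd_of_dvd_mul_left hm')
        exact ⟨0, Nat.zero_le _, b, by rw [hb, pow_zero, one_mul]⟩
    obtain ⟨x, y, hxy⟩ : ∃ x y : M, x * y ≠ y * x := by
      by_contra h
      push Not at h
      exact hMc h
    obtain ⟨e⟩ := (Cfsg.Agent.S4501.result ⟨x, y, hxy⟩ 5 3 a b (by norm_num) (by norm_num)
      (by norm_num) (by omega)).1 (by rw [hm, hb]; ring)
    rw [Nat.card_congr e.toEquiv, nat_card_alternatingGroup]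
    simp only [Nat.card_fin]
    rfl
  refine ⟨hM60 ▸ card_subgroup_dvd_card M, ?_⟩
  -- Frattini argument
  have h12 : 12 ≤ Nat.card ↥(N ⊓ M) := by
    have h4 : Nat.card S ∣ Nat.card ↥(N ⊓ M) := card_dvd_of_le (le_inf le_normalizer hSM)
    have hd60 : Nat.card ↥(N ⊓ M) ∣ 60 := hM60 ▸ card_dvd_of_le inf_le_right
    have hne4 : Nat.card ↥(N ⊓ M) ≠ 4 := by
      intro h
      have hEq : S = N ⊓ M := eq_of_le_of_card_ge (le_inf le_normalizer hSM) (by rw [h, hS])
      have hnc : normalizer ((PM : Subgroup M) : Set M) ≤ centralizer ((PM : Subgroup M) : Set M) := by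
        intro x hx
        have hxS : (x : W) ∈ S := by
          rw [hEq]
          refine ⟨mem_normalizer_iff.2 fun y => ?_, x.2⟩
          by_cases hyM : y ∈ M
          · exact mem_normalizer_iff.1 hx ⟨y, hyM⟩
          · exact ⟨fun h => absurd (hSM h) hyM, fun h => absurd (by
              have := hMn.conj_mem _ (hSM h) (x : W)⁻¹
              rwa [show (x : W)⁻¹ * (x * y * (x : W)⁻¹) * (x : W)⁻¹⁻¹ = y by group] at this) hyM⟩
        intro y hy
        exact Subtype.ext (hSab hxS (y : W) hy)
      have hc := MonoidHom.ker_transferSylow_isComplement' PM hnc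
      have hcard := hc.card_mul_card
      rw [hPMc, hM60] at hcard
      rcases hsimple.eq_bot_or_eq_top_of_normal _
        (MonoidHom.normal_ker (MonoidHom.transferSylow PM hnc)) with h' | h' <;>
        rw [h'] at hcard <;> simp [hM60] at hcard
    rw [hS] at h4
    have h8 : ¬ 8 ∣ Nat.card ↥(N ⊓ M) := fun h => absurd (h.trans hd60) (by norm_num)
    have hpos : 0 < Nat.card ↥(N ⊓ M) := Nat.card_pos
    have := Nat.le_of_dvd hpos h4
    by_contra hlt
    push Not at hlt
    interval_cases (Nat.card ↥(N ⊓ M)) <;> omega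
  have hsup : N ⊔ M = ⊤ := Sylow.normalizer_sup_eq_top' P hSM
  have h1 : M.relIndex N = M.index := by
    rw [← relIndex_sup_right, hsup, relIndex_top_right]
  have h2 := (M.subgroupOf N).card_mul_index
  rw [← inf_subgroupOf_left, Nat.card_congr (subgroupOfEquivOfLe (inf_le_left : N ⊓ M ≤ N)).toEquiv,
    inf_subgroupOf_left] at h2
  have h3 := M.card_mul_index
  rw [hM60] at h3
  have h5 : 12 * M.index ≤ 3 * Nat.card Cz := by
    refine le_trans ?_ hN3
    calc 12 * M.index ≤ Nat.card ↥(N ⊓ M) * M.index := Nat.mul_le_mul_right _ h12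
      _ = Nat.card ↥(N ⊓ M) * M.relIndex N := by rw [h1]
      _ = Nat.card N := h2
  show Nat.card W ≤ 15 * Nat.card Cz
  omega

end CfsgLib.AltTwoCent.Nine
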