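import Cfsg.Agent.Lib.AltTwoCent.NineCore
import Cfsg.Agent.Lib.AltTwoCent.NineQuot
import Cfsg.Agent.Lib.AltTwoCent.FourFixed

/-!
# The odd core of the centraliser of an element of type `3^2`

It has order `3^7`, meets the centraliser of `z` in the preimage of the group generated by three
commuting three cycles, and one of these is central in it.
-/

set_option autoImplicit false

namespace CfsgLib.AltTwoCent.Nine

open Subgroup Equiv Cfsg CfsgLib.Base CfsgLib.AltTwoCent.FourFixed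

universe u

variable {G : Type u} [Group G] (D : Cov 9 G)

/-- conjugation by an element normalising `X` -/
theorem card_inf_conj (X : Subgroup G) {g : G} (hg : g ∈ normalizer (X : Set G)) (v : G) :
    Nat.card ↥(X ⊓ centralizer ({g * v * g⁻¹} : Set G)) =
      Nat.card ↥(X ⊓ centralizer ({v} : Set G)) := by
  symm
  have key : ∀ x : G, x ∈ centralizer ({v} : Set G) ↔
      g * x * g⁻¹ ∈ centralizer ({g * v * g⁻¹} : Set G) := fun x => by
    rw [mem_centralizer_singleton_iff, mem_centralizer_singleton_iff,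
      show g * x * g⁻¹ * (g * v * g⁻¹) = g * (x * v) * g⁻¹ by group,
      show g * v * g⁻¹ * (g * x * g⁻¹) = g * (v * x) * g⁻¹ by group]
    exact ⟨fun h => by rw [h], fun h => mul_left_cancel (mul_right_cancel h)⟩
  exact Nat.card_congr
    { toFun := fun x => ⟨g * x * g⁻¹, (mem_normalizer_iff.1 hg _).1 x.2.1, (key _).1 x.2.2⟩
      invFun := fun x => ⟨g⁻¹ * x * g,
        (mem_normalizer_iff.1 hg _).2 (by
          rw [show g * (g⁻¹ * (x : G) * g) * g⁻¹ = x by group]; exact x.2.1),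
        (key _).2 (by rw [show g * (g⁻¹ * (x : G) * g) * g⁻¹ = x by group]; exact x.2.2)⟩
      left_inv := fun x => Subtype.ext (by show g⁻¹ * (g * (x : G) * g⁻¹) * g = x; group)
      right_inv := fun x => Subtype.ext (by show g * (g⁻¹ * (x : G) * g) * g⁻¹ = x; group) }

/-- elements normalising the intersection with a centraliser -/
theorem mem_normalizer_inf_centralizer [Finite G] {X : Subgroup G} {n v : G}
    (hn : n ∈ normalizer (X : Set G)) (hc : Commute n v) :
    n ∈ normalizer ((X ⊓ centralizer ({v} : Set G) : Subgroup G) : Set G) := by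
  refine mem_normalizer_iff.2 fun x => ?_
  simp only [mem_inf]
  refine and_congr (mem_normalizer_iff.1 hn x) ?_
  rw [mem_centralizer_singleton_iff, mem_centralizer_singleton_iff]
  constructor
  · intro h
    calc n * x * n⁻¹ * v = n * x * (n⁻¹ * v) := by group
      _ = n * x * (v * n⁻¹) := by rw [hc.inv_left.eq]
      _ = n * (x * v) * n⁻¹ := by group
      _ = n * (v * x) * n⁻¹ := by rw [h]
      _ = n * v * x * n⁻¹ := by group
      _ = v * n * x * n⁻¹ := by rw [hc.eq]
      _ = _ := by group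
  · intro h
    refine mul_left_cancel (a := n) (mul_right_cancel (b := n⁻¹) ?_)
    calc n * (x * v) * n⁻¹ = n * x * (v * n⁻¹) := by group
      _ = n * x * (n⁻¹ * v) := by rw [hc.inv_left.eq]
      _ = n * x * n⁻¹ * v := by group
      _ = v * (n * x * n⁻¹) := h
      _ = v * n * x * n⁻¹ := by group
      _ = n * v * x * n⁻¹ := by rw [hc.eq]
      _ = _ := by group

/-- the odd core of the centraliser -/
def oCa (a : G) : Subgroup G :=
  (oddCore (centralizer ({a} : Set G))).map (centralizer ({a} : Set G)).subtype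

theorem oCa_le (a : G) : oCa a ≤ centralizer ({a} : Set G) := map_subtype_le _

theorem odd_oCa [Finite G] (a : G) : Odd (Nat.card (oCa a)) := by
  rw [oCa, card_map_subtype]
  exact odd_card_oddCore _

theorem le_normalizer_oCa (a : G) :
    normalizer (centralizer ({a} : Set G) : Set G) ≤ normalizer (oCa a : Set G) :=
  normalizer_le_normalizer_map_subtype _ _

theorem centralizer_le_normalizer_oCa (a : G) :
    centralizer ({a} : Set G) ≤ normalizer (oCa a : Set G) :=
  Subgroup.le_normalizer.trans (le_normalizer_oCa a)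

theorem mem_oCa [Finite G] {a : G} (ha : Odd (orderOf a)) : a ∈ oCa a := by
  have hmem : a ∈ centralizer ({a} : Set G) := mem_centralizer_singleton_iff.2 rfl
  set a' : centralizer ({a} : Set G) := ⟨a, hmem⟩
  haveI : (zpowers a').Normal := ⟨fun x hx y => by
    obtain ⟨i, rfl⟩ := mem_zpowers_iff.1 hx
    have hc : Commute y a' := Subtype.ext (mem_centralizer_singleton_iff.1 y.2)
    rw [(hc.zpow_right i).eq, mul_inv_cancel_right]
    exact zpow_mem_zpowers _ _⟩
  refine ⟨a', le_oddCore (N := zpowers a') ?_ (mem_zpowers a'), rfl⟩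
  rw [Nat.card_zpowers]
  exact (Subgroup.orderOf_mk a hmem).symm ▸ ha

variable {D} (F : Fused D)

/-- the lift `a` of `pA` -/
def liftA : ↥(hh D) := ⟨F.a, F.mem_a⟩

theorem pm_liftA : pm D (liftA F) = pA := by
  refine Equiv.ext fun i => Fin.ext ?_
  have key : ∀ i : Fin 9, (((pA i) : Fin 9) : ℕ) =
      if (i : ℕ) < 6 then 3 * ((i : ℕ) / 3) + ((i : ℕ) + 1) % 3 else (i : ℕ) := by decide +kernel
  rw [key i]
  exact F.π_a i

theorem odd_a : Odd (orderOf F.a) := by rw [F.ord_a]; decide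

theorem card_hca [Finite G] :
    Nat.card ↥(hh D ⊓ centralizer ({F.a} : Set G)) = 108 := by
  have h := card_cent D (t := liftA F) (odd_a F) (τ := swap 6 7) (by decide +kernel)
    (by rw [pm_liftA]; exact swap_comm.1)
  rw [pm_liftA, card_cent_pA] at h
  exact h

theorem z_ca : D.z ∈ centralizer ({F.a} : Set G) :=
  mem_centralizer_singleton_iff.2 (z_comm D F.mem_a).eq

theorem u_ca : F.u ∈ centralizer ({F.a} : Set G) :=
  mem_centralizer_singleton_iff.2 F.au.eq.symm

theorem g_ca : F.g ∈ centralizer ({F.a} : Set G) := mem_centralizer_singleton_iff.2 F.ga.eq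

theorem u_sq : F.u * F.u = 1 := by rw [← pow_two, ← F.ord_u, pow_orderOf_eq_one]

theorem zu_comm : Commute D.z F.u := z_comm D F.mem_u

theorem zpowers_le_oCa [Finite G] : zpowers F.a ≤ oCa F.a := zpowers_le.2 (mem_oCa (odd_a F))

theorem zpowers_le_fixed [Finite G] :
    zpowers F.a ≤ oCa F.a ⊓ centralizer ({D.z} : Set G) ⊓ centralizer ({F.u} : Set G) :=
  le_inf (le_inf (zpowers_le_oCa F) (zpowers_le.2 F.mem_a))
    (zpowers_le.2 (mem_centralizer_singleton_iff.2 F.au.eq))

/-- the order of the core and of its fixed points -/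
theorem core_orders [Finite G] (hD : StmtNineData.{u}) (hO : StmtNineOrder.{u}) :
    Nat.card (oCa F.a) = 2187 ∧
      Nat.card ↥(oCa F.a ⊓ centralizer ({D.z} : Set G)) = 27 ∧
      Nat.card ↥(oCa F.a ⊓ centralizer ({D.z} : Set G) ⊓ centralizer ({F.u} : Set G)) = 3 := by
  classical
  set Y := centralizer ({F.a} : Set G) with hY
  set O := oCa F.a with hOdef
  have hYO : Y ≤ normalizer (O : Set G) := centralizer_le_normalizer_oCa F.a
  -- the four group formula
  have h4 := card_four O (odd_oCa F.a) (z_sq D) (u_sq F) (zu_comm F) (hYO (z_ca F))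
    (hYO (u_ca F))
  have hu : Nat.card ↥(O ⊓ centralizer ({F.u} : Set G)) =
      Nat.card ↥(O ⊓ centralizer ({D.z} : Set G)) := by
    conv_lhs => rw [← F.gz]
    exact card_inf_conj O (hYO (g_ca F)) _
  have huz : Nat.card ↥(O ⊓ centralizer ({F.u * D.z} : Set G)) =
      Nat.card ↥(O ⊓ centralizer ({D.z} : Set G)) := by
    rw [← hu]
    conv_lhs => rw [← F.gu]
    exact card_inf_conj O (hYO (g_ca F)) _
  rw [hu, huz] at h4
  have hf : 3 ≤ Nat.card ↥(O ⊓ centralizer ({D.z} : Set G) ⊓ centralizer ({F.u} : Set G)) := by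
    have := Subgroup.card_le_of_le (zpowers_le_fixed F)
    rwa [Nat.card_zpowers, F.ord_a] at this
  set e := Nat.card ↥(O ⊓ centralizer ({D.z} : Set G)) with he
  set f := Nat.card ↥(O ⊓ centralizer ({D.z} : Set G) ⊓ centralizer ({F.u} : Set G)) with hf'
  -- the quotient
  set O' : Subgroup Y := oddCore Y with hO'
  haveI : O'.Normal := inferInstance
  have hmemO : ∀ y : Y, y ∈ O' ↔ (y : G) ∈ O := fun y => by
    rw [hOdef, oCa, ← hO']
    exact (mem_map_iff_mem (subtype_injective _)).symm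
  let q := QuotientGroup.mk' O'
  have hq : ∀ y : Y, q y = 1 ↔ (y : G) ∈ O := fun y =>
    (QuotientGroup.eq_one_iff y).trans (hmemO y)
  have hcardW : Nat.card Y = Nat.card (Y ⧸ O') * Nat.card O := by
    rw [hOdef, oCa, card_map_subtype]
    exact Subgroup.card_eq_card_quotient_mul_card_subgroup _
  set z' : Y := ⟨D.z, z_ca F⟩
  set u' : Y := ⟨F.u, u_ca F⟩
  set g' : Y := ⟨F.g, g_ca F⟩
  have hnotmem : ∀ w : Y, (w : G) * w = 1 → (w : G) ≠ 1 → q w ≠ 1 := fun w h2 h1 h => by
    have ho : orderOf (w : G) = 2 := orderOf_eq_prime (by rw [pow_two]; exact h2) h1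
    have := O.orderOf_dvd_natCard ((hq w).1 h)
    rw [ho] at this
    obtain ⟨k, hk⟩ := odd_oCa F.a
    rw [← hOdef] at hk
    omega
  have hordz : orderOf (q z') = 2 := orderOf_eq_prime
    (by rw [← map_pow, show z' ^ 2 = 1 from Subtype.ext (by
          rw [pow_two]; exact z_sq D), map_one]) (hnotmem z' (z_sq D) (z_ne D))
  have hu1 : F.u ≠ 1 := fun h => by simpa [h] using F.ord_u
  have hordu : orderOf (q u') = 2 := orderOf_eq_prime
    (by rw [← map_pow, show u' ^ 2 = 1 from Subtype.ext (by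
          rw [pow_two]; exact u_sq F), map_one]) (hnotmem u' (u_sq F) hu1)
  have hne : q u' ≠ q z' := fun h => by
    have huz1 : (F.u * D.z) * (F.u * D.z) = 1 := by
      calc (F.u * D.z) * (F.u * D.z) = F.u * (D.z * F.u) * D.z := by group
        _ = F.u * (F.u * D.z) * D.z := by rw [(zu_comm F).eq]
        _ = (F.u * F.u) * (D.z * D.z) := by group
        _ = 1 := by rw [u_sq, z_sq, one_mul]
    have huz2 : F.u * D.z ≠ 1 := fun e1 => by
      have h1 : F.u = D.z := by rw [eq_inv_of_mul_eq_one_left e1, inv_eq_of_mul_eq_one_right (z_sq D)]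
      have h2 := F.gu
      rw [h1, z_sq] at h2
      exact z_ne D (conj_eq_one_iff.1 h2)
    refine hnotmem (u' * z') huz1 huz2 ?_
    rw [map_mul, h, ← map_mul, show z' * z' = 1 from Subtype.ext (z_sq D), map_one]
  have hbound := quot_bound (pPrimeCore_quotient_pPrimeCore 2 Y) (z := q z') (u := q u')
    (g := q g') hordz hordu
    (((show Commute z' u' from Subtype.ext (zu_comm F).eq).map q)) hne
    (by rw [← map_inv, ← map_mul, ← map_mul]; exact congrArg q (Subtype.ext F.gz))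
    (by rw [← map_inv, ← map_mul, ← map_mul, ← map_mul]; exact congrArg q (Subtype.ext F.gu))
    (by
      refine (Dvd.intro _ hcardW.symm).trans ?_
      rcases card_ca D F hD hO with h | h <;> rw [h] <;> norm_num)
  -- the centraliser of `z` in the quotient
  have hcz : 108 = Nat.card (centralizer ({q z'} : Set (Y ⧸ O'))) * e := by
    let T : Subgroup Y := centralizer ({z'} : Set Y)
    let r : T →* centralizer ({q z'} : Set (Y ⧸ O')) :=
      (q.comp T.subtype).codRestrict _ fun t => by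
        rw [mem_centralizer_singleton_iff, MonoidHom.comp_apply, ← map_mul, ← map_mul]
        exact congrArg q (mem_centralizer_singleton_iff.1 t.2)
    have hr : Function.Surjective r := fun w => by
      obtain ⟨y, hy⟩ := QuotientGroup.mk'_surjective O' (w : Y ⧸ O')
      replace hy : q y = w := hy
      have h1 : (y : G) * D.z * (y : G)⁻¹ * D.z⁻¹ ∈ O := by
        have h2 : q (y * z' * y⁻¹ * z'⁻¹) = 1 := by
          rw [map_mul, map_mul, map_mul, map_inv, map_inv, hy, mem_centralizer_singleton_iff.1 w.2,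
            mul_inv_cancel_right, mul_inv_cancel]
        exact (hq _).1 h2
      obtain ⟨o, ho, hoy⟩ := exists_commute O (odd_oCa F.a) (z_sq D) h1
      let o' : Y := ⟨o, oCa_le F.a ho⟩
      refine ⟨⟨o' * y, mem_centralizer_singleton_iff.2 (Subtype.ext hoy.eq)⟩, Subtype.ext ?_⟩
      show q (o' * y) = w
      rw [map_mul, (hq o').2 ho, one_mul, hy]
    have h := r.ker.card_mul_index
    rw [index_ker, MonoidHom.range_eq_top.2 hr, card_top] at h
    have hT : Nat.card T = 108 := by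
      rw [← card_hca F]
      exact Nat.card_congr
        { toFun := fun t => ⟨t.1.1, mem_centralizer_singleton_iff.2
            (congrArg Subtype.val (mem_centralizer_singleton_iff.1 t.2)), t.1.2⟩
          invFun := fun x => ⟨⟨x.1, x.2.2⟩, mem_centralizer_singleton_iff.2
            (Subtype.ext (mem_centralizer_singleton_iff.1 x.2.1))⟩
          left_inv := fun _ => rfl
          right_inv := fun _ => rfl }
    have hk : Nat.card r.ker = e := by
      rw [he]
      exact Nat.card_congr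
        { toFun := fun t => ⟨t.1.1.1, (hq _).1 (congrArg Subtype.val t.2),
            mem_centralizer_singleton_iff.2
              (congrArg Subtype.val (mem_centralizer_singleton_iff.1 t.1.2))⟩
          invFun := fun x => ⟨⟨⟨x.1, oCa_le F.a x.2.1⟩, mem_centralizer_singleton_iff.2
              (Subtype.ext (mem_centralizer_singleton_iff.1 x.2.2))⟩,
            Subtype.ext ((hq _).2 x.2.1)⟩
          left_inv := fun _ => rfl
          right_inv := fun _ => rfl }
    rw [← hT, ← h, hk, mul_comm]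
  have he27 : e ∣ 27 := by
    have h1 : e ∣ 27 * 4 := ⟨_, hcz.trans (mul_comm _ _)⟩
    refine Nat.Coprime.dvd_of_dvd_mul_right ?_ h1
    have hodd : Odd e := (odd_oCa F.a).of_dvd_nat (card_dvd_of_le inf_le_left)
    exact Nat.Coprime.pow_right 2 (Nat.coprime_two_right.2 hodd)
  have hele : e ≤ 27 := Nat.le_of_dvd (by norm_num) he27
  have h9 : 9 * Nat.card O ≤ e * e * e := by
    rw [← h4, mul_comm 9]
    exact Nat.mul_le_mul_left _ (by nlinarith)
  set cz := Nat.card (centralizer ({q z'} : Set (Y ⧸ O')))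
  set w := Nat.card (Y ⧸ O')
  set o := Nat.card O
  have hkey : e = 27 ∧ o = 2187 := by
    rcases card_ca D F hD hO with h | h <;> rw [← hY, hcardW] at h <;>
      rcases hbound with hb | ⟨h60, hb⟩
    · have h1 : 26244 ≤ 36 * (e * e) := by nlinarith
      have h2 : e = 27 := by nlinarith
      rw [h2] at h9 hcz
      refine ⟨h2, ?_⟩
      have : cz = 4 := by omega
      rw [this] at hb
      nlinarith
    · exfalso
      have h5 : 5 ∣ w * o := Dvd.dvd.mul_right ((by norm_num : 5 ∣ 60).trans h60) o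
      rw [h] at h5
      norm_num at h5
    · exfalso
      have h1 : 131220 ≤ 36 * (e * e) := by nlinarith
      nlinarith
    · have h1 : 131220 ≤ 180 * (e * e) := by nlinarith
      have h2 : e = 27 := by nlinarith
      rw [h2] at h9 hcz
      refine ⟨h2, ?_⟩
      have : cz = 4 := by omega
      rw [this] at hb
      nlinarith
  obtain ⟨h1, h2⟩ := hkey
  refine ⟨h2, h1, ?_⟩
  rw [h2, h1] at h4
  nlinarith

/-! ### The intersection with `C(z)` -/

theorem mem_hh_of_mem {x : G} (hx : x ∈ oCa F.a ⊓ centralizer ({D.z} : Set G)) : x ∈ hh D := hx.2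

theorem pC_pA (i : Fin 3) : pC i * pA = pA * pC i := by revert i; decide +kernel

/-- the elements of `O ⊓ C(z)` are the products of powers of the three cycles -/
theorem exists_pE [Finite G]
    (h27 : Nat.card ↥(oCa F.a ⊓ centralizer ({D.z} : Set G)) = 27) {x : ↥(hh D)}
    (hx : (x : G) ∈ oCa F.a) : ∃ e, pm D x = pE e := by
  classical
  set E := oCa F.a ⊓ centralizer ({D.z} : Set G) with hE
  set K := hh D ⊓ centralizer ({F.a} : Set G) with hK
  have hEK : E ≤ K := le_inf inf_le_right (inf_le_left.trans (oCa_le F.a))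
  haveI : (E.subgroupOf K).Normal := normal_subgroupOf_of_le_normalizer fun y hy =>
    mem_normalizer_inf_centralizer (centralizer_le_normalizer_oCa F.a hy.2) (z_comm D hy.1).symm
  have hidx : (E.subgroupOf K).index = 4 := by
    have h := (E.subgroupOf K).card_mul_index
    rw [Nat.card_congr (subgroupOfEquivOfLe hEK).toEquiv, h27, card_hca F] at h
    omega
  -- elements of order three lie in `E`
  have h3 : ∀ t : ↥(hh D), orderOf (t : G) = 3 → (t : G) ∈ centralizer ({F.a} : Set G) →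
      (t : G) ∈ E := fun t ht hta => by
    have h := (E.subgroupOf K).pow_index_mem (⟨t, t.2, hta⟩ : K)
    rw [hidx, mem_subgroupOf, SubgroupClass.coe_pow] at h
    have e4 : (t : G) ^ 4 = t := by
      rw [pow_succ, show (t : G) ^ 3 = 1 from ht ▸ pow_orderOf_eq_one _, one_mul]
    rwa [e4] at h
  obtain ⟨hinj, -, -, hp3, hp1, hpe, -, -, -, -, -⟩ := pE_facts
  have hlift : ∀ i, ∃ c : ↥(hh D), pm D c = pC i ∧ (c : G) ∈ E := fun i => by
    obtain ⟨c, hc, hco⟩ := lift_odd D (pC i) (hpe i) (n := 3) (by decide)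
      (orderOf_eq_prime (hp3 i) (hp1 i))
    refine ⟨c, hc, h3 c hco (mem_centralizer_singleton_iff.2 ?_)⟩
    exact (comm D (x := c) (y := liftA F) (odd_a F) (by rw [hc, pm_liftA, pC_pA])).eq
  choose c hc hcE using hlift
  let φ : Fin 3 × Fin 3 × Fin 3 → E := fun e =>
    ⟨((c 0 ^ (e.1 : ℕ) * c 1 ^ (e.2.1 : ℕ) * c 2 ^ (e.2.2 : ℕ) : ↥(hh D)) : G), by
      simp only [Subgroup.coe_mul, SubgroupClass.coe_pow]
      exact E.mul_mem (E.mul_mem (E.pow_mem (hcE 0) _) (E.pow_mem (hcE 1) _))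
        (E.pow_mem (hcE 2) _)⟩
  have hφ : ∀ e, pm D ⟨φ e, (φ e).2.2⟩ = pE e := fun e => by
    show pm D (c 0 ^ (e.1 : ℕ) * c 1 ^ (e.2.1 : ℕ) * c 2 ^ (e.2.2 : ℕ)) = _
    rw [map_mul, map_mul, map_pow, map_pow, map_pow, hc, hc, hc]
    rfl
  have hφinj : Function.Injective φ := fun e e' h => hinj e e' (by rw [← hφ, ← hφ]; simp only [h])
  have hbij : Function.Bijective φ :=
    hφinj.bijective_of_nat_card_le (by rw [h27]; simp)
  obtain ⟨e, he⟩ := hbij.2 ⟨x, hx, x.2⟩
  refine ⟨e, ?_⟩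
  rw [← hφ e]
  exact congrArg (pm D) (Subtype.ext (by rw [he]))

theorem pE_comm (e e' : Fin 3 × Fin 3 × Fin 3) : pE e * pE e' = pE e' * pE e := by
  obtain ⟨-, -, hp, -⟩ := pE_facts
  have hp' : ∀ i j, Commute (pC i) (pC j) := hp
  have h : ∀ i, Commute (pC i) (pE e') := fun i =>
    (((hp' i 0).pow_right _).mul_right ((hp' i 1).pow_right _)).mul_right ((hp' i 2).pow_right _)
  exact (((h 0).pow_left _).mul_left ((h 1).pow_left _)).mul_left ((h 2).pow_left _)

theorem odd_orderOf_mem {X : Subgroup G} [Finite G] (hX : Odd (Nat.card X)) {x : G} (hx : x ∈ X) :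
    Odd (orderOf x) :=
  hX.of_dvd_nat (X.orderOf_dvd_natCard hx)

theorem core_comm [Finite G]
    (h27 : Nat.card ↥(oCa F.a ⊓ centralizer ({D.z} : Set G)) = 27) {x y : G}
    (hx : x ∈ oCa F.a ⊓ centralizer ({D.z} : Set G))
    (hy : y ∈ oCa F.a ⊓ centralizer ({D.z} : Set G)) : Commute x y := by
  obtain ⟨e, he⟩ := exists_pE F h27 (x := ⟨x, hx.2⟩) hx.1
  obtain ⟨e', he'⟩ := exists_pE F h27 (x := ⟨y, hy.2⟩) hy.1
  exact comm D (x := ⟨x, hx.2⟩) (y := ⟨y, hy.2⟩) (odd_orderOf_mem (odd_oCa F.a) hy.1)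
    (by rw [he, he', pE_comm])

/-- an element inverted by an involution commutes with what that fixes -/
theorem commute_of_inverted {a y w v : G} (ha : orderOf a = 3) (hya : Commute y a)
    (hva : Commute v a) (hc : y * w * y⁻¹ * w⁻¹ ∈ zpowers a) (hw : v * w * v⁻¹ = w)
    (hy : v * y * v⁻¹ = y⁻¹) : Commute y w := by
  obtain ⟨i, hi⟩ := mem_zpowers_iff.1 hc
  set c := y * w * y⁻¹ * w⁻¹ with hcdef
  have hyc : Commute y c := by rw [← hi]; exact hya.zpow_right i
  have hvc : Commute v c := by rw [← hi]; exact hva.zpow_right i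
  have h1 : v * c * v⁻¹ = c := by rw [hvc.eq, mul_inv_cancel_right]
  have h2 : v * c * v⁻¹ = y⁻¹ * w * y * w⁻¹ := by
    rw [hcdef, show v * (y * w * y⁻¹ * w⁻¹) * v⁻¹ =
      (v * y * v⁻¹) * (v * w * v⁻¹) * (v * y * v⁻¹)⁻¹ * (v * w * v⁻¹)⁻¹ by group, hy, hw, inv_inv]
  have h3 : c * (y⁻¹ * w * y * w⁻¹) = 1 := by
    have h4 : y⁻¹ * c * y = c := by rw [mul_assoc, ← hyc.eq, inv_mul_cancel_left]
    calc c * (y⁻¹ * w * y * w⁻¹) = y⁻¹ * c * y * (y⁻¹ * w * y * w⁻¹) := by rw [h4]
      _ = 1 := by rw [hcdef]; group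
  rw [← h2, h1] at h3
  have h5 : c = 1 := by
    rcases mem_zpowers_three ha hc with e | e | e
    · exact e
    · exfalso
      rw [e, ← pow_two] at h3
      have := orderOf_dvd_of_pow_eq_one h3
      rw [ha] at this
      norm_num at this
    · exfalso
      rw [e, ← pow_two, inv_pow, inv_eq_one] at h3
      have := orderOf_dvd_of_pow_eq_one h3
      rw [ha] at this
      norm_num at this
  rw [hcdef] at h5
  show y * w = w * y
  exact mul_inv_eq_iff_eq_mul.1 (mul_inv_eq_one.1 h5)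

/-- the elements of `O` central modulo `⟨a⟩` -/
def modCentre : Subgroup G where
  carrier := {x | x ∈ oCa F.a ∧ ∀ w ∈ oCa F.a, x * w * x⁻¹ * w⁻¹ ∈ zpowers F.a}
  one_mem' := ⟨one_mem _, fun w _ => by simp [one_mem]⟩
  mul_mem' := by
    rintro x y ⟨hx, hx'⟩ ⟨hy, hy'⟩
    refine ⟨mul_mem hx hy, fun w hw => ?_⟩
    obtain ⟨i, hi⟩ := mem_zpowers_iff.1 (hy' w hw)
    have hc : Commute x (y * w * y⁻¹ * w⁻¹) := by
      rw [← hi]
      exact Commute.zpow_right (mem_centralizer_singleton_iff.1 (oCa_le F.a hx)) i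
    have : x * y * w * (x * y)⁻¹ * w⁻¹ = (y * w * y⁻¹ * w⁻¹) * (x * w * x⁻¹ * w⁻¹) := by
      calc x * y * w * (x * y)⁻¹ * w⁻¹ = x * (y * w * y⁻¹ * w⁻¹) * x⁻¹ * (x * w * x⁻¹ * w⁻¹) := by
            group
        _ = _ := by rw [hc.eq, mul_inv_cancel_right]
    rw [this]
    exact mul_mem (hy' w hw) (hx' w hw)
  inv_mem' := by
    rintro x ⟨hx, hx'⟩
    refine ⟨inv_mem hx, fun w hw => ?_⟩
    obtain ⟨i, hi⟩ := mem_zpowers_iff.1 (hx' w hw)
    have hc : Commute x (x * w * x⁻¹ * w⁻¹) := by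
      rw [← hi]
      exact Commute.zpow_right (mem_centralizer_singleton_iff.1 (oCa_le F.a hx)) i
    have : x⁻¹ * w * x⁻¹⁻¹ * w⁻¹ = (x * w * x⁻¹ * w⁻¹)⁻¹ := by
      calc x⁻¹ * w * x⁻¹⁻¹ * w⁻¹ = x⁻¹ * (x * w * x⁻¹ * w⁻¹)⁻¹ * x := by group
        _ = _ := by rw [mul_assoc, ← hc.inv_right.eq, inv_mul_cancel_left]
    rw [this]
    exact inv_mem (hx' w hw)

theorem modCentre_le : modCentre F ≤ oCa F.a := fun _ h => h.1

theorem mem_normalizer_modCentre [Finite G] {n : G} (hn : n ∈ centralizer ({F.a} : Set G)) :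
    n ∈ normalizer (modCentre F : Set G) := by
  have key : ∀ m ∈ centralizer ({F.a} : Set G), ∀ x ∈ modCentre F, m * x * m⁻¹ ∈ modCentre F := by
    intro m hm x hx
    have hO := centralizer_le_normalizer_oCa F.a hm
    refine ⟨(mem_normalizer_iff.1 hO x).1 hx.1, fun w hw => ?_⟩
    have hw' : m⁻¹ * w * m ∈ oCa F.a := by
      have := (mem_normalizer_iff.1 (inv_mem hO) w).1 hw
      rwa [inv_inv] at this
    obtain ⟨i, hi⟩ := mem_zpowers_iff.1 (hx.2 _ hw')
    rw [show m * x * m⁻¹ * w * (m * x * m⁻¹)⁻¹ * w⁻¹ =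
      m * (x * (m⁻¹ * w * m) * x⁻¹ * (m⁻¹ * w * m)⁻¹) * m⁻¹ by group, ← hi,
      (Commute.zpow_right (mem_centralizer_singleton_iff.1 hm : Commute m F.a) i).eq,
      mul_inv_cancel_right]
    exact zpow_mem_zpowers _ _
  refine mem_normalizer_iff.2 fun x => ⟨key n hn x, fun h => ?_⟩
  have := key n⁻¹ (inv_mem hn) _ h
  rwa [show n⁻¹ * (n * x * n⁻¹) * n⁻¹⁻¹ = x by group] at this

/-- an element of `O ⊓ C(z)` outside `⟨a⟩` central modulo `⟨a⟩` -/
theorem exists_modCentre [Finite G] (hD : StmtNineData.{u}) (hO : StmtNineOrder.{u}) :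
    ∃ x ∈ modCentre F, x ∈ centralizer ({D.z} : Set G) ∧ x ∉ zpowers F.a := by
  classical
  obtain ⟨hcard, h27, h3⟩ := core_orders F hD hO
  by_contra hno
  push Not at hno
  set Z := modCentre F
  have haZ : zpowers F.a ≤ Z := zpowers_le.2 ⟨mem_oCa (odd_a F), fun w hw => by
    rw [← mem_centralizer_singleton_iff.1 (oCa_le F.a hw),
      mul_inv_cancel_right, mul_inv_cancel]
    exact one_mem _⟩
  have hz3 : Nat.card ↥(Z ⊓ centralizer ({D.z} : Set G)) = 3 := by
    rw [show Z ⊓ centralizer ({D.z} : Set G) = zpowers F.a from le_antisymm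
      (fun x hx => hno x hx.1 hx.2) (le_inf haZ (zpowers_le.2 F.mem_a)), Nat.card_zpowers, F.ord_a]
  have hf3 : Nat.card ↥(Z ⊓ centralizer ({D.z} : Set G) ⊓ centralizer ({F.u} : Set G)) = 3 := by
    refine le_antisymm ?_ ?_
    · rw [← hz3]; exact Subgroup.card_le_of_le inf_le_left
    · rw [← F.ord_a, ← Nat.card_zpowers]
      exact Subgroup.card_le_of_le (le_inf (le_inf haZ (zpowers_le.2 F.mem_a))
        (zpowers_le.2 (mem_centralizer_singleton_iff.2 F.au.eq)))
  have hodd : Odd (Nat.card Z) := (odd_oCa F.a).of_dvd_nat (card_dvd_of_le (modCentre_le F))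
  have h4 := card_four Z hodd (z_sq D) (u_sq F) (zu_comm F) (mem_normalizer_modCentre F (z_ca F))
    (mem_normalizer_modCentre F (u_ca F))
  have hu : Nat.card ↥(Z ⊓ centralizer ({F.u} : Set G)) =
      Nat.card ↥(Z ⊓ centralizer ({D.z} : Set G)) := by
    conv_lhs => rw [← F.gz]
    exact card_inf_conj Z (mem_normalizer_modCentre F (g_ca F)) _
  have huz : Nat.card ↥(Z ⊓ centralizer ({F.u * D.z} : Set G)) =
      Nat.card ↥(Z ⊓ centralizer ({D.z} : Set G)) := by
    rw [← hu]
    conv_lhs => rw [← F.gu]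
    exact card_inf_conj Z (mem_normalizer_modCentre F (g_ca F)) _
  rw [hu, huz, hz3, hf3] at h4
  -- the centre of `O/⟨a⟩` is not trivial
  let A : Subgroup (oCa F.a) := (zpowers F.a).subgroupOf (oCa F.a)
  haveI : A.Normal := ⟨fun x hx w => by
    obtain ⟨i, hi⟩ := mem_zpowers_iff.1 (mem_subgroupOf.1 hx)
    refine mem_subgroupOf.2 ?_
    rw [Subgroup.coe_mul, Subgroup.coe_mul, Subgroup.coe_inv, ← hi,
      (Commute.zpow_right (mem_centralizer_singleton_iff.1 (oCa_le F.a w.2) : Commute (w : G) F.a) i).eq,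
      mul_inv_cancel_right]
    exact zpow_mem_zpowers _ _⟩
  have hA : Nat.card A = 3 := by
    rw [Nat.card_congr (subgroupOfEquivOfLe (zpowers_le_oCa F)).toEquiv, Nat.card_zpowers, F.ord_a]
  have hQ : Nat.card (oCa F.a ⧸ A) = 3 ^ 6 := by
    have h := Subgroup.card_eq_card_quotient_mul_card_subgroup A
    rw [hcard, hA] at h
    omega
  haveI : Fact (Nat.Prime 3) := ⟨by norm_num⟩
  haveI : Nontrivial (oCa F.a ⧸ A) := Finite.one_lt_card_iff_nontrivial.1 (by rw [hQ]; norm_num)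
  haveI := (IsPGroup.of_card hQ).center_nontrivial
  obtain ⟨⟨v, hv⟩, hv1⟩ := exists_ne (1 : center (oCa F.a ⧸ A))
  obtain ⟨x, rfl⟩ := QuotientGroup.mk'_surjective A v
  have hxA : (x : G) ∉ zpowers F.a := fun h => hv1 (Subtype.ext ((QuotientGroup.eq_one_iff x).2
    (mem_subgroupOf.2 h)))
  have hxZ : (x : G) ∈ Z := ⟨x.2, fun w hw => by
    have h := mem_center_iff.1 hv (QuotientGroup.mk' A ⟨w, hw⟩)
    have h1 : QuotientGroup.mk' A (x * ⟨w, hw⟩ * x⁻¹ * ⟨w, hw⟩⁻¹) = 1 := by
      rw [map_mul, map_mul, map_mul, map_inv, map_inv, ← h, mul_inv_cancel_right, mul_inv_cancel]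
    exact mem_subgroupOf.1 ((QuotientGroup.eq_one_iff _).1 h1)⟩
  have hle : Z ≤ zpowers F.a := (Subgroup.eq_of_le_of_card_ge haZ (by
    rw [Nat.card_zpowers, F.ord_a]; omega)).ge
  exact hxA (hle hxZ)

/-- a three cycle central in the core -/
theorem exists_cycle [Finite G] (hD : StmtNineData.{u}) (hO : StmtNineOrder.{u}) :
    ∃ j : Fin 3, (j = 0 ∨ j = 1) ∧ ∃ c : ↥(hh D), pm D c = pC j ∧ orderOf (c : G) = 3 ∧
      (c : G) ∈ oCa F.a ∧ ∀ w ∈ oCa F.a, Commute w (c : G) := by
  classical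
  obtain ⟨hcard, h27, h3⟩ := core_orders F hD hO
  obtain ⟨x, hxZ, hxz, hxa⟩ := exists_modCentre F hD hO
  set O := oCa F.a
  have hYO := centralizer_le_normalizer_oCa F.a
  set y := x⁻¹ * (F.u * x * F.u⁻¹) with hy
  have hyZ : y ∈ modCentre F := mul_mem (inv_mem hxZ)
    ((mem_normalizer_iff.1 (mem_normalizer_modCentre F (u_ca F)) x).1 hxZ)
  have hyz : y ∈ centralizer ({D.z} : Set G) :=
    mul_mem (inv_mem hxz) (mul_mem (mul_mem F.mem_u hxz) (inv_mem F.mem_u))
  have hyO : y ∈ O := hyZ.1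
  have hu' : F.u⁻¹ = F.u := inv_eq_of_mul_eq_one_right (u_sq F)
  have huy : F.u * y * F.u⁻¹ = y⁻¹ := by
    rw [hy, mul_inv_rev, hu', inv_inv]
    calc F.u * (x⁻¹ * (F.u * x * F.u)) * F.u = F.u * x⁻¹ * F.u * x * (F.u * F.u) := by group
      _ = F.u * x⁻¹ * F.u * x := by rw [u_sq, mul_one]
      _ = F.u⁻¹⁻¹ * x⁻¹ * F.u⁻¹ * x := by rw [inv_inv, hu']
      _ = (F.u * x * F.u⁻¹)⁻¹ * x := by group
      _ = _ := by rw [hu']
  have hya : y ∉ zpowers F.a := by
    intro h
    obtain ⟨i, hi⟩ := mem_zpowers_iff.1 h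
    have hc : Commute F.u y := hi ▸ (F.au.symm.zpow_right i)
    rw [hc.eq, mul_inv_cancel_right] at huy
    have h2 : y ^ 2 = 1 := by
      rw [pow_two]; nth_rw 2 [huy]; exact mul_inv_cancel y
    have hy1 : y = 1 := by
      rw [← orderOf_eq_one_iff]
      have hd := orderOf_dvd_of_pow_eq_one h2
      rcases (Nat.dvd_prime Nat.prime_two).1 hd with e | e
      · exact e
      · obtain ⟨k, hk⟩ := odd_orderOf_mem (odd_oCa F.a) hyO; omega
    rw [hy, inv_mul_eq_one] at hy1
    refine hxa ?_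
    have hle : O ⊓ centralizer ({D.z} : Set G) ⊓ centralizer ({F.u} : Set G) = zpowers F.a :=
      (Subgroup.eq_of_le_of_card_ge (zpowers_le_fixed F) (by
        rw [h3, Nat.card_zpowers, F.ord_a])).symm
    rw [← hle]
    exact ⟨⟨hxZ.1, hxz⟩, mem_centralizer_singleton_iff.2 (eq_mul_inv_iff_mul_eq.1 hy1)⟩
  have hyz' : D.z * y * D.z⁻¹ = y := by rw [(z_comm D hyz).eq, mul_inv_cancel_right]
  -- `y` is central in `O`
  have hcy : ∀ w ∈ O, Commute w y := by
    set K := O ⊓ centralizer ({y} : Set G) with hK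
    have hya' : Commute y F.a := mem_centralizer_singleton_iff.1 (oCa_le F.a hyO)
    have hfix : ∀ v : G, Commute v F.a → v * y * v⁻¹ = y⁻¹ →
        O ⊓ centralizer ({v} : Set G) ≤ K := fun v hv hvy w hw => ⟨hw.1,
      mem_centralizer_singleton_iff.2 (commute_of_inverted F.ord_a hya' hv (hyZ.2 w hw.1)
        (by rw [← (mem_centralizer_singleton_iff.1 hw.2 : w * v = v * w), mul_inv_cancel_right])
        hvy).eq.symm⟩
    have huzy : (F.u * D.z) * y * (F.u * D.z)⁻¹ = y⁻¹ := by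
      rw [show (F.u * D.z) * y * (F.u * D.z)⁻¹ = F.u * (D.z * y * D.z⁻¹) * F.u⁻¹ by group, hyz', huy]
    have hz1 : O ⊓ centralizer ({D.z} : Set G) ≤ K := fun w hw => ⟨hw.1,
      mem_centralizer_singleton_iff.2 (core_comm F h27 hw ⟨hyO, hyz⟩).eq⟩
    have hcong : ∀ v : G, O ⊓ centralizer ({v} : Set G) ≤ K →
        K ⊓ centralizer ({v} : Set G) = O ⊓ centralizer ({v} : Set G) := fun v hv =>
      le_antisymm (inf_le_inf_right _ inf_le_left) (le_inf hv inf_le_right)
    have hnorm : ∀ n ∈ centralizer ({F.a} : Set G), n * y * n⁻¹ = y ∨ n * y * n⁻¹ = y⁻¹ →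
        n ∈ normalizer (K : Set G) := fun n hn hny => mem_normalizer_iff.2 fun w => by
      simp only [hK, mem_inf]
      refine and_congr (mem_normalizer_iff.1 (hYO hn) w) ?_
      rw [mem_centralizer_singleton_iff, mem_centralizer_singleton_iff]
      have h1 : w * y = y * w ↔
          n * w * n⁻¹ * (n * y * n⁻¹) = n * y * n⁻¹ * (n * w * n⁻¹) := by
        rw [show n * w * n⁻¹ * (n * y * n⁻¹) = n * (w * y) * n⁻¹ by group,
          show n * y * n⁻¹ * (n * w * n⁻¹) = n * (y * w) * n⁻¹ by group]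
        exact ⟨fun h => by rw [h], fun h => mul_left_cancel (mul_right_cancel h)⟩
      rcases hny with e | e
      · rwa [e] at h1
      · rw [e] at h1
        exact h1.trans Commute.inv_right_iff
    have hoddK : Odd (Nat.card K) := (odd_oCa F.a).of_dvd_nat (card_dvd_of_le inf_le_left)
    have hA := card_four O (odd_oCa F.a) (z_sq D) (u_sq F) (zu_comm F) (hYO (z_ca F))
      (hYO (u_ca F))
    have hB := card_four K hoddK (z_sq D) (u_sq F) (zu_comm F)
      (hnorm _ (z_ca F) (Or.inl hyz')) (hnorm _ (u_ca F) (Or.inr huy))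
    rw [hcong _ hz1, hcong _ (hfix _ F.au.symm huy),
      hcong _ (hfix _ (F.au.symm.mul_left (z_comm D F.mem_a)) huzy)] at hB
    rw [h3] at hA hB
    have hKO : K = O := Subgroup.eq_of_le_of_card_ge inf_le_left (by omega)
    intro w hw
    rw [← hKO] at hw
    exact mem_centralizer_singleton_iff.1 hw.2
  -- an element inverting `a` and normalising everything
  obtain ⟨hinj, -, -, hp3, hp1, hpe, -, -, -, hH, -⟩ := pE_facts
  obtain ⟨hHe, hHA, -⟩ := hH 0
  obtain ⟨h, hh'⟩ := exists_lift D pH hHe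
  have hodd' : ∀ v : ↥(hh D), Odd (orderOf (v : G)) → ∀ w : ↥(hh D),
      Odd (orderOf ((w * v * w⁻¹ : ↥(hh D)) : G)) := fun v hv w => by
    rw [show ((w * v * w⁻¹ : ↥(hh D)) : G) = (w : G) * v * (w : G)⁻¹ from rfl,
      show (w : G) * v * (w : G)⁻¹ = MulAut.conj (w : G) v from rfl,
      MulEquiv.orderOf_eq]
    exact hv
  have hha : (h : G) * F.a * (h : G)⁻¹ = F.a⁻¹ := by
    refine odd_eq D (x := h * liftA F * h⁻¹) (y := (liftA F)⁻¹)
      (hodd' _ (odd_a F) h)
      (by rw [Subgroup.coe_inv, orderOf_inv]; exact odd_a F) ?_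
    rw [map_mul, map_mul, map_inv, map_inv, hh', pm_liftA, hHA]
  have hhY : (h : G) ∈ normalizer (centralizer ({F.a} : Set G) : Set G) := by
    refine mem_normalizer_iff.2 fun w => ?_
    rw [mem_centralizer_singleton_iff, mem_centralizer_singleton_iff]
    have e1 : w * F.a = F.a * w ↔
        (h : G) * w * (h : G)⁻¹ * F.a⁻¹ = F.a⁻¹ * ((h : G) * w * (h : G)⁻¹) := by
      rw [← hha, show (h : G) * w * (h : G)⁻¹ * (h * F.a * (h : G)⁻¹) =
        h * (w * F.a) * (h : G)⁻¹ by group, show (h : G) * F.a * (h : G)⁻¹ *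
        (h * w * (h : G)⁻¹) = h * (F.a * w) * (h : G)⁻¹ by group]
      exact ⟨fun e => by rw [e], fun e => mul_left_cancel (mul_right_cancel e)⟩
    exact e1.trans Commute.inv_right_iff
  have hhO := le_normalizer_oCa F.a hhY
  -- the central elements commuting with `z`
  set S : Subgroup G := O ⊓ centralizer ({D.z} : Set G) ⊓ centralizer (O : Set G) with hS
  have hyS : y ∈ S := ⟨⟨hyO, hyz⟩, mem_centralizer_iff.2 fun w hw => (hcy w hw).eq⟩
  have haS : F.a ∈ S := ⟨⟨mem_oCa (odd_a F), F.mem_a⟩, mem_centralizer_iff.2 fun w hw =>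
    mem_centralizer_singleton_iff.1 (oCa_le F.a hw)⟩
  have hhS : (h : G) * y * (h : G)⁻¹ ∈ S := by
    refine ⟨⟨(mem_normalizer_iff.1 hhO y).1 hyO, (hh D).mul_mem ((hh D).mul_mem h.2 hyz) ((hh D).inv_mem h.2)⟩,
      mem_centralizer_iff.2 fun w hw => ?_⟩
    have hw' : (h : G)⁻¹ * w * h ∈ O := by
      have := (mem_normalizer_iff.1 (inv_mem hhO) w).1 hw
      rwa [inv_inv] at this
    calc w * ((h : G) * y * (h : G)⁻¹) = h * (((h : G)⁻¹ * w * h) * y) * (h : G)⁻¹ := by group
      _ = h * (y * ((h : G)⁻¹ * w * h)) * (h : G)⁻¹ := by rw [(hcy _ hw').eq]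
      _ = _ := by group
  set y' : ↥(hh D) := ⟨y, hyz⟩
  obtain ⟨e, he⟩ := exists_pE F h27 (x := y') hyO
  have key : ∀ e, (∃ i j : Fin 3, pE e ^ (i : ℕ) * pA ^ (j : ℕ) = pC 1) ∨
      (∃ i : Fin 3, (pE e * (pH * pE e * pH⁻¹)) ^ (i : ℕ) = pC 0) ∨
      ∃ j : Fin 3, pE e = pA ^ (j : ℕ) := by decide +kernel
  have fin : ∀ (j : Fin 3) (t : ↥(hh D)), (t : G) ∈ S → pm D t = pC j →
      ∃ c : ↥(hh D), pm D c = pC j ∧ orderOf (c : G) = 3 ∧ (c : G) ∈ O ∧
        ∀ w ∈ O, Commute w (c : G) := by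
    intro j t ht hpt
    obtain ⟨c, hc, hco⟩ := lift_odd D (pC j) (hpe j) (n := 3) (by decide)
      (orderOf_eq_prime (hp3 j) (hp1 j))
    have hct : (c : G) = t := odd_eq D (by rw [hco]; decide)
      (odd_orderOf_mem (odd_oCa F.a) ht.1.1) (hc.trans hpt.symm)
    exact ⟨c, hc, hco, hct ▸ ht.1.1, fun w hw => hct ▸ mem_centralizer_iff.1 ht.2 w hw⟩
  rcases key e with ⟨i, j, hij⟩ | ⟨i, hi⟩ | ⟨j, hj⟩
  · refine ⟨1, Or.inr rfl, fin 1 (y' ^ (i : ℕ) * liftA F ^ (j : ℕ)) ?_ ?_⟩
    · simp only [Subgroup.coe_mul, SubgroupClass.coe_pow]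
      exact S.mul_mem (S.pow_mem hyS _) (S.pow_mem haS _)
    · rw [map_mul, map_pow, map_pow, he, pm_liftA, hij]
  · refine ⟨0, Or.inl rfl, fin 0 ((y' * (h * y' * h⁻¹)) ^ (i : ℕ)) ?_ ?_⟩
    · simp only [Subgroup.coe_mul, SubgroupClass.coe_pow, Subgroup.coe_inv]
      exact S.pow_mem (S.mul_mem hyS hhS) _
    · rw [map_pow, map_mul, map_mul, map_mul, map_inv, he, hh', hi]
  · exfalso
    refine hya ?_
    rw [show y = ((liftA F ^ (j : ℕ) : ↥(hh D)) : G) from
      odd_eq D (x := y') (odd_orderOf_mem (odd_oCa F.a) hyO)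
        ((odd_a F).of_dvd_nat (by rw [SubgroupClass.coe_pow]; exact orderOf_pow_dvd _))
        (by rw [map_pow, pm_liftA, he, hj]), SubgroupClass.coe_pow]
    exact pow_mem (mem_zpowers _) _

end CfsgLib.AltTwoCent.Nine
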