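import Cfsg.Agent.Lib.AltTwoCent.Defs
import Cfsg.Agent.Lib.AltTwoCent.Count
import Cfsg.Agent.Lib.PGroups.Basic

/-!
# Consequences of the local data common to degrees nine and ten
-/

set_option autoImplicit false
set_option linter.style.haveILetI false
set_option linter.unusedSectionVars false

namespace CfsgLib.AltTwoCent

open Subgroup CfsgLib.Involutions

universe u

theorem orderOf_conj {P : Type u} [Group P] (c x : P) : orderOf (c * x * c⁻¹) = orderOf x :=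
  (MulAut.conj c).orderOf_eq x

theorem commute_conj {P : Type u} [Group P] {x y : P} (h : Commute x y) (c : P) :
    Commute (c * x * c⁻¹) (c * y * c⁻¹) :=
  h.map (MulAut.conj c).toMonoidHom

namespace PairCore

variable {P : Type u} [Group P] {cz cv : ℕ} (E : PairCore P cz cv)
include E

theorem normal : E.Q.Normal := normal_of_index_eq_two E.index

theorem mul_out {v w : P} (hv : v ∉ E.Q) (hw : w ∉ E.Q) : v * w ∈ E.Q := by
  rw [mul_mem_iff_of_index_two E.index]; tauto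

theorem conj_iff (c v : P) : c * v * c⁻¹ ∈ E.Q ↔ v ∈ E.Q := by
  refine ⟨fun h => ?_, fun h => E.normal.conj_mem v h c⟩
  have := E.normal.conj_mem _ h c⁻¹
  rwa [show c⁻¹ * (c * v * c⁻¹) * c⁻¹⁻¹ = v by group] at this

theorem mul_k {v : P} (hv : v ∈ E.Q) : E.k * v ∉ E.Q := fun h => by
  rw [mul_mem_iff_of_index_two E.index] at h
  exact E.kQ (h.2 hv)

theorem half_Q [Finite P] {X : Subgroup P} (hk : E.k ∈ X) :
    Nat.card X = 2 * Nat.card ↥(E.Q ⊓ X) := by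
  have h : (E.Q.subgroupOf X).index = 2 := by
    rw [index_eq_two_iff]
    refine ⟨⟨E.k, hk⟩, fun b => ?_⟩
    by_cases hb : (b : P) ∈ E.Q <;>
      simp [mem_subgroupOf, mul_mem_iff_of_index_two E.index, E.kQ, hb]
  have h1 := (E.Q.subgroupOf X).card_mul_index
  rw [h, ← inf_subgroupOf_right, Nat.card_congr (subgroupOfEquivOfLe (inf_le_right : E.Q ⊓ X ≤ X)).toEquiv]
    at h1
  omega

theorem card_zQ [Finite P] : 2 * Nat.card ↥(E.Q ⊓ centralizer ({E.z} : Set P)) = cz := by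
  rw [← E.half_Q (mem_centralizer_singleton_iff.2 E.zk.symm.eq), E.card_z]

theorem z_conj_u : IsConj E.z E.u := isConj_iff.2 ⟨E.g, E.gz⟩

/-- An inner involution commuting with `z` is conjugate to `z`. -/
theorem inner_near {v : P} (hv : v ∈ E.Q) (hv2 : orderOf v = 2) (hvz : Commute v E.z) :
    IsConj E.z v := by
  rcases E.inner v hv hv2 hvz with rfl | ⟨c, -, hc⟩
  · exact IsConj.refl _
  · exact E.z_conj_u.trans (isConj_iff.2 ⟨c, hc⟩)

/-- A non-trivial normal subgroup meets the centre of a finite 2-group. -/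
theorem exists_central [Finite P] {S : Subgroup P} (hS : IsPGroup 2 S) {v : P} (hv : v ∈ S)
    (hvQ : v ∈ E.Q) (hv1 : v ≠ 1) :
    ∃ w : P, w ∈ E.Q ∧ w ∈ S ∧ orderOf w = 2 ∧ ∀ x ∈ S, Commute w x := by
  haveI := E.normal
  haveI : Fact (Nat.Prime 2) := ⟨Nat.prime_two⟩
  haveI : (E.Q.subgroupOf S).Normal := inferInstance
  obtain ⟨w, hw, hw1⟩ : ∃ w, w ∈ E.Q.subgroupOf S ⊓ center S ∧ w ≠ 1 := by
    have hne : (E.Q.subgroupOf S) ≠ ⊥ := fun h => by
      have : (⟨v, hv⟩ : S) ∈ E.Q.subgroupOf S := mem_subgroupOf.2 hvQ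
      rw [h, mem_bot] at this
      exact hv1 (congrArg Subtype.val this)
    have := CfsgLib.PGroups.inf_center_ne_bot hS hne
    exact (bot_or_exists_ne_one _).resolve_left this
  obtain ⟨w', hw', hord⟩ : ∃ w' ∈ zpowers w, orderOf w' = 2 := by
    obtain ⟨n, hn⟩ := hS.exists_orderOf_eq_pow w
    have hn0 : n ≠ 0 := fun h => hw1 (orderOf_eq_one_iff.1 (by rw [hn, h, pow_zero]))
    refine ⟨w ^ (2 ^ (n - 1)), npow_mem_zpowers _ _, ?_⟩
    rw [orderOf_pow' _ (by positivity), hn, Nat.gcd_eq_right (pow_dvd_pow 2 (Nat.sub_le n 1)),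
      Nat.pow_div (Nat.sub_le n 1) two_pos, show n - (n - 1) = 1 by omega, pow_one]
  have hw'' : w' ∈ E.Q.subgroupOf S ⊓ center S := zpowers_le.2 hw hw'
  rw [mem_inf, mem_subgroupOf, mem_center_iff] at hw''
  exact ⟨w', hw''.1, w'.2, by rw [Subgroup.orderOf_coe, hord], fun x hx =>
    (congrArg Subtype.val (hw''.2 ⟨x, hx⟩)).symm⟩

/-- Every involution is conjugate to one commuting with `z`. -/
theorem near [Finite P] {v : P} (hv : orderOf v = 2) :
    ∃ c : P, Commute (c * v * c⁻¹) E.z := by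
  classical
  haveI : Fact (Nat.Prime 2) := ⟨Nat.prime_two⟩
  have hp : ∀ x : P, orderOf x = 2 → IsPGroup 2 (zpowers x) := fun x hx =>
    IsPGroup.of_card (n := 1) (by rw [Nat.card_zpowers, hx]; rfl)
  obtain ⟨S₀, hS₀⟩ := (hp E.z E.ord_z).exists_le_sylow
  have hz₀ : E.z ∈ (S₀ : Subgroup P) := hS₀ (mem_zpowers _)
  obtain ⟨w, hwQ, hwS, hw2, hwc⟩ := E.exists_central S₀.2 hz₀ E.zQ (invol_ne_one E.ord_z)
  obtain ⟨b, hb⟩ := isConj_iff.1 (E.inner_near hwQ hw2 (hwc _ hz₀))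
  obtain ⟨S, hS⟩ := (hp v hv).exists_le_sylow
  obtain ⟨h, hh⟩ := MulAction.exists_smul_eq P S S₀
  have hvS : h * v * h⁻¹ ∈ (S₀ : Subgroup P) := by
    rw [← hh, Sylow.coe_subgroup_smul]
    exact ⟨v, hS (mem_zpowers _), rfl⟩
  refine ⟨b⁻¹ * h, ?_⟩
  have h1 := commute_conj (hwc _ hvS) b⁻¹
  rw [← hb, show b⁻¹ * (b * E.z * b⁻¹) * b⁻¹⁻¹ = E.z by group] at h1
  rw [show b⁻¹ * h * v * (b⁻¹ * h)⁻¹ = b⁻¹ * (h * v * h⁻¹) * b⁻¹⁻¹ by group]
  exact h1.symm

/-- All involutions of `Q` are conjugate. -/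
theorem inner_conj [Finite P] {v : P} (hv : v ∈ E.Q) (hv2 : orderOf v = 2) : IsConj E.z v := by
  obtain ⟨c, hc⟩ := E.near hv2
  exact (E.inner_near ((E.conj_iff c v).2 hv) (by rw [orderOf_conj, hv2]) hc).trans
    (isConj_iff.2 ⟨c⁻¹, by group⟩)

theorem not_conj_k [Finite P] {v w : P} (hv : v ∈ E.Q) (hw : w ∉ E.Q) : ¬ IsConj v w := fun h => by
  obtain ⟨c, rfl⟩ := isConj_iff.1 h
  exact hw ((E.conj_iff c v).2 hv)

/-- The pairs of the order formula at `z`. -/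
theorem card_pair_z [Finite P]
    (hout : ∀ v : P, v ∉ E.Q → orderOf v = 2 → IsConj E.k v) :
    Nat.card (Pair E.z E.k E.z) = Nat.card (ZPair E.Q E.z) := by
  refine Nat.card_congr (Equiv.subtypeEquivRight fun p => ?_)
  constructor
  · rintro ⟨h1, h2, h3, h4, h5⟩
    obtain ⟨a, ha⟩ := isConj_iff.1 h1
    obtain ⟨b, hb⟩ := isConj_iff.1 h2
    exact ⟨ha ▸ (E.conj_iff a _).2 E.zQ, hb ▸ fun h => E.kQ ((E.conj_iff b _).1 h),
      by rw [← ha, orderOf_conj, E.ord_z], by rw [← hb, orderOf_conj, E.ord_k], h3, h4, h5⟩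
  · rintro ⟨h1, h2, h3, h4, h5, h6, h7⟩
    exact ⟨E.inner_conj h1 h3, hout _ h2 h4, h5.eq, h6.eq, h7⟩

/-- The order formula in `P`. -/
theorem card_P [Finite P] (hout : ∀ v : P, v ∉ E.Q → orderOf v = 2 → IsConj E.k v) :
    Nat.card P = Nat.card (centralizer ({E.k} : Set P)) * Nat.card (ZPair E.Q E.z) +
      cz * Nat.card (Pair E.z E.k E.k) := by
  refine (?_ : _ = _).trans (congrArg₂ (fun x y => Nat.card (centralizer ({E.k} : Set P)) * x +
    y * Nat.card (Pair E.z E.k E.k)) (E.card_pair_z hout) E.card_z)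
  refine order_formula E.ord_z E.ord_k (E.not_conj_k E.zQ E.kQ) fun v hv => ?_
  by_cases h : v ∈ E.Q
  · exact Or.inl (E.inner_conj h hv)
  · exact Or.inr (hout v h hv)

/-- The pairs at `k` are the pairs of involutions of `C_Q(k)` with product of odd order. -/
theorem card_pair_k [Finite P] (hout : ∀ v : P, v ∉ E.Q → orderOf v = 2 → IsConj E.k v) :
    Nat.card (Pair E.z E.k E.k) =
      Nat.card {p : ↥(E.Q ⊓ centralizer ({E.k} : Set P)) × ↥(E.Q ⊓ centralizer ({E.k} : Set P)) //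
        orderOf p.1 = 2 ∧ orderOf p.2 = 2 ∧ Odd (orderOf (p.1 * p.2))} := by
  classical
  have hD : ∀ x : P, x ∈ E.Q ⊓ centralizer ({E.k} : Set P) ↔ x ∈ E.Q ∧ Commute x E.k := fun x => by
    rw [mem_inf, mem_centralizer_singleton_iff]; rfl
  have hkk := invol_mul_self E.ord_k
  have key : ∀ x d : P, x ∈ E.Q → Commute x E.k → d ∈ E.Q → Commute d E.k →
      ((∃ i : ℕ, (x * (E.k * d)) ^ i = E.k) ↔ Odd (orderOf (x * d))) := by
    intro x d hx hxk hd hdk
    have e : x * (E.k * d) = E.k * (x * d) := by rw [← mul_assoc, hxk.eq, mul_assoc]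
    have hc : Commute E.k (x * d) := hxk.symm.mul_right hdk.symm
    rw [e]
    constructor
    · rintro ⟨i, hi⟩
      rw [hc.mul_pow] at hi
      rcases Nat.even_or_odd i with ⟨j, hj⟩ | hodd
      · exfalso
        rw [hj, ← two_mul, pow_mul, sq, hkk, one_pow, one_mul] at hi
        exact E.kQ (hi ▸ E.Q.pow_mem (E.Q.mul_mem hx hd) _)
      · obtain ⟨j, hj⟩ := hodd
        rw [hj, pow_succ E.k, pow_mul, sq, hkk, one_pow, one_mul] at hi
        exact Odd.of_dvd_nat ⟨j, rfl⟩ (orderOf_dvd_of_pow_eq_one (mul_eq_left.1 hi))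
    · intro hodd
      refine ⟨orderOf (x * d), ?_⟩
      obtain ⟨j, hj⟩ := id hodd
      rw [hc.mul_pow, pow_orderOf_eq_one, mul_one, hj, pow_succ, pow_mul, sq, hkk, one_pow, one_mul]
  refine Nat.card_congr
    { toFun := fun p => ⟨(⟨p.1.1, ?_⟩, ⟨E.k * p.1.2, ?_⟩), ?_⟩
      invFun := fun p => ⟨((p.1.1 : P), E.k * (p.1.2 : P)), ?_⟩
      left_inv := fun p => Subtype.ext (Prod.ext rfl (by
        show E.k * (E.k * p.1.2) = p.1.2
        rw [← mul_assoc, hkk, one_mul]))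
      right_inv := fun p => Subtype.ext (Prod.ext rfl
        (Subtype.ext (by simp only [← mul_assoc, hkk, one_mul]))) }
  · obtain ⟨h1, -, h3, -⟩ := p.2
    obtain ⟨a, ha⟩ := isConj_iff.1 h1
    exact (hD _).2 ⟨ha ▸ (E.conj_iff a _).2 E.zQ, h3⟩
  · obtain ⟨-, h2, -, h4, -⟩ := p.2
    obtain ⟨b, hb⟩ := isConj_iff.1 h2
    exact (hD _).2 ⟨E.mul_out E.kQ (hb ▸ fun h => E.kQ ((E.conj_iff b _).1 h)),
      (Commute.refl _).mul_left h4⟩
  · obtain ⟨h1, h2, h3, h4, h5⟩ := p.2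
    obtain ⟨a, ha⟩ := isConj_iff.1 h1
    obtain ⟨b, hb⟩ := isConj_iff.1 h2
    have hx : p.1.1 ∈ E.Q := ha ▸ (E.conj_iff a _).2 E.zQ
    have hd : E.k * p.1.2 ∈ E.Q := E.mul_out E.kQ (hb ▸ fun h => E.kQ ((E.conj_iff b _).1 h))
    have hdk : Commute (E.k * p.1.2) E.k := (Commute.refl _).mul_left h4
    have hx2 : orderOf p.1.1 = 2 := by rw [← ha, orderOf_conj, E.ord_z]
    have hodd : Odd (orderOf (p.1.1 * (E.k * p.1.2))) :=
      (key _ _ hx h3 hd hdk).1 (by rwa [← mul_assoc E.k, hkk, one_mul])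
    have hw2 : p.1.2 * p.1.2 = 1 := invol_mul_self (by rw [← hb, orderOf_conj, E.ord_k])
    refine ⟨by rw [← Subgroup.orderOf_coe]; exact hx2, ?_, ?_⟩
    · rw [← Subgroup.orderOf_coe]
      refine invol_iff.2 ⟨?_, fun h => ?_⟩
      · rw [show E.k * p.1.2 * (E.k * p.1.2) = (E.k * p.1.2) * E.k * p.1.2 by group, hdk.eq,
          mul_assoc, mul_assoc, hw2, mul_one, hkk]
      · replace h : E.k * p.1.2 = 1 := h
        rw [h, mul_one, hx2] at hodd
        exact absurd hodd (by decide)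
    · rw [← Subgroup.orderOf_coe, Subgroup.coe_mul]
      exact hodd
  · obtain ⟨h1, h2, h3⟩ := p.2
    obtain ⟨hx, hxk⟩ := (hD _).1 p.1.1.2
    obtain ⟨hd, hdk⟩ := (hD _).1 p.1.2.2
    rw [← Subgroup.orderOf_coe] at h1 h2 h3
    refine ⟨E.inner_conj hx h1, hout _ (E.mul_k hd) (invol_iff.2 ⟨?_, fun h => ?_⟩), hxk.eq,
      ((Commute.refl _).mul_left hdk).eq, (key _ _ hx hxk hd hdk).2 h3⟩
    · show E.k * (p.1.2 : P) * (E.k * (p.1.2 : P)) = 1
      rw [hdk.mul_mul_mul_comm, hkk, invol_mul_self h2, one_mul]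
    · replace h : E.k * (p.1.2 : P) = 1 := h
      exact E.mul_k hd (h ▸ E.Q.one_mem)

end PairCore

end CfsgLib.AltTwoCent
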