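import Cfsg.Agent.Lib.AltTwoCent.TenTypes

/-!
# Degree ten: the two classes of involutions of `C_Q(k)`
-/

set_option autoImplicit false
set_option linter.style.haveILetI false
set_option linter.unusedSectionVars false

namespace CfsgLib.AltTwoCent

open Subgroup CfsgLib.Involutions

universe u

namespace TenData

variable {P : Type u} [Group P] [Finite P] (E : TenData P)
include E

/-- `x` is an involution of `D = C_Q(k)`. -/
def InD (x : P) : Prop := x ∈ E.Q ∧ orderOf x = 2 ∧ Commute x E.k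

theorem outer_case {w : P} (hw : w ∉ E.Q) (hw2 : orderOf w = 2) (hwz : Commute w E.z) :
    (∃ c, c * E.z * c⁻¹ = E.z ∧ c * E.k * c⁻¹ = w ∧ E.nn E.z w = 8) ∨
    (∃ c, c * E.z * c⁻¹ = E.z ∧ c * (E.k * E.u) * c⁻¹ = w ∧ E.nn E.z w = 12) := by
  obtain ⟨c, hc, h⟩ := E.outer w hw hw2 hwz
  have hcz : c * E.z * c⁻¹ = E.z := by
    rw [(mem_centralizer_singleton_iff.1 hc), mul_inv_cancel_right]
  rcases h with h | h
  · refine Or.inl ⟨c, hcz, h, ?_⟩
    rw [← h]; nth_rewrite 1 [← hcz]; rw [E.nn_conj, E.nn_z_k]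
  · refine Or.inr ⟨c, hcz, h, ?_⟩
    rw [← h]; nth_rewrite 1 [← hcz]; rw [E.nn_conj, E.nn_z_ku]

/-- Every commuting pair is conjugate to `(z, k)` or `(z, k * u)`. -/
theorem norm_pair {x w : P} (hx : x ∈ E.Q) (hx2 : orderOf x = 2) (hw : w ∉ E.Q) (hw2 : orderOf w = 2)
    (hxw : Commute x w) :
    (∃ e, e * x * e⁻¹ = E.z ∧ e * w * e⁻¹ = E.k ∧ E.nn x w = 8) ∨
    (∃ e, e * x * e⁻¹ = E.z ∧ e * w * e⁻¹ = E.k * E.u ∧ E.nn x w = 12) := by
  obtain ⟨c, hc⟩ := isConj_iff.1 (E.toPairCore.inner_conj hx hx2).symm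
  have h := commute_conj hxw c
  rw [hc] at h
  have hnn : E.nn x w = E.nn E.z (c * w * c⁻¹) := by rw [← E.nn_conj c x w, hc]
  rcases E.outer_case (fun h' => hw ((E.toPairCore.conj_iff c w).1 h')) (by rw [orderOf_conj, hw2]) h.symm
    with ⟨d, hd, hdw, hn⟩ | ⟨d, hd, hdw, hn⟩
  · refine Or.inl ⟨d⁻¹ * c, ?_, ?_, hnn.trans hn⟩
    · rw [show d⁻¹ * c * x * (d⁻¹ * c)⁻¹ = d⁻¹ * (c * x * c⁻¹) * d by group, hc]
      nth_rewrite 1 [← hd]
      group
    · rw [show d⁻¹ * c * w * (d⁻¹ * c)⁻¹ = d⁻¹ * (c * w * c⁻¹) * d by group, ← hdw]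
      group
  · refine Or.inr ⟨d⁻¹ * c, ?_, ?_, hnn.trans hn⟩
    · rw [show d⁻¹ * c * x * (d⁻¹ * c)⁻¹ = d⁻¹ * (c * x * c⁻¹) * d by group, hc]
      nth_rewrite 1 [← hd]
      group
    · rw [show d⁻¹ * c * w * (d⁻¹ * c)⁻¹ = d⁻¹ * (c * w * c⁻¹) * d by group, ← hdw]
      group

theorem nn_cases {x : P} (hx : E.InD x) : E.nn x E.k = 8 ∨ E.nn x E.k = 12 := by
  rcases E.norm_pair hx.1 hx.2.1 E.kQ E.ord_k hx.2.2 with ⟨e, -, -, h⟩ | ⟨e, -, -, h⟩
  · exact Or.inl h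
  · exact Or.inr h

/-- Involutions of `D` of the same kind are conjugate in `D`. -/
theorem conj_of_nn {x y : P} (hx : E.InD x) (hy : E.InD y) (h : E.nn x E.k = E.nn y E.k) :
    ∃ c ∈ E.Q, Commute c E.k ∧ c * x * c⁻¹ = y := by
  have key : ∀ e f R : P, e * x * e⁻¹ = E.z → f * y * f⁻¹ = E.z → e * E.k * e⁻¹ = R →
      f * E.k * f⁻¹ = R → ∃ c ∈ E.Q, Commute c E.k ∧ c * x * c⁻¹ = y := by
    intro e f R he hf heR hfR
    have h1 : f⁻¹ * e * x * (f⁻¹ * e)⁻¹ = y := by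
      rw [show f⁻¹ * e * x * (f⁻¹ * e)⁻¹ = f⁻¹ * (e * x * e⁻¹) * f by group, he, ← hf]; group
    have h2 : f⁻¹ * e * E.k * (f⁻¹ * e)⁻¹ = E.k := by
      rw [show f⁻¹ * e * E.k * (f⁻¹ * e)⁻¹ = f⁻¹ * (e * E.k * e⁻¹) * f by group, heR, ← hfR]; group
    have h3 : Commute (f⁻¹ * e) E.k := mul_inv_eq_iff_eq_mul.1 h2
    by_cases hc : f⁻¹ * e ∈ E.Q
    · exact ⟨_, hc, h3, h1⟩
    · refine ⟨E.k * (f⁻¹ * e), E.toPairCore.mul_out E.kQ hc, (Commute.refl _).mul_left h3, ?_⟩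
      rw [show E.k * (f⁻¹ * e) * x * (E.k * (f⁻¹ * e))⁻¹ =
        E.k * (f⁻¹ * e * x * (f⁻¹ * e)⁻¹) * E.k⁻¹ by group, h1, hy.2.2.symm.eq, mul_inv_cancel_right]
  rcases E.norm_pair hx.1 hx.2.1 E.kQ E.ord_k hx.2.2 with ⟨e, he, heR, h1⟩ | ⟨e, he, heR, h1⟩ <;>
    rcases E.norm_pair hy.1 hy.2.1 E.kQ E.ord_k hy.2.2 with ⟨f, hf, hfR, h2⟩ | ⟨f, hf, hfR, h2⟩
  · exact key e f _ he hf heR hfR
  · omega
  · omega
  · exact key e f _ he hf heR hfR

theorem nn_conj_D {c x : P} (hc : Commute c E.k) : E.nn (c * x * c⁻¹) E.k = E.nn x E.k := by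
  have := E.nn_conj c x E.k
  rwa [hc.eq, mul_inv_cancel_right] at this

theorem inD_conj {c x : P} (hc : Commute c E.k) (hx : E.InD x) : E.InD (c * x * c⁻¹) :=
  ⟨(E.toPairCore.conj_iff c x).2 hx.1, by rw [orderOf_conj, hx.2.1], by
    have := commute_conj hx.2.2 c
    rwa [hc.eq, mul_inv_cancel_right] at this⟩

theorem one_class {v : P} (hv : v ∉ E.Q) (hv2 : orderOf v = 2) : IsConj E.k v := by
  have k2 := invol_mul_self E.ord_k
  have hin : ∀ d : P, d ∈ E.Q → orderOf d = 2 → Commute E.k d → orderOf (E.k * d) = 2 := by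
    intro d hd hd2 hc
    refine invol_iff.2 ⟨by rw [hc.symm.mul_mul_mul_comm, k2, invol_mul_self hd2, one_mul], fun h => ?_⟩
    exact E.toPairCore.mul_k hd (h ▸ E.Q.one_mem)
  have hkz : IsConj E.k (E.k * E.z) := by
    rcases E.outer_case (E.toPairCore.mul_k E.zQ) (hin _ E.zQ E.ord_z E.zk.symm)
      (E.zk.symm.mul_left (Commute.refl _)) with ⟨c, -, h, -⟩ | ⟨c, -, -, h⟩
    · exact isConj_iff.2 ⟨c, h⟩
    · rw [E.nn_z_kz] at h; omega
  have hkuz : IsConj (E.k * E.u) (E.k * E.u * E.z) := by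
    rcases E.outer_case (w := E.k * E.u * E.z)
      (by rw [mul_assoc]; exact E.toPairCore.mul_k (E.Q.mul_mem E.uQ E.zQ))
      (by
        rw [mul_assoc]
        refine hin _ (E.Q.mul_mem E.uQ E.zQ) (invol_iff.2 ⟨?_, fun h => E.u_ne ?_⟩)
          (E.uk.symm.mul_right E.zk.symm)
        · rw [E.zu.mul_mul_mul_comm, invol_mul_self E.ord_u, invol_mul_self E.ord_z, one_mul]
        · rw [← invol_inv E.ord_z]; exact eq_inv_of_mul_eq_one_left h)
      ((E.zk.symm.mul_left E.zu.symm).mul_left (Commute.refl _)) with ⟨c, -, -, h⟩ | ⟨c, -, h, -⟩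
    · rw [E.nn_z_kuz] at h; omega
    · exact isConj_iff.2 ⟨c, h⟩
  have hku : IsConj E.k (E.k * E.u) := by
    rcases E.fusion.1 with h | h | h
    · exact h
    · exact h.trans hkuz.symm
    · exact hkz.trans h
  obtain ⟨c, hc⟩ := E.toPairCore.near hv2
  have hv' : IsConj v (c * v * c⁻¹) := isConj_iff.2 ⟨c, rfl⟩
  rcases E.outer_case (fun h => hv ((E.toPairCore.conj_iff c v).1 h)) (by rw [orderOf_conj, hv2]) hc
    with ⟨d, -, h, -⟩ | ⟨d, -, h, -⟩
  · exact (isConj_iff.2 ⟨d, h⟩).trans hv'.symm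
  · exact hku.trans ((isConj_iff.2 ⟨d, h⟩).trans hv'.symm)

/-- `C_Q(z, k)` is `V ∪ u' V`. -/
theorem mem_W {x : P} (hx : x ∈ E.Q) (hxz : Commute x E.z) (hxk : Commute x E.k) :
    Commute x E.u ∨ Commute (E.u' * x) E.u := by
  set V := E.Q ⊓ centralizer ({E.z} : Set P) ⊓ centralizer ({E.u} : Set P) with hV
  set W := E.Q ⊓ centralizer ({E.z} : Set P) ⊓ centralizer ({E.k} : Set P) with hW
  have hVW : V ≤ W := by
    rintro v ⟨⟨h1, h2⟩, h3⟩
    refine ⟨⟨h1, h2⟩, mem_centralizer_singleton_iff.2 ?_⟩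
    rcases E.mem_V h1 (mem_centralizer_singleton_iff.1 h2) (mem_centralizer_singleton_iff.1 h3) with
      rfl | rfl | rfl | rfl
    · rw [one_mul, mul_one]
    · exact E.zk.eq
    · exact E.uk.eq
    · exact (E.uk.mul_left E.zk).eq
  have hidx : (V.subgroupOf W).index = 2 := by
    have h := (V.subgroupOf W).card_mul_index
    rw [Nat.card_congr (subgroupOfEquivOfLe hVW).toEquiv, E.card_zuQ, E.card_k] at h
    omega
  have mW : ∀ y : P, y ∈ E.Q → Commute y E.z → Commute y E.k → y ∈ W := fun y a b c =>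
    ⟨⟨a, mem_centralizer_singleton_iff.2 b.eq⟩, mem_centralizer_singleton_iff.2 c.eq⟩
  by_cases h : x ∈ V
  · exact Or.inl (mem_centralizer_singleton_iff.1 h.2)
  · refine Or.inr ?_
    have hu' : E.u' ∉ V := fun h' => E.u'u (mem_centralizer_singleton_iff.1 h'.2)
    have := (mul_mem_iff_of_index_two hidx (a := ⟨E.u', mW _ E.u'Q E.u'z E.u'k⟩)
      (b := ⟨x, mW _ hx hxz hxk⟩)).2 (by simp only [mem_subgroupOf]; exact iff_of_false hu' h)
    exact mem_centralizer_singleton_iff.1 (mem_subgroupOf.1 this).2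

/-- The involutions of `C_Q(z, k)`. -/
theorem invol_W {x : P} (hx : E.InD x) (hxz : Commute x E.z) :
    x = E.z ∨ x = E.u ∨ x = E.u * E.z ∨ x = E.u' ∨ x = E.u' * E.z := by
  have u'2 := invol_mul_self E.ord_u'
  rcases E.mem_W hx.1 hxz hx.2.2 with h | h
  · rcases E.mem_V hx.1 hxz h with h | h | h | h
    · exact absurd h (invol_ne_one hx.2.1)
    · exact Or.inl h
    · exact Or.inr (Or.inl h)
    · exact Or.inr (Or.inr (Or.inl h))
  · have e : x = E.u' * (E.u' * x) := by rw [← mul_assoc, u'2, one_mul]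
    have hno : ∀ y : P, orderOf y = 2 → E.u' * y = x → Commute E.u' y := fun y hy hyx => by
      show E.u' * y = y * E.u'
      rw [← invol_inv (x := E.u' * y) (hyx ▸ hx.2.1), mul_inv_rev, invol_inv hy, invol_inv E.ord_u']
    rcases E.mem_V (E.Q.mul_mem E.u'Q hx.1) (E.u'z.mul_left hxz) h with h | h | h | h <;> rw [h] at e
    · exact Or.inr (Or.inr (Or.inr (Or.inl (by rw [e, mul_one]))))
    · exact Or.inr (Or.inr (Or.inr (Or.inr e)))
    · exact absurd (hno _ E.ord_u e.symm) E.u'u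
    · refine absurd ?_ E.u'u
      have := (hno (E.u * E.z) (invol_iff.2 ⟨by
        rw [E.zu.mul_mul_mul_comm, invol_mul_self E.ord_u, invol_mul_self E.ord_z, one_mul],
        fun h => E.u_ne (by rw [← invol_inv E.ord_z]; exact eq_inv_of_mul_eq_one_left h)⟩)
        e.symm).mul_right E.u'z
      rwa [mul_assoc, invol_mul_self E.ord_z, mul_one] at this

/-- The kinds along the four-group of `u'`. -/
theorem fusion' : (E.nn E.u' E.k = 8 ∧ E.nn (E.u' * E.z) E.k = 8 ∧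
      E.nn E.u' (E.k * E.z) = 12 ∧ E.nn (E.u' * E.z) (E.k * E.z) = 12) ∨
    (E.nn E.u' E.k = 12 ∧ E.nn (E.u' * E.z) E.k = 12 ∧
      E.nn E.u' (E.k * E.z) = 8 ∧ E.nn (E.u' * E.z) (E.k * E.z) = 8) := by
  obtain ⟨c, hc, hcu⟩ := (E.inner E.u' E.u'Q E.ord_u' E.u'z).resolve_left fun h => E.u'u (h ▸ E.zu)
  have hcz : c * E.z * c⁻¹ = E.z := by
    rw [(mem_centralizer_singleton_iff.1 hc), mul_inv_cancel_right]
  have cancel : ∀ v : P, c⁻¹ * (c * v * c⁻¹) * c⁻¹⁻¹ = v := fun v => by group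
  obtain ⟨w, hw⟩ : ∃ w : P, c * w * c⁻¹ = E.k := ⟨c⁻¹ * E.k * c, by group⟩
  have hwz : Commute w E.z := by
    have := commute_conj E.zk.symm c⁻¹
    rw [← hw] at this
    nth_rewrite 1 [← hcz] at this
    rwa [cancel, cancel] at this
  have hwu : Commute w E.u := by
    have := commute_conj E.u'k.symm c⁻¹
    rwa [← hw, ← hcu, cancel, cancel] at this
  have hn : E.nn E.z w = 8 := by rw [← E.nn_conj c, hcz, hw, E.nn_z_k]
  have e1 : E.nn E.u' E.k = E.nn E.u w := by rw [← hcu, ← hw, E.nn_conj]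
  have huz' : c * (E.u * E.z) * c⁻¹ = E.u' * E.z := by
    rw [show c * (E.u * E.z) * c⁻¹ = c * E.u * c⁻¹ * (c * E.z * c⁻¹) by group, hcu, hcz]
  have hwz' : c * (w * E.z) * c⁻¹ = E.k * E.z := by
    rw [show c * (w * E.z) * c⁻¹ = c * w * c⁻¹ * (c * E.z * c⁻¹) by group, hw, hcz]
  have e2 : E.nn (E.u' * E.z) E.k = E.nn (E.u * E.z) w := by rw [← huz', ← hw, E.nn_conj]
  have e3 : E.nn E.u' (E.k * E.z) = E.nn E.u (w * E.z) := by rw [← hcu, ← hwz', E.nn_conj]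
  have e4 : E.nn (E.u' * E.z) (E.k * E.z) = E.nn (E.u * E.z) (w * E.z) := by
    rw [← huz', ← hwz', E.nn_conj]
  rw [e1, e2, e3, e4]
  rcases E.mem_kV (fun h => E.kQ (hw ▸ (E.toPairCore.conj_iff c w).2 h)) hwz hwu with
    rfl | rfl | rfl | rfl
  · exact E.fusion.2
  · rw [mul_assoc E.k E.z E.z, invol_mul_self E.ord_z, mul_one]
    rcases E.fusion.2 with h | h <;> omega
  · rw [E.nn_z_ku] at hn; omega
  · rw [E.nn_z_kuz] at hn; omega

theorem inD_z : E.InD E.z := ⟨E.zQ, E.ord_z, E.zk⟩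

/-- Some involution of `D` is of the second kind for `k`, and for `k * z`. -/
theorem exists_twelve {w : P} (hw : w ∉ E.Q) (hw2 : orderOf w = 2) :
    ∃ y, y ∈ E.Q ∧ orderOf y = 2 ∧ Commute y w ∧ E.nn y w = 12 := by
  have hku : orderOf (E.k * E.u) = 2 := invol_iff.2 ⟨by
    rw [E.uk.mul_mul_mul_comm, invol_mul_self E.ord_k, invol_mul_self E.ord_u, one_mul],
    fun h => E.toPairCore.mul_k E.uQ (h ▸ E.Q.one_mem)⟩
  obtain ⟨c, rfl⟩ := isConj_iff.1 ((E.one_class (E.toPairCore.mul_k E.uQ) hku).symm.trans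
    (E.one_class hw hw2))
  exact ⟨c * E.z * c⁻¹, (E.toPairCore.conj_iff c _).2 E.zQ, by rw [orderOf_conj, E.ord_z],
    commute_conj (E.zk.mul_right E.zu) c, by rw [E.nn_conj, E.nn_z_ku]⟩

/-- An involution of the second kind is conjugate in `D` to one commuting with `z`. -/
theorem twelve_W {y : P} (hy : E.InD y) (h12 : E.nn y E.k = 12) :
    ∃ y', E.InD y' ∧ Commute y' E.z ∧ E.nn y' E.k = 12 := by
  have heven : Even (orderOf (y * E.z)) := by
    by_contra hodd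
    rw [Nat.not_even_iff_odd] at hodd
    obtain ⟨j, hj⟩ := id hodd
    have hf : Commute (y * E.z) E.k := hy.2.2.mul_left E.zk
    have hpow : (y * E.z) ^ j * y * ((y * E.z) ^ j)⁻¹ = E.z := by
      have h1 : y * ((y * E.z) ^ j)⁻¹ = (y * E.z) ^ j * y := by
        have hinv : ∀ i : ℕ, y * ((y * E.z) ^ i)⁻¹ = (y * E.z) ^ i * y := by
          intro i
          induction i with
          | zero => simp
          | succ i ih =>
            rw [pow_succ', mul_inv_rev, ← mul_assoc, ih, mul_inv_rev, invol_inv hy.2.1,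
              invol_inv E.ord_z, ← pow_succ', pow_succ]
            simp only [mul_assoc]
        exact hinv j
      rw [mul_assoc, h1, ← mul_assoc, ← pow_add]
      have hp : (y * E.z) ^ (j + j + 1) = 1 := by
        rw [show j + j + 1 = orderOf (y * E.z) by omega, pow_orderOf_eq_one]
      rw [pow_succ, ← mul_assoc] at hp
      calc (y * E.z) ^ (j + j) * y = (E.z)⁻¹ := eq_inv_of_mul_eq_one_left hp
        _ = E.z := invol_inv E.ord_z
    have := E.nn_conj_D (x := y) ((hf.pow_left j))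
    rw [hpow, E.nn_z_k, h12] at this
    omega
  have he2 := half_invol heven
  set e := (y * E.z) ^ (orderOf (y * E.z) / 2)
  have heD : E.InD e := ⟨E.Q.pow_mem (E.Q.mul_mem hy.1 E.zQ) _, he2, (hy.2.2.mul_left E.zk).pow_left _⟩
  have hey : Commute e y := half_comm_left hy.2.1 E.ord_z heven
  have hez : Commute e E.z := half_comm_right hy.2.1 E.ord_z heven
  by_cases he : E.nn e E.k = 12
  · exact ⟨e, heD, hez, he⟩
  · obtain ⟨c, -, hck, hce⟩ := E.conj_of_nn heD E.inD_z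
      ((((E.nn_cases heD).resolve_right he)).trans E.nn_z_k.symm)
    exact ⟨c * y * c⁻¹, E.inD_conj hck hy, by have := commute_conj hey.symm c; rwa [hce] at this,
      (E.nn_conj_D hck).trans h12⟩

/-- Exactly one of `u`, `u'` is of the first kind for `k`. -/
theorem split : ∃ a b : P, ((a = E.u ∧ b = E.u') ∨ (a = E.u' ∧ b = E.u)) ∧
    E.nn a E.k = 8 ∧ E.nn (a * E.z) E.k = 8 ∧ E.nn b E.k = 12 ∧ E.nn (b * E.z) E.k = 12 := by
  have k2 := invol_mul_self E.ord_k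
  rcases E.fusion.2 with ⟨a1, a2, a3, a4⟩ | ⟨a1, a2, a3, a4⟩ <;>
    rcases E.fusion' with ⟨b1, b2, b3, b4⟩ | ⟨b1, b2, b3, b4⟩
  · exfalso
    obtain ⟨y, hyQ, hy2, hyk, hy12⟩ := E.exists_twelve E.kQ E.ord_k
    obtain ⟨y', hy', hy'z, hy'12⟩ := E.twelve_W ⟨hyQ, hy2, hyk⟩ hy12
    rcases E.invol_W hy' hy'z with rfl | rfl | rfl | rfl | rfl
    · rw [E.nn_z_k] at hy'12; omega
    all_goals omega
  · exact ⟨_, _, Or.inl ⟨rfl, rfl⟩, a1, a2, b1, b2⟩
  · exact ⟨_, _, Or.inr ⟨rfl, rfl⟩, b1, b2, a1, a2⟩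
  · exfalso
    -- transport to `k * z` by an element of the centralizer of `z`
    have hkz2 : orderOf (E.k * E.z) = 2 := invol_iff.2 ⟨by
      rw [E.zk.mul_mul_mul_comm, k2, invol_mul_self E.ord_z, one_mul],
      fun h => E.toPairCore.mul_k E.zQ (h ▸ E.Q.one_mem)⟩
    rcases E.outer_case (E.toPairCore.mul_k E.zQ) hkz2 (E.zk.symm.mul_left (Commute.refl _)) with
      ⟨c, hcz, hck, -⟩ | ⟨c, -, -, h⟩
    swap
    · rw [E.nn_z_kz] at h; omega
    obtain ⟨y, hyQ, hy2, hyk, hy12⟩ := E.exists_twelve E.kQ E.ord_k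
    obtain ⟨y', hy', hy'z, hy'12⟩ := E.twelve_W ⟨hyQ, hy2, hyk⟩ hy12
    have hz' := commute_conj hy'z c
    rw [hcz] at hz'
    have hk' := commute_conj hy'.2.2 c
    rw [hck] at hk'
    have hk'' : Commute (c * y' * c⁻¹) E.k := by
      have := hk'.mul_right hz'
      rwa [mul_assoc E.k, invol_mul_self E.ord_z, mul_one] at this
    have hn := E.nn_conj c y' E.k
    rw [hck, hy'12] at hn
    rcases E.invol_W ⟨(E.toPairCore.conj_iff c _).2 hy'.1, by rw [orderOf_conj, hy'.2.1], hk''⟩ hz'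
      with h | h | h | h | h <;> rw [h] at hn
    · rw [E.nn_z_kz] at hn; omega
    all_goals omega

end TenData

end CfsgLib.AltTwoCent
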