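import Cfsg.Agent.Lib.AltTwoCent.TenClasses

/-!
# Degree ten: the pairs of involutions at the two kinds of involutions of `C_Q(k)`
-/

set_option autoImplicit false
set_option linter.style.haveILetI false
set_option linter.unusedSectionVars false

namespace CfsgLib.AltTwoCent

open Subgroup CfsgLib.Involutions

universe u

theorem mul_swap_pow {P : Type u} [Group P] {p q : P} (hp : p * p = 1) (hq : q * q = 1) :
    ∀ i : ℕ, p * (p * q) ^ i = ((p * q) ^ i)⁻¹ * p := by
  intro i
  induction i with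
  | zero => simp
  | succ i ih =>
    calc p * (p * q) ^ (i + 1) = (p * (p * q) ^ i) * (p * q) := by rw [pow_succ, mul_assoc]
      _ = ((p * q) ^ i)⁻¹ * p * (p * q) := by rw [ih]
      _ = ((p * q) ^ i)⁻¹ * q := by rw [mul_assoc, ← mul_assoc p p q, hp, one_mul]
      _ = ((p * q) ^ i)⁻¹ * (q * p) * p := by rw [mul_assoc, mul_assoc, hp, mul_one]
      _ = _ := by
        rw [pow_succ', mul_inv_rev, mul_inv_rev, inv_eq_of_mul_eq_one_right hp,
          inv_eq_of_mul_eq_one_right hq]

theorem even_of_pow_eq {P : Type u} [Group P] {f b : P} (hb : orderOf b = 2) {i : ℕ}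
    (h : f ^ i = b) : Even (orderOf f) := by
  rw [even_iff_two_dvd, ← hb, ← h]
  exact orderOf_pow_dvd i

namespace TenData

variable {P : Type u} [Group P] [Finite P] (E : TenData P)
include E

/-- The named involutions of `C_Q(z, k)`. -/
structure Frame (E : TenData P) where
  a : P
  b : P
  ha : E.InD a
  hb : E.InD b
  az : Commute a E.z
  bz : Commute b E.z
  ab : ¬ Commute a b
  na : E.nn a E.k = 8
  naz : E.nn (a * E.z) E.k = 8
  nb : E.nn b E.k = 12
  nbz : E.nn (b * E.z) E.k = 12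
  list : ∀ x, E.InD x → Commute x E.z → x = E.z ∨ x = a ∨ x = a * E.z ∨ x = b ∨ x = b * E.z

theorem exists_frame : Nonempty (Frame E) := by
  obtain ⟨a, b, hab, h1, h2, h3, h4⟩ := E.split
  have hu : E.InD E.u := ⟨E.uQ, E.ord_u, E.uk⟩
  have hu' : E.InD E.u' := ⟨E.u'Q, E.ord_u', E.u'k⟩
  rcases hab with ⟨rfl, rfl⟩ | ⟨rfl, rfl⟩
  · exact ⟨⟨_, _, hu, hu', E.zu.symm, E.u'z, fun h => E.u'u h.symm, h1, h2, h3, h4,
      fun x hx hxz => E.invol_W hx hxz⟩⟩
  · refine ⟨⟨_, _, hu', hu, E.u'z, E.zu.symm, E.u'u, h1, h2, h3, h4, fun x hx hxz => ?_⟩⟩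
    rcases E.invol_W hx hxz with h | h | h | h | h
    · exact Or.inl h
    · exact Or.inr (Or.inr (Or.inr (Or.inl h)))
    · exact Or.inr (Or.inr (Or.inr (Or.inr h)))
    · exact Or.inr (Or.inl h)
    · exact Or.inr (Or.inr (Or.inl h))

theorem inD_mul {x y : P} (hx : E.InD x) (hy : E.InD y) (hxy : Commute x y) (h : x ≠ y) :
    E.InD (x * y) :=
  ⟨E.Q.mul_mem hx.1 hy.1, invol_iff.2 ⟨by
    rw [hxy.symm.mul_mul_mul_comm, invol_mul_self hx.2.1, invol_mul_self hy.2.1, one_mul],
    fun e => h (by rw [← invol_inv hy.2.1]; exact eq_inv_of_mul_eq_one_left e)⟩, hx.2.2.mul_left hy.2.2⟩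

variable (T : Frame E)
include T

theorem b_ne_z : T.b ≠ E.z := fun h => by
  have := T.nb
  rw [h, E.nn_z_k] at this
  omega

theorem inD_az : E.InD (T.a * E.z) :=
  E.inD_mul T.ha E.inD_z T.az fun h => T.ab (h ▸ T.bz.symm)

theorem inD_bz : E.InD (T.b * E.z) := E.inD_mul T.hb E.inD_z T.bz (E.b_ne_z T)

/-- Moving an involution of the first kind to `z` moves an involution of the second kind commuting
with it to `b` or `b * z`. -/
theorem to_z {p y : P} (hp : E.InD p) (h8 : E.nn p E.k = 8) (hy : E.InD y) (hpy : Commute p y) :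
    ∃ c, Commute c E.k ∧ c * p * c⁻¹ = E.z ∧ (c * y * c⁻¹ = E.z ∨ c * y * c⁻¹ = T.a ∨
      c * y * c⁻¹ = T.a * E.z ∨ c * y * c⁻¹ = T.b ∨ c * y * c⁻¹ = T.b * E.z) := by
  obtain ⟨c, -, hck, hc⟩ := E.conj_of_nn hp E.inD_z (h8.trans E.nn_z_k.symm)
  exact ⟨c, hck, hc, T.list _ (E.inD_conj hck hy) (by
    have := commute_conj hpy.symm c
    rwa [hc] at this)⟩

/-- Two commuting involutions with `b`, one of the first kind. -/
theorem comm_cases {p y : P} (hp : E.InD p) (hpb : Commute p T.b) (h8 : E.nn p E.k = 8)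
    (hy : E.InD y) (hyb : Commute y T.b) (hpy : Commute p y) : y = p ∨ y = T.b ∨ y = p * T.b := by
  obtain ⟨c, hck, hc, hcy⟩ := E.to_z T hp h8 hy hpy
  obtain ⟨c', hck', hc', hcb⟩ := E.to_z T hp h8 T.hb hpb
  -- the image of `b`
  obtain ⟨d, hd⟩ : ∃ d, d = c * T.b * c⁻¹ := ⟨_, rfl⟩
  have hdz : Commute d E.z := by
    have := commute_conj hpb.symm c
    rwa [hc, ← hd] at this
  have hd12 : E.nn d E.k = 12 := by rw [hd, E.nn_conj_D hck, T.nb]
  have hdy : Commute (c * y * c⁻¹) d := hd ▸ commute_conj hyb c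
  have hd' : d = T.b ∨ d = T.b * E.z := by
    rcases T.list d (hd ▸ E.inD_conj hck T.hb) hdz with h | h | h | h | h
    · rw [h, E.nn_z_k] at hd12; omega
    · rw [h, T.na] at hd12; omega
    · rw [h, T.naz] at hd12; omega
    · exact Or.inl h
    · exact Or.inr h
  have z2 := invol_mul_self E.ord_z
  have hb' : Commute (c * y * c⁻¹) T.b := by
    rcases hd' with h | h
    · exact h ▸ hdy
    · have hyz : Commute (c * y * c⁻¹) E.z := by
        have := commute_conj hpy.symm c
        rwa [hc] at this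
      have := hdy.mul_right hyz
      rwa [h, mul_assoc T.b, z2, mul_one] at this
  have cancel : ∀ {x : P}, c * x * c⁻¹ = c * y * c⁻¹ → y = x := fun h =>
    (mul_left_cancel (mul_right_cancel h)).symm
  rcases hcy with h | h | h | h | h
  · exact Or.inl (cancel (hc.trans h.symm))
  · exact absurd (h ▸ hb') T.ab
  · refine absurd ?_ T.ab
    have := (h ▸ hb').mul_left T.bz.symm
    rwa [mul_assoc, z2, mul_one] at this
  · rcases hd' with e | e
    · exact Or.inr (Or.inl (cancel ((hd.symm.trans e).trans h.symm)))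
    · refine Or.inr (Or.inr (cancel ?_))
      rw [show c * (p * T.b) * c⁻¹ = c * p * c⁻¹ * (c * T.b * c⁻¹) by group, hc, ← hd, e, h, ← mul_assoc,
        ← T.bz.eq, mul_assoc, z2, mul_one]
  · rcases hd' with e | e
    · refine Or.inr (Or.inr (cancel ?_))
      rw [show c * (p * T.b) * c⁻¹ = c * p * c⁻¹ * (c * T.b * c⁻¹) by group, hc, ← hd, e, h, T.bz.eq]
    · exact Or.inr (Or.inl (cancel ((hd.symm.trans e).trans h.symm)))

theorem no_four {f : P} (hf : f ∈ E.Q) (hfb : Commute f T.b) (hfk : Commute f E.k) : orderOf f ≠ 4 := by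
  classical
  intro h4
  haveI : Fact (Nat.Prime 2) := ⟨Nat.prime_two⟩
  set R := E.Q ⊓ centralizer ({T.b} : Set P) ⊓ centralizer ({E.k} : Set P) with hR
  have hR12 : Nat.card R = 12 := T.nb
  have mR : ∀ x : P, x ∈ E.Q → Commute x T.b → Commute x E.k → x ∈ R := fun x a b c =>
    ⟨⟨a, mem_centralizer_singleton_iff.2 b.eq⟩, mem_centralizer_singleton_iff.2 c.eq⟩
  let f' : R := ⟨f, mR f hf hfb hfk⟩
  let z' : R := ⟨E.z, mR _ E.zQ T.bz.symm E.zk⟩
  let b' : R := ⟨T.b, mR _ T.hb.1 (Commute.refl _) T.hb.2.2⟩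
  have hp : ∀ (H : Subgroup R), Nat.card H = 4 → ∃ S : Sylow 2 R, (S : Subgroup R) = H := fun H hH =>
    ⟨Sylow.ofCard H (by
      rw [hH, hR12, show (12 : ℕ) = 2 ^ 2 * 3 by norm_num, Nat.factorization_mul (by norm_num) (by norm_num),
        Finsupp.add_apply, Nat.Prime.factorization_pow Nat.prime_two, Finsupp.single_eq_same,
        Nat.factorization_eq_zero_of_not_dvd (show ¬ 2 ∣ 3 by norm_num)]
      norm_num), rfl⟩
  obtain ⟨S₁, hS₁⟩ := hp (zpowers f') (by rw [Nat.card_zpowers, ← Subgroup.orderOf_coe]; exact h4)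
  -- a Sylow subgroup with `z` and `b`
  have hz2 : IsPGroup 2 (zpowers z') :=
    IsPGroup.of_card (n := 1) (by rw [Nat.card_zpowers, ← Subgroup.orderOf_coe]; exact E.ord_z)
  obtain ⟨S₂, hS₂⟩ := hz2.exists_le_sylow
  obtain ⟨h, hh⟩ := MulAction.exists_smul_eq R S₂ S₁
  have hmem : ∀ x : R, x ∈ (S₂ : Subgroup R) → h * x * h⁻¹ ∈ zpowers f' := fun x hx => by
    rw [← hS₁, ← hh, Sylow.coe_subgroup_smul]
    exact ⟨x, hx, rfl⟩
  have hbS : b' ∈ (S₂ : Subgroup R) := by
    obtain ⟨S₃, hS₃⟩ := (IsPGroup.of_card (n := 1) (G := zpowers b')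
      (by rw [Nat.card_zpowers, ← Subgroup.orderOf_coe]; exact T.hb.2.1) : IsPGroup 2 (zpowers b')).exists_le_sylow
    obtain ⟨h', hh'⟩ := MulAction.exists_smul_eq R S₃ S₂
    rw [← hh', Sylow.coe_subgroup_smul]
    refine ⟨b', hS₃ (mem_zpowers _), Subtype.ext ?_⟩
    show (h' : P) * T.b * (h' : P)⁻¹ = T.b
    rw [(mem_centralizer_singleton_iff.1 h'.2.1.2), mul_inv_cancel_right]
  obtain ⟨i, hi⟩ := (mem_powers_iff_mem_zpowers.2 (hmem z' (hS₂ (mem_zpowers _))) :)
  obtain ⟨j, hj⟩ := (mem_powers_iff_mem_zpowers.2 (hmem b' hbS) :)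
  have hzb : h * z' * h⁻¹ = h * b' * h⁻¹ :=
    half_unique (by rw [orderOf_conj, ← Subgroup.orderOf_coe]; exact E.ord_z)
      (by rw [orderOf_conj, ← Subgroup.orderOf_coe]; exact T.hb.2.1) hi hj
  exact (E.b_ne_z T) (congrArg Subtype.val (mul_left_cancel (mul_right_cancel hzb))).symm

/-- If `b` is a power of `p * q`, then `p * b` is conjugate to `q` in `D`. -/
theorem half_b {p q : P} (hp : E.InD p) (hq : E.InD q) (hpb : Commute p T.b) (hqb : Commute q T.b)
    {i : ℕ} (hi : (p * q) ^ i = T.b) : E.nn (p * T.b) E.k = E.nn q E.k := by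
  have p2 := invol_mul_self hp.2.1
  have q2 := invol_mul_self hq.2.1
  have heven := even_of_pow_eq T.hb.2.1 hi
  have hfk : Commute (p * q) E.k := hp.2.2.mul_left hq.2.2
  have hm : T.b = (p * q) ^ (orderOf (p * q) / 2) := half_unique T.hb.2.1 (half_invol heven) hi rfl
  rcases Nat.even_or_odd (orderOf (p * q) / 2) with ⟨m, he⟩ | ⟨j, hj⟩
  · exfalso
    refine E.no_four T (f := (p * q) ^ (orderOf (p * q) / 4)) (E.Q.pow_mem (E.Q.mul_mem hp.1 hq.1) _)
      ((hpb.mul_left hqb).pow_left _) (hfk.pow_left _) ?_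
    obtain ⟨n, hn⟩ := heven
    have hpos := orderOf_pos (p * q)
    rw [orderOf_pow' _ (by omega)]
    rw [show orderOf (p * q) = 4 * m by omega, Nat.mul_div_cancel_left _ (by norm_num),
      Nat.gcd_eq_right ⟨4, by ring⟩, Nat.mul_div_cancel _ (by omega)]
  · have key : p * T.b = ((p * q) ^ j)⁻¹ * q * ((p * q) ^ j)⁻¹⁻¹ := by
      rw [hm, hj, show 2 * j + 1 = j + (1 + j) by omega, pow_add, pow_add, pow_one, ← mul_assoc,
        mul_swap_pow p2 q2, mul_assoc, ← mul_assoc p (p * q), ← mul_assoc p p q, p2, one_mul, inv_inv,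
        mul_assoc]
    rw [key, E.nn_conj_D (hfk.pow_left j).inv_left]

/-- In `C_D(b)` multiplication by `b` exchanges the kinds. -/
theorem flip {p : P} (hp : E.InD p) (hpb : Commute p T.b) (hne : p ≠ T.b) :
    E.InD (p * T.b) ∧ E.nn (p * T.b) E.k = 20 - E.nn p E.k := by
  have hpbD := E.inD_mul hp T.hb hpb hne
  refine ⟨hpbD, ?_⟩
  have z2 := invol_mul_self E.ord_z
  rcases E.nn_cases hp with h8 | h12
  · rw [h8]
    obtain ⟨c, hck, hc, hcb⟩ := E.to_z T hp h8 T.hb hpb
    rw [← E.nn_conj_D (x := p * T.b) hck,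
      show c * (p * T.b) * c⁻¹ = c * p * c⁻¹ * (c * T.b * c⁻¹) by group, hc]
    have h12 := E.nn_conj_D (x := T.b) hck
    rw [T.nb] at h12
    rcases hcb with h | h | h | h | h <;> rw [h] at h12 ⊢
    · rw [E.nn_z_k] at h12; omega
    · rw [T.na] at h12; omega
    · rw [T.naz] at h12; omega
    · rw [← T.bz.eq, T.nbz]
    · rw [← mul_assoc, ← T.bz.eq, mul_assoc, z2, mul_one, T.nb]
  · rw [h12]
    by_contra hne8
    have hpb12 := (E.nn_cases hpbD).resolve_left hne8
    have heven : Even (orderOf (p * E.z)) := by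
      by_contra hodd
      rw [Nat.not_even_iff_odd] at hodd
      obtain ⟨j, hj⟩ := id hodd
      have key : p = ((p * E.z) ^ j)⁻¹ * E.z * ((p * E.z) ^ j)⁻¹⁻¹ := by
        have h1 : (p * E.z) ^ (j + (1 + j)) = 1 := by
          rw [show j + (1 + j) = orderOf (p * E.z) by omega, pow_orderOf_eq_one]
        conv_lhs => rw [← mul_one p, ← h1, pow_add, pow_add, pow_one, ← mul_assoc,
          mul_swap_pow (invol_mul_self hp.2.1) z2, mul_assoc, ← mul_assoc p (p * E.z),
          ← mul_assoc p p E.z, invol_mul_self hp.2.1, one_mul]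
        rw [inv_inv, mul_assoc]
      have h := E.nn_conj_D (c := ((p * E.z) ^ j)⁻¹) (x := E.z) ((hp.2.2.mul_left E.zk).pow_left j).inv_left
      rw [← key, E.nn_z_k, h12] at h
      omega
    set e := (p * E.z) ^ (orderOf (p * E.z) / 2) with he
    have heD : E.InD e := ⟨E.Q.pow_mem (E.Q.mul_mem hp.1 E.zQ) _, half_invol heven,
      (hp.2.2.mul_left E.zk).pow_left _⟩
    have heb : Commute e T.b := (hpb.mul_left T.bz.symm).pow_left _
    have hep : Commute e p := half_comm_left hp.2.1 E.ord_z heven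
    have hez : Commute e E.z := half_comm_right hp.2.1 E.ord_z heven
    have hpz : ¬ Commute p E.z := fun h => by
      rcases E.comm_cases T E.inD_z T.bz.symm E.nn_z_k hp hpb h.symm with h' | h' | h'
      · rw [h', E.nn_z_k] at h12; omega
      · exact hne h'
      · rw [h', mul_assoc, invol_mul_self T.hb.2.1, mul_one, E.nn_z_k] at hpb12; omega
    rcases E.comm_cases T E.inD_z T.bz.symm E.nn_z_k heD heb hez.symm with h' | h' | h'
    · exact hpz (h' ▸ hep).symm
    · have := E.half_b T hp E.inD_z hpb T.bz.symm (he.symm.trans h')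
      rw [E.nn_z_k] at this
      omega
    · refine hpz ?_
      have := (h' ▸ hep).symm.mul_right hpb
      rwa [mul_assoc, invol_mul_self T.hb.2.1, mul_one] at this

/-- Distinct involutions of the first kind in `C_D(b)` have product of odd order. -/
theorem odd_prod {p s : P} (hp : E.InD p) (hs : E.InD s) (hpb : Commute p T.b) (hsb : Commute s T.b)
    (h8 : E.nn p E.k = 8) (hs8 : E.nn s E.k = 8) : Odd (orderOf (p * s)) := by
  by_contra hodd
  rw [Nat.not_odd_iff_even] at hodd
  have hpne : p ≠ T.b := fun h => by rw [h, T.nb] at h8; omega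
  set e := (p * s) ^ (orderOf (p * s) / 2) with he
  have heD : E.InD e := ⟨E.Q.pow_mem (E.Q.mul_mem hp.1 hs.1) _, half_invol hodd,
    (hp.2.2.mul_left hs.2.2).pow_left _⟩
  have heb : Commute e T.b := (hpb.mul_left hsb).pow_left _
  have hep : Commute e p := half_comm_left hp.2.1 hs.2.1 hodd
  have hes : Commute e s := half_comm_right hp.2.1 hs.2.1 hodd
  have hcomm : Commute p s := by
    rcases E.comm_cases T hp hpb h8 heD heb hep.symm with h | h | h
    · exact h ▸ hes
    · have := E.half_b T hp hs hpb hsb (he.symm.trans h)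
      rw [(E.flip T hp hpb hpne).2, h8, hs8] at this
      omega
    · have := (h ▸ hes).mul_left hsb.symm
      rwa [mul_assoc, invol_mul_self T.hb.2.1, mul_one] at this
  rcases E.comm_cases T hp hpb h8 hs hsb hcomm with h | h | h
  · rw [h, invol_mul_self hp.2.1, orderOf_one] at hodd
    exact Nat.not_even_one hodd
  · rw [h, T.nb] at hs8; omega
  · rw [h, (E.flip T hp hpb hpne).2, h8] at hs8; omega

/-- The pairs at `z`. -/
theorem half_z_iff {p q : P} (hp : E.InD p) (hq : E.InD q) (hpz : Commute p E.z) (hqz : Commute q E.z) :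
    (∃ i : ℕ, (p * q) ^ i = E.z) ↔ p ≠ E.z ∧ q ≠ E.z ∧ p ≠ q := by
  have z2 := invol_mul_self E.ord_z
  constructor
  · rintro ⟨i, hi⟩
    have heven := even_of_pow_eq E.ord_z hi
    have two : ∀ x : P, orderOf x = 2 → ∀ i : ℕ, x ^ i = E.z → x = E.z := fun x hx i h =>
      half_unique hx E.ord_z (pow_one x) h
    refine ⟨fun e => ?_, fun e => ?_, fun e => ?_⟩
    · subst e
      by_cases h : E.z = q
      · rw [← h, z2, orderOf_one] at heven; exact Nat.not_even_one heven
      · exact invol_ne_one hq.2.1 (mul_eq_left.1 (two _ (E.inD_mul hp hq hqz.symm h).2.1 i hi))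
    · subst e
      by_cases h : p = E.z
      · rw [h, z2, orderOf_one] at heven; exact Nat.not_even_one heven
      · exact invol_ne_one hp.2.1 (mul_eq_right.1 (two _ (E.inD_mul hp hq hpz h).2.1 i hi))
    · subst e
      rw [invol_mul_self hp.2.1, orderOf_one] at heven; exact Nat.not_even_one heven
  · rintro ⟨h1, h2, h3⟩
    have a2 := invol_mul_self T.ha.2.1
    have b2 := invol_mul_self T.hb.2.1
    have az2 : T.a * (T.a * E.z) = E.z := by rw [← mul_assoc, a2, one_mul]
    have za2 : T.a * E.z * T.a = E.z := by rw [T.az.eq, mul_assoc, a2, mul_one]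
    have bz2 : T.b * (T.b * E.z) = E.z := by rw [← mul_assoc, b2, one_mul]
    have zb2 : T.b * E.z * T.b = E.z := by rw [T.bz.eq, mul_assoc, b2, mul_one]
    -- `b a b = a z`
    have hbab : T.b * T.a * T.b = T.a * E.z := by
      have hk : Commute T.b E.k := T.hb.2.2
      have hc : T.b * T.a * T.b = T.b * T.a * T.b⁻¹ := by rw [invol_inv T.hb.2.1]
      have h8 : E.nn (T.b * T.a * T.b) E.k = 8 := by rw [hc, E.nn_conj_D hk, T.na]
      rcases T.list _ (hc ▸ E.inD_conj hk T.ha) ((T.bz.mul_left T.az).mul_left T.bz) with h | h | h | h | h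
      · exfalso
        refine T.ab ?_
        have e : T.a = E.z := by
          have := congrArg (fun x => T.b * x * T.b) h
          simp only [← mul_assoc, b2, one_mul] at this
          rwa [mul_assoc, b2, mul_one, T.bz.eq, mul_assoc, b2, mul_one] at this
        exact e ▸ T.bz.symm
      · refine absurd ?_ T.ab
        show T.a * T.b = T.b * T.a
        conv_lhs => rw [← h]
        rw [mul_assoc, b2, mul_one]
      · exact h
      · rw [h, T.nb] at h8; omega
      · rw [h, T.nbz] at h8; omega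
    have habab : T.a * T.b * (T.a * T.b) = E.z := by
      rw [show T.a * T.b * (T.a * T.b) = T.a * (T.b * T.a * T.b) by group, hbab, az2]
    have hbaba : T.b * T.a * (T.b * T.a) = E.z := by
      rw [show T.b * T.a * (T.b * T.a) = T.b * T.a * T.b * T.a by group, hbab, za2]
    have sq : ∀ x y : P, (x * y) ^ 2 = E.z → ∀ x' y', x' = x ∨ x' = x * E.z → y' = y ∨ y' = y * E.z →
        Commute x E.z → Commute y E.z → (x' * y') ^ 2 = E.z := by
      intro x y h x' y' hx hy hxz hyz
      rw [pow_two] at h ⊢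
      have hc : Commute (x * y) E.z := hxz.mul_left hyz
      rcases hx with e1 | e1 <;> rcases hy with e2 | e2 <;> rw [e1, e2]
      · exact h
      · rw [← mul_assoc x y, hc.symm.mul_mul_mul_comm, h, z2, mul_one]
      · rw [mul_assoc x E.z y, ← hyz.eq, ← mul_assoc x y, hc.symm.mul_mul_mul_comm, h, z2, mul_one]
      · rw [show x * E.z * (y * E.z) = x * y * (E.z * E.z) by rw [hyz.symm.mul_mul_mul_comm], z2, mul_one, h]
    have hab2 : (T.a * T.b) ^ 2 = E.z := by rw [pow_two, habab]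
    have hba2 : (T.b * T.a) ^ 2 = E.z := by rw [pow_two, hbaba]
    rcases T.list p hp hpz with e | e | e | e | e <;> rcases T.list q hq hqz with f | f | f | f | f <;>
      subst e f
    all_goals first
      | exact absurd rfl h1
      | exact absurd rfl h2
      | exact absurd rfl h3
      | exact ⟨1, by rw [pow_one]; assumption⟩
      | exact ⟨2, sq _ _ hab2 _ _ (Or.inl rfl) (Or.inl rfl) T.az T.bz⟩
      | exact ⟨2, sq _ _ hab2 _ _ (Or.inl rfl) (Or.inr rfl) T.az T.bz⟩
      | exact ⟨2, sq _ _ hab2 _ _ (Or.inr rfl) (Or.inl rfl) T.az T.bz⟩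
      | exact ⟨2, sq _ _ hab2 _ _ (Or.inr rfl) (Or.inr rfl) T.az T.bz⟩
      | exact ⟨2, sq _ _ hba2 _ _ (Or.inl rfl) (Or.inl rfl) T.bz T.az⟩
      | exact ⟨2, sq _ _ hba2 _ _ (Or.inl rfl) (Or.inr rfl) T.bz T.az⟩
      | exact ⟨2, sq _ _ hba2 _ _ (Or.inr rfl) (Or.inl rfl) T.bz T.az⟩
      | exact ⟨2, sq _ _ hba2 _ _ (Or.inr rfl) (Or.inr rfl) T.bz T.az⟩

/-- The pairs at `b`. -/
theorem half_b_iff {p q : P} (hp : E.InD p) (hq : E.InD q) (hpb : Commute p T.b) (hqb : Commute q T.b) :
    (∃ i : ℕ, (p * q) ^ i = T.b) ↔ p ≠ T.b ∧ q ≠ T.b ∧ E.nn p E.k ≠ E.nn q E.k := by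
  have b2 := invol_mul_self T.hb.2.1
  constructor
  · rintro ⟨i, hi⟩
    have hpn : p ≠ T.b := fun h => by
      subst h
      have := E.half_b T hp hq hpb hqb hi
      rw [b2] at this
      have hone : T.b = q := by
        by_contra hne
        exact invol_ne_one hq.2.1 (mul_eq_left.1
          (half_unique (E.inD_mul hp hq hqb.symm hne).2.1 T.hb.2.1 (pow_one _) hi))
      subst hone
      rw [b2, one_pow] at hi
      exact invol_ne_one T.hb.2.1 hi.symm
    have hqn : q ≠ T.b := fun h => by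
      subst h
      exact invol_ne_one hp.2.1 (mul_eq_right.1
        (half_unique (E.inD_mul hp hq hpb hpn).2.1 T.hb.2.1 (pow_one _) hi))
    refine ⟨hpn, hqn, fun e => ?_⟩
    have := E.half_b T hp hq hpb hqb hi
    rw [(E.flip T hp hpb hpn).2, e] at this
    rcases E.nn_cases hq with h | h <;> omega
  · rintro ⟨hpn, hqn, hne⟩
    have main : ∀ p q : P, E.InD p → E.InD q → Commute p T.b → Commute q T.b → q ≠ T.b →
        E.nn p E.k = 8 → E.nn q E.k = 12 → ∃ i : ℕ, (p * q) ^ i = T.b := by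
      intro p q hp hq hpb hqb hqn h8 h12
      obtain ⟨hsD, hs⟩ := E.flip T hq hqb hqn
      rw [h12] at hs
      have hodd := E.odd_prod T hp hsD hpb (hqb.mul_left (Commute.refl _)) h8 hs
      refine ⟨orderOf (p * (q * T.b)), ?_⟩
      have e : p * q = p * (q * T.b) * T.b := by rw [mul_assoc, mul_assoc q, b2, mul_one]
      obtain ⟨j, hj⟩ := hodd
      rw [e, (hpb.mul_left (hqb.mul_left (Commute.refl T.b))).mul_pow, pow_orderOf_eq_one, one_mul, hj,
        pow_succ, pow_mul, sq, b2, one_pow, one_mul]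
    rcases E.nn_cases hp with h | h <;> rcases E.nn_cases hq with h' | h'
    · omega
    · exact main p q hp hq hpb hqb hqn h h'
    · obtain ⟨i, hi⟩ := main q p hq hp hqb hpb hpn h' h
      refine ⟨i, ?_⟩
      rw [show p * q = (q * p)⁻¹ by rw [mul_inv_rev, invol_inv hp.2.1, invol_inv hq.2.1], inv_pow, hi,
        invol_inv T.hb.2.1]
    · omega

end TenData

end CfsgLib.AltTwoCent
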