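import Cfsg.Agent.Lib.AltTwoCent.TenImages

/-!
# S1645, piece C10: the pairs counted at `z`
-/

set_option autoImplicit false
set_option maxRecDepth 100000
set_option linter.style.haveILetI false
set_option linter.unusedSectionVars false

namespace CfsgLib.AltTwoCent.Ten

open Subgroup Equiv

universe u

variable {G : Type u} [Group G] [Finite G] {D : Cov 10 G} (A : AElt D)

/-- The pairs of lists whose product has `z` as a power. -/
def goodL : List (List ℕ × List ℕ) :=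
  (innerL ×ˢ outerL).filter fun r => pairGood (comp r.1 r.2) (ordL (comp r.1 r.2))

theorem goodL_length : goodL.length = 594 := by
  rw [← pair_facts.2, goodL, show innerL ×ˢ outerL =
    innerL.flatMap (fun p => outerL.map (Prod.mk p)) from rfl, List.filter_flatMap,
    List.length_flatMap]
  simp only [List.filter_map, List.length_map, List.countP_eq_length_filter, Function.comp_def]

/-- Pairs of lifts, the product having `z` as a power. -/
def LiftPair (D : Cov 10 G) : Type u :=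
  {r : ↥(HH D) × ↥(HH D) // imL D r.1 ∈ innerL ∧ imL D r.2 ∈ outerL ∧
    D.z ∈ zpowers ((r.1 : G) * r.2)}

theorem good_iff {x y : ↥(HH D)} (hx : imL D x ∈ innerL) (hy : imL D y ∈ outerL) :
    D.z ∈ zpowers ((x : G) * y) ↔ (imL D x, imL D y) ∈ goodL := by
  obtain ⟨hm, hpow, hmin⟩ := pair_facts.1 _ hx _ hy
  have h := z_mem_iff (D := D) (h := x * y) hm (by rwa [imL_mul]) (by rwa [imL_mul])
  rw [imL_mul, Subgroup.coe_mul] at h
  rw [h, goodL, List.mem_filter, List.mem_product]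
  exact ⟨fun e => ⟨⟨hx, hy⟩, e⟩, fun e => e.2⟩

theorem good_mem {r : List ℕ × List ℕ} (h : r ∈ goodL) : r.1 ∈ innerL ∧ r.2 ∈ outerL := by
  obtain ⟨a, b⟩ := r
  exact List.mem_product.1 (List.mem_of_mem_filter h)

theorem card_fibre {p : List ℕ} (hp : p ∈ sL :: xkL :: u'L :: innerL ++ outerL) :
    Nat.card {x : ↥(HH D) // imL D x = p} = 2 := by
  rw [← Nat.card_congr (Equiv.subtypeEquivRight (fun x => List.mem_singleton)),
    card_lifts D (List.nodup_singleton p) fun q hq => by rwa [List.mem_singleton.1 hq]]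
  rfl

theorem card_lift_pairs {L : List (List ℕ × List ℕ)} (hn : L.Nodup)
    (hL : ∀ r ∈ L, r.1 ∈ sL :: xkL :: u'L :: innerL ++ outerL ∧
      r.2 ∈ sL :: xkL :: u'L :: innerL ++ outerL) :
    Nat.card {r : ↥(HH D) × ↥(HH D) // (imL D r.1, imL D r.2) ∈ L} = L.length * 4 := by
  let f : (Σ i : Fin L.length, {x : ↥(HH D) // imL D x = (L.get i).1} ×
      {y : ↥(HH D) // imL D y = (L.get i).2}) →
      {r : ↥(HH D) × ↥(HH D) // (imL D r.1, imL D r.2) ∈ L} := fun s =>
    ⟨(s.2.1.1, s.2.2.1), by rw [s.2.1.2, s.2.2.2]; exact List.get_mem L s.1⟩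
  have hf : Function.Bijective f := by
    constructor
    · rintro ⟨i, ⟨x, hx⟩, ⟨y, hy⟩⟩ ⟨j, ⟨x', hx'⟩, ⟨y', hy'⟩⟩ e
      have e' : (x, y) = (x', y') := congrArg Subtype.val e
      obtain ⟨rfl, rfl⟩ := Prod.mk.injEq .. ▸ e'
      obtain rfl := hn.injective_get (Prod.ext (hx.symm.trans hx') (hy.symm.trans hy'))
      rfl
    · rintro ⟨⟨x, y⟩, h⟩
      obtain ⟨i, hi⟩ := List.mem_iff_get.1 h
      exact ⟨⟨i, ⟨x, by rw [hi]⟩, ⟨y, by rw [hi]⟩⟩, rfl⟩
  rw [← Nat.card_eq_of_bijective f hf, Nat.card_sigma]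
  have hc : ∀ i : Fin L.length, Nat.card ({x : ↥(HH D) // imL D x = (L.get i).1} ×
      {y : ↥(HH D) // imL D y = (L.get i).2}) = 4 := fun i => by
    rw [Nat.card_prod, card_fibre (hL _ (List.get_mem L i)).1,
      card_fibre (hL _ (List.get_mem L i)).2]
  rw [Finset.sum_congr rfl fun i _ => hc i, Finset.sum_const, Finset.card_univ, Fintype.card_fin,
    smul_eq_mul]

theorem card_liftPair : Nat.card (LiftPair D) = 2376 := by
  have hn : goodL.Nodup := (lists_facts.2.2.1.product lists_facts.2.2.2.1).filter _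
  have h := card_lift_pairs (D := D) hn fun r hr =>
    ⟨inner_mem (good_mem hr).1, outer_mem (good_mem hr).2⟩
  rw [goodL_length] at h
  rw [← show 594 * 4 = 2376 from rfl, ← h, LiftPair]
  refine Nat.card_congr (Equiv.subtypeEquivRight fun r => ⟨fun h => (good_iff h.1 h.2.1).1 h.2.2,
    fun h => ⟨(good_mem h).1, (good_mem h).2, (good_iff (good_mem h).1 (good_mem h).2).2 h⟩⟩)

/-- A power of the image equal to the image of `z` gives `z` as a power. -/
theorem z_pow_iff {w : G} (hw : w ∈ NN A) :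
    (∃ i : ℕ, qq A ⟨w, hw⟩ ^ i = zL A) ↔ D.z ∈ zpowers w := by
  constructor
  · rintro ⟨i, hi⟩
    rw [← map_pow] at hi
    obtain ⟨l, hl⟩ := (q_eq A (pow_mem hw i) (comm_mem A (za A))).1 hi
    have h3 : w ^ i = D.z * ((A.a : G) ^ (l : ℕ))⁻¹ := eq_mul_inv_of_mul_eq hl.symm
    have hz : (w ^ i) ^ 3 = D.z := by
      rw [h3, (((za A).pow_right (l : ℕ)).inv_right).mul_pow, inv_pow, ← pow_mul, mul_comm (l : ℕ) 3,
        pow_mul, a_cube, one_pow, inv_one, mul_one, pow_succ, sq, D.z_sq, one_mul]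
    rw [← hz, ← pow_mul]
    exact pow_mem (mem_zpowers w) _
  · intro h
    classical
    obtain ⟨i, -, hi⟩ := Finset.mem_image.1 (mem_zpowers_iff_mem_range_orderOf.1 h)
    exact ⟨i, by rw [← map_pow]; exact congrArg (qq A) (Subtype.ext hi)⟩

theorem zpair_key {v w : Loc (A.a : G)} :
    (v ∈ QQ A ∧ w ∉ QQ A ∧ orderOf v = 2 ∧ orderOf w = 2 ∧ Commute v (zL A) ∧ Commute w (zL A) ∧
      ∃ i : ℕ, (v * w) ^ i = zL A) ↔
    v ∈ imgs A innerL ∧ w ∈ imgs A outerL ∧ ∃ i : ℕ, (v * w) ^ i = zL A := by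
  constructor
  · rintro ⟨hv, hw, h1, h2, c1, c2, i, hi⟩
    refine ⟨(inner_iff A).1 ⟨hv, h1, c1, fun e => ?_⟩, (outer_iff A).1 ⟨hw, h2, c2⟩, i, hi⟩
    subst e
    have hzw : (zL A * w) ^ 2 = 1 := by
      rw [(show Commute (zL A) w from c2.symm).mul_pow, ← h1, pow_orderOf_eq_one, h1, ← h2,
        pow_orderOf_eq_one, one_mul]
    rw [← Nat.div_add_mod i 2, pow_add, pow_mul, hzw, one_pow, one_mul] at hi
    rcases Nat.mod_two_eq_zero_or_one i with e | e <;> rw [e] at hi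
    · rw [pow_zero] at hi
      rw [← hi, orderOf_one] at h1
      omega
    · rw [pow_one] at hi
      rw [mul_eq_left.1 hi, orderOf_one] at h2
      omega
  · rintro ⟨hv, hw, h⟩
    obtain ⟨a1, a2, a3, -⟩ := (inner_iff A).2 hv
    obtain ⟨b1, b2, b3⟩ := (outer_iff A).2 hw
    exact ⟨a1, b1, a2, b2, a3, b3, h⟩

theorem card_zpairs : Nat.card (ZPair (QQ A) (zL A)) = 792 := by
  choose rI hIN hIq hIL using fun v : imgs A innerL => v.2
  choose rO hON hOq hOL using fun v : imgs A outerL => v.2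
  let P1 : ZPair (QQ A) (zL A) → imgs A innerL := fun p => ⟨_, ((zpair_key A).1 p.2).1⟩
  let P2 : ZPair (QQ A) (zL A) → imgs A outerL := fun p => ⟨_, ((zpair_key A).1 p.2).2.1⟩
  let f : ZPair (QQ A) (zL A) × Fin 3 → LiftPair D := fun r =>
    ⟨(rI (P1 r.1), rO (P2 r.1) * A.a ^ (r.2 : ℕ)), hIL _, (shift_outer A (hOL _) _).1, by
      refine (z_pow_iff A (mul_mem (hIN _) (outer_NN A (shift_outer A (hOL _) _).1))).1 ?_
      obtain ⟨i, hi⟩ := ((zpair_key A).1 r.1.2).2.2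
      refine ⟨i, ?_⟩
      refine Eq.trans (congrArg (· ^ i) ?_) hi
      have e : qq A ⟨((rO (P2 r.1) * A.a ^ (r.2 : ℕ) : ↥(HH D)) : G),
          outer_NN A (shift_outer A (hOL _) _).1⟩ = (P2 r.1).1 := by
        rw [← hOq (P2 r.1), eq_comm, q_eq A]
        exact ⟨r.2, by push_cast; rfl⟩
      rw [show r.1.1.1 = (P1 r.1).1 from rfl, show r.1.1.2 = (P2 r.1).1 from rfl, ← hIq (P1 r.1),
        ← e, ← map_mul]
      rfl⟩
  have hf : Function.Bijective f := by
    constructor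
    · rintro ⟨p, l⟩ ⟨p', l'⟩ e
      have e1 : rI (P1 p) = rI (P1 p') := congrArg (fun r : LiftPair D => r.1.1) e
      have e2 : rO (P2 p) * A.a ^ (l : ℕ) = rO (P2 p') * A.a ^ (l' : ℕ) :=
        congrArg (fun r : LiftPair D => r.1.2) e
      have h1 : (P1 p).1 = (P1 p').1 := by
        rw [← hIq (P1 p), ← hIq (P1 p')]
        exact congrArg (qq A) (Subtype.ext (congrArg (fun x : ↥(HH D) => (x : G)) e1))
      have e2' : (rO (P2 p) : G) * (A.a : G) ^ (l : ℕ) = rO (P2 p') * (A.a : G) ^ (l' : ℕ) := by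
        simpa using congrArg (fun x : ↥(HH D) => (x : G)) e2
      have h2 : P2 p = P2 p' := Subtype.ext (by
        rw [← hOq (P2 p), ← hOq (P2 p'), q_eq A]
        refine ⟨(l + 2 * l' : Fin 3), ?_⟩
        rw [eq_comm, ← mul_left_inj ((A.a : G) ^ (l' : ℕ)), ← e2', mul_assoc, ← pow_add]
        congr 1
        rw [pow_eq_pow_iff_modEq, A.ord]
        exact (by decide : ∀ l m : Fin 3, (((l + 2 * m : Fin 3) : ℕ) + m) % 3 = (l : ℕ) % 3) l l')
      have hp : p = p' := Subtype.ext (Prod.ext h1 (congrArg Subtype.val h2))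
      rw [h2, mul_right_inj, pow_eq_pow_iff_modEq, A.ord] at e2'
      refine Prod.ext hp (Fin.ext ?_)
      have h : (l : ℕ) % 3 = (l' : ℕ) % 3 := e2'
      have := l.isLt
      have := l'.isLt
      show (l : ℕ) = l'
      omega
    · rintro ⟨⟨x, y⟩, hx, hy, hz⟩
      have hkey := (zpair_key A).2 ⟨⟨x, inner_NN A hx, rfl, hx⟩, ⟨y, outer_NN A hy, rfl, hy⟩, by
        obtain ⟨i, hi⟩ := (z_pow_iff A (mul_mem (inner_NN A hx) (outer_NN A hy))).2 hz
        exact ⟨i, by rw [← map_mul]; exact hi⟩⟩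
      let p : ZPair (QQ A) (zL A) :=
        ⟨(qq A ⟨(x : G), inner_NN A hx⟩, qq A ⟨(y : G), outer_NN A hy⟩), hkey⟩
      obtain ⟨l, hl⟩ := (q_eq A (hON (P2 p)) (outer_NN A hy)).1 (hOq (P2 p))
      refine ⟨(p, l), Subtype.ext (Prod.ext ?_ ?_)⟩
      · exact inner_unique A (hIN (P1 p)) (inner_NN A hx) (hIq (P1 p)) (hIL _) hx
      · exact Subtype.ext (by push_cast; exact hl.symm)
  have h := Nat.card_eq_of_bijective f hf
  rw [Nat.card_prod, Nat.card_fin, card_liftPair] at h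
  omega

end CfsgLib.AltTwoCent.Ten
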