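import Cfsg.Agent.Lib.AltTwoCent.TenFrame
import Cfsg.Agent.Lib.AltTwoCent.TenPairs

/-!
# S1645, piece C10: the data of `N(⟨a⟩)/⟨a⟩` in degree ten
-/

set_option autoImplicit false
set_option maxRecDepth 100000
set_option linter.style.haveILetI false
set_option linter.unusedSectionVars false

namespace CfsgLib.AltTwoCent.Ten

open Subgroup Equiv

universe u

variable {G : Type u} [Group G] [Finite G] {D : Cov 10 G} (A : AElt D)

/-- The inner lists commuting with `l` without the twist. -/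
def cL : List (List ℕ) :=
  innerL.filter fun p => (comp p lL == comp lL p) && (suppL (comp p lL) % 8 == 0)

theorem cL_length : cL.length = 3 := by
  rw [cL, ← List.countP_eq_length_filter]
  exact special_facts.2.2.2.2.2.2.2.2.2.2.2.2.2.2.2.2.2.2.2.2.2.2.2

theorem card_invol_l (T : Frame (D := D)) :
    Nat.card {v : Loc (A.a : G) // v ∈ QQ A ∧ orderOf v = 2 ∧ Commute v (zL A) ∧
      Commute v (T.qk A * T.qu A)} = 7 := by
  rw [T.qk_mul_qu A]
  have hl2 := (outer_props T.mem_l).1.1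
  have hlf : comp lL lL = idL ∧ suppL lL = 8 :=
    ⟨(lists_facts.2.2.2.2.2.1 _ lists_facts.2.2.2.2.2.2.2.2.1).1,
      (lists_facts.2.2.2.2.2.1 _ lists_facts.2.2.2.2.2.2.2.2.1).2.1⟩
  have hset : {v : Loc (A.a : G) | v ∈ QQ A ∧ orderOf v = 2 ∧ Commute v (zL A) ∧
      Commute v (qq A ⟨((T.k * T.u : ↥(HH D)) : G), outer_NN A T.mem_l⟩)} =
      insert (zL A) (imgs A cL) := by
    ext v
    rw [Set.mem_ofPred_eq, Set.mem_insert_iff]
    constructor
    · rintro ⟨hQ, h2, hz, hc⟩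
      refine (Classical.em (v = zL A)).imp id fun hne => ?_
      obtain ⟨x, hx, rfl, hL⟩ := (inner_iff A).1 ⟨hQ, h2, hz, hne⟩
      have hcx : Commute ((T.k * T.u : ↥(HH D)) : G) (x : G) :=
        of_comm A (outer_NN A T.mem_l) (inner_comm A hL) (inner_props hL).1.1 hc.symm
      obtain ⟨hp2, hp8, -⟩ := lists_facts.2.2.2.2.1 _ hL
      have hcc : comp (imL D x) lL = comp lL (imL D x) := by
        rw [← T.hl, ← imL_mul, ← imL_mul]
        exact congrArg (imL D) (Subtype.ext hcx.symm.eq)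
      refine ⟨x, hx, rfl, List.mem_filter.2 ⟨hL, ?_⟩⟩
      rw [Bool.and_eq_true, beq_iff_eq, beq_iff_eq]
      refine ⟨hcc, ?_⟩
      by_contra h8
      have e := anti_of_imL D (x := x) (y := T.k * T.u) hp2 (by rw [T.hl]; exact hlf.1)
        (by rw [T.hl, hlf.2]) (by rw [T.hl]; exact hcc)
        (by rw [T.hl, hp8]; exact fun e => h8 (e.1 rfl))
      rw [hcx.symm.eq, mul_inv_cancel_right] at e
      exact D.z_ne (mul_eq_left.1 e.symm)
    · rintro (rfl | ⟨x, hx, rfl, hL⟩)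
      · exact ⟨(mem_QQ A _).2 (za A), orderOf_qq A _ D.z_sq D.z_ne, Commute.refl _,
          (comm_zL A _ (outer_NN A T.mem_l)).symm⟩
      · obtain ⟨hi, hb⟩ := List.mem_filter.1 hL
        rw [Bool.and_eq_true, beq_iff_eq, beq_iff_eq] at hb
        obtain ⟨h1, h2, h3, -⟩ := (inner_iff A).2 ⟨x, hx, rfl, hi⟩
        refine ⟨h1, h2, h3, comm_qq A _ _ ?_⟩
        obtain ⟨hp2, hp8, -⟩ := lists_facts.2.2.2.2.1 _ hi
        exact commute_of_imL D (x := x) (y := T.k * T.u) hp2 (by rw [T.hl]; exact hlf.1)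
          (by rw [T.hl, hlf.2]) (by rw [T.hl]; exact hb.1)
          (by rw [T.hl, hp8]; exact iff_of_true rfl hb.2)
  have hsub : ∀ p ∈ cL, p ∈ innerL := fun p hp => List.mem_of_mem_filter hp
  have hz : zL A ∉ imgs A cL := fun ⟨x, hx, e, hL⟩ =>
    ((inner_iff A).2 ⟨x, hx, e, hsub _ hL⟩).2.2.2 rfl
  show Nat.card {v : Loc (A.a : G) | v ∈ QQ A ∧ orderOf v = 2 ∧ Commute v (zL A) ∧
    Commute v (qq A ⟨((T.k * T.u : ↥(HH D)) : G), outer_NN A T.mem_l⟩)} = 7
  rw [hset, Nat.card_coe_set_eq, Set.ncard_insert_of_notMem hz (Set.toFinite _),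
    ← Nat.card_coe_set_eq, card_imgs_inner A (L := cL) (lists_facts.2.2.1.filter _) hsub, cL_length]

theorem ten_data {u : ↥(HH D)} (hu : imL D u = uL) {g : G} (ga : Commute g (A.a : G))
    (gz : g * D.z * g⁻¹ = u) (gu : g * u * g⁻¹ = (u : G) * D.z) :
    Nonempty (TenData (Loc (A.a : G))) := by
  obtain ⟨T, rfl⟩ := exists_frame hu
  obtain ⟨hidx, hkQ⟩ := index_QQ A (outer_inv A T.mem_k)
  have hN := normal_of_index_eq_two hidx
  have hku : Commute (T.qk A) (T.qu A) := comm_qq A _ _ T.comm_ku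
  have hku' : Commute (T.qk A) (T.qu' A) := comm_qq A _ _ T.comm_ku'
  have hkz : T.qk A ∈ ZZ A := (mem_ZZ A).2 (comm_zL A _ _)
  have hu4 : Nat.card {v : Loc (A.a : G) // ∃ c ∈ ZZ A, c * T.qu A * c⁻¹ = v} = 36 := by
    rw [Nat.card_congr (Equiv.subtypeEquivRight fun v => T.orbit_u A (v := v))]
    exact card_imgs_inner A lists_facts.2.2.1 (fun _ h => h) |>.trans (by rw [lists_facts.1])
  have horb : ∀ {t : ℕ} {b : Loc (A.a : G)}, b ∈ imgs A (oL t) →
      Nat.card {v : Loc (A.a : G) // ∃ c ∈ ZZ A, c * b * c⁻¹ = v} = (oL t).length * 2 / 3 := by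
    intro t b hb
    rw [Nat.card_congr (Equiv.subtypeEquivRight fun v => T.orbit_oL A hb (v := v)),
      ← card_imgs_outer A t, Nat.mul_div_cancel_left _ (by norm_num)]
  have hkk := horb (t := 4) (b := T.qk A) ⟨T.k, _, rfl, T.mem_k4⟩
  have hll := horb (t := 2) (b := T.qk A * T.qu A)
    (by rw [T.qk_mul_qu A]; exact ⟨_, _, rfl, T.mem_l2⟩)
  have hll' := horb (t := 2) (b := T.qk A * T.qu' A)
    (by rw [T.qk_mul_qu' A]; exact ⟨_, _, rfl, T.mem_l'2⟩)
  rw [oL_lengths.1] at hkk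
  rw [oL_lengths.2] at hll hll'
  obtain ⟨hcu, hcuQ⟩ := T.card_pair A hu4 hkz hku hkQ
  obtain ⟨-, hckQ⟩ := T.card_pair A hkk hkz (Commute.refl _) hkQ
  obtain ⟨-, hclQ⟩ := T.card_pair A hll hkz ((Commute.refl _).mul_right hku) hkQ
  obtain ⟨-, hclQ'⟩ := T.card_pair A hll' hkz ((Commute.refl _).mul_right hku') hkQ
  unfold ZZ at hcu hcuQ hckQ hclQ hclQ'
  obtain ⟨⟨hu2, hu1, huz⟩, -⟩ := inner_props T.mem_u
  obtain ⟨⟨hu'2, hu'1, -⟩, -⟩ := inner_props T.mem_u'
  obtain ⟨⟨hk2, hk1, -⟩, -⟩ := outer_props T.mem_k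
  exact ⟨{
    Q := QQ A
    index := hidx
    z := zL A
    u := T.qu A
    g := qq A ⟨g, comm_mem A ga⟩
    k := T.qk A
    zQ := (mem_QQ A _).2 (za A)
    uQ := (mem_QQ A _).2 (inner_comm A T.mem_u)
    gQ := (mem_QQ A _).2 ga
    kQ := hkQ
    ord_z := orderOf_qq A _ D.z_sq D.z_ne
    ord_u := orderOf_qq A _ hu2 hu1
    ord_k := orderOf_qq A _ hk2 hk1
    zu := (comm_zL A _ _).symm
    zk := (comm_zL A _ _).symm
    u_ne := ((inner_iff A).2 ⟨T.u, _, rfl, T.mem_u⟩).2.2.2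
    gz := conj_qq A _ _ _ gz
    gu := (conj_qq A _ _ (mul_mem (inner_NN A T.mem_u) (comm_mem A (za A))) gu).trans
      (by rw [← map_mul]; rfl)
    card_z := card_cent_zL A (outer_inv A T.mem_k)
    card_zu := by omega
    card_zuQ := by omega
    inner := fun v hv h2 hz => (Classical.em (v = zL A)).imp id fun hne =>
      T.inner_conj A ((inner_iff A).1 ⟨hv, h2, hz, hne⟩)
    uk := hku.symm
    card_k := by omega
    card_l := by omega
    outer := fun v hv h2 hz => T.outer_conj A ((outer_iff A).1 ⟨hv, h2, hz⟩)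
    s := qq A ⟨(T.s : G), comm_mem A T.s_a⟩
    sQ := (mem_QQ A _).2 T.s_a
    sz := comm_zL A _ _
    sk := comm_qq A _ _ T.s_k
    su := (conj_qq A _ _ (mul_mem (inner_NN A T.mem_u) (comm_mem A (za A))) T.s_u).trans
      (by rw [← map_mul]; rfl)
    u' := T.qu' A
    u'Q := (mem_QQ A _).2 (inner_comm A T.mem_u')
    ord_u' := orderOf_qq A _ hu'2 hu'1
    u'z := comm_zL A _ _
    u'k := hku'.symm
    u'u := fun h => T.not_comm_uu'
      (of_comm A (inner_NN A T.mem_u') (inner_comm A T.mem_u) hu2 h)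
    u'l := by omega
    invol_l := card_invol_l A T
    card_pairs := card_zpairs A }⟩

theorem a_val (F : Fused D) : imL D ⟨F.a, F.mem_a⟩ = aL := by
  rw [← toL_aPerm, imL]
  congr 1
  refine Equiv.ext fun i => Fin.ext ?_
  show (((D.π ⟨F.a, F.mem_a⟩ : Perm (Fin 10)) i : Fin 10) : ℕ) = _
  rw [F.π_a i]
  revert i
  decide +kernel

theorem of_fused (F : Fused D) : Nonempty (TenData (Loc F.a)) := by
  let A : AElt D := ⟨⟨F.a, F.mem_a⟩, F.ord_a, a_val F⟩
  have hu2 : F.u * F.u = 1 := by rw [← pow_two, ← F.ord_u, pow_orderOf_eq_one]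
  have hu1 : F.u ≠ 1 := fun h => by simpa [h] using F.ord_u
  have huz : F.u ≠ D.z := fun e => by
    have h8 := F.π_u
    rw [show (⟨F.u, F.mem_u⟩ : ↥(HH D)) = zH D from Subtype.ext e,
      (D.π_ker (zH D)).2 (mem_zpowers _), OneMemClass.coe_one] at h8
    simp at h8
  have hin := A.mem_inner (x := ⟨F.u, F.mem_u⟩) hu2 hu1 huz F.au.symm
  obtain ⟨c, hca, hc⟩ := exists_cj_inner A hin
  have hcz : (c : G) * D.z * (c : G)⁻¹ = D.z := mul_inv_eq_iff_eq_mul.2 (D.z_comm c).eq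
  refine ten_data A hc (g := (c : G) * F.g * (c : G)⁻¹) ?_ ?_ ?_
  · exact ((hca.mul_left F.ga).mul_left hca.inv_left)
  · push_cast
    rw [show (c : G) * F.g * (c : G)⁻¹ * D.z * ((c : G) * F.g * (c : G)⁻¹)⁻¹ =
      c * (F.g * ((c : G)⁻¹ * D.z * c) * F.g⁻¹) * (c : G)⁻¹ by group,
      show (c : G)⁻¹ * D.z * c = D.z by rw [mul_assoc, (D.z_comm c).symm.eq, inv_mul_cancel_left],
      F.gz]
  · push_cast
    rw [show (c : G) * F.g * (c : G)⁻¹ * ((c : G) * F.u * (c : G)⁻¹) * ((c : G) * F.g * (c : G)⁻¹)⁻¹ =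
      c * (F.g * F.u * F.g⁻¹) * (c : G)⁻¹ by group, F.gu, ← conj_mul, hcz]

end CfsgLib.AltTwoCent.Ten

namespace CfsgLib.AltTwoCent

universe u

/-- **Piece C10 of S1645.** -/
theorem tenData : StmtTenData.{u} := fun _ _ _ _ F => Ten.of_fused F

end CfsgLib.AltTwoCent
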