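import Cfsg.Agent.Lib.AltTwoCent.TenImages

/-!
# S1645, piece C10: representatives `u, k, k * u, k * u'` and their centralisers
-/

set_option autoImplicit false
set_option maxRecDepth 100000
set_option linter.style.haveILetI false
set_option linter.unusedSectionVars false

namespace CfsgLib.AltTwoCent.Ten

open Subgroup Equiv

universe u

variable {G : Type u} [Group G] [Finite G] {D : Cov 10 G} (A : AElt D)

theorem oL_lengths : (oL 4).length = 27 ∧ (oL 2).length = 18 :=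
  ⟨lists_facts.2.2.2.2.2.2.2.2.2.1, lists_facts.2.2.2.2.2.2.2.2.2.2.1⟩

theorem k_facts : comp kL kL = idL ∧ suppL kL = 8 ∧ comp uL uL = idL ∧ suppL uL = 8 ∧
    comp sL sL = idL ∧ comp xkL xkL = idL ∧ u'L ≠ idL ∧ comp kL u'L ∈ outerL := by
  decide +kernel

/-- The representatives. -/
structure Frame where
  u : ↥(HH D)
  hu : imL D u = uL
  k : ↥(HH D)
  hk : imL D k = kL
  s : ↥(HH D)
  hs : imL D s = sL
  u' : ↥(HH D)
  hu' : imL D u' = u'L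
  x : ↥(HH D)
  hx : imL D x = xkL

theorem exists_frame {u : ↥(HH D)} (hu : imL D u = uL) : ∃ T : Frame (D := D), T.u = u := by
  obtain ⟨k, hk⟩ := exists_lift D (outer_mem lists_facts.2.2.2.2.2.2.2.1)
  obtain ⟨s, hs⟩ := exists_lift D (p := sL) (by simp)
  obtain ⟨u', hu'⟩ := exists_lift D (p := u'L) (by simp)
  obtain ⟨x, hx⟩ := exists_lift D (p := xkL) (by simp)
  exact ⟨⟨u, hu, k, hk, s, hs, u', hu', x, hx⟩, rfl⟩

namespace Frame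

variable {A} (T : Frame (D := D))

theorem mem_u : imL D T.u ∈ innerL := T.hu ▸ lists_facts.2.2.2.2.2.2.1
theorem mem_u' : imL D T.u' ∈ innerL := T.hu' ▸ special_facts.2.2.2.2.2.2.2.2.2.2.2.2.2.2.2.2.1
theorem mem_k : imL D T.k ∈ outerL := T.hk ▸ lists_facts.2.2.2.2.2.2.2.1

theorem hl : imL D (T.k * T.u) = lL := by rw [imL_mul, T.hk, T.hu]; rfl

theorem mem_l : imL D (T.k * T.u) ∈ outerL := T.hl ▸ lists_facts.2.2.2.2.2.2.2.2.1

theorem mem_l' : imL D (T.k * T.u') ∈ outerL := by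
  rw [imL_mul, T.hk, T.hu']; exact k_facts.2.2.2.2.2.2.2

theorem mem_k4 : imL D T.k ∈ oL 4 :=
  mem_oL.2 ⟨T.mem_k, T.hk ▸ lists_facts.2.2.2.2.2.2.2.2.2.2.2.1⟩

theorem mem_l2 : imL D (T.k * T.u) ∈ oL 2 :=
  mem_oL.2 ⟨T.mem_l, T.hl ▸ lists_facts.2.2.2.2.2.2.2.2.2.2.2.2⟩

theorem mem_l'2 : imL D (T.k * T.u') ∈ oL 2 :=
  mem_oL.2 ⟨T.mem_l', by
    rw [imL_mul, T.hk, T.hu']
    exact special_facts.2.2.2.2.2.2.2.2.2.2.2.2.2.2.2.2.2.2.2.2.2.2.1⟩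

theorem comm_ku : Commute (T.k : G) (T.u : G) := by
  obtain ⟨-, -, -, -, -, -, -, -, -, -, -, -, -, -, h1, h2, -⟩ := special_facts
  obtain ⟨k2, k8, u2, u8, -⟩ := k_facts
  exact commute_of_imL D (by rwa [T.hk]) (by rwa [T.hu]) (by rw [T.hu, u8]) (by rwa [T.hk, T.hu])
    (by rw [T.hk, T.hu, k8]; exact iff_of_true rfl h2)

theorem comm_ku' : Commute (T.k : G) (T.u' : G) := by
  obtain ⟨-, -, -, -, -, -, -, -, -, -, -, -, -, -, -, -, hm, h1, h2, -⟩ := special_facts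
  obtain ⟨h22, h8, -⟩ := lists_facts.2.2.2.2.1 _ hm
  obtain ⟨k2, k8, -⟩ := k_facts
  exact (commute_of_imL D (by rwa [T.hu']) (by rwa [T.hk]) (by rw [T.hk, k8])
    (by rwa [T.hu', T.hk]) (by rw [T.hu', T.hk, h8]; exact iff_of_true rfl h2)).symm

theorem not_comm_uu' : ¬ Commute (T.u' : G) (T.u : G) := by
  obtain ⟨-, -, -, -, -, -, -, -, -, -, -, -, -, -, -, -, hm, -, -, h1, h2, -⟩ := special_facts
  obtain ⟨h22, h8, -⟩ := lists_facts.2.2.2.2.1 _ hm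
  obtain ⟨-, -, u2, u8, -⟩ := k_facts
  intro hc
  have h := anti_of_imL D (x := T.u') (y := T.u) (by rwa [T.hu']) (by rwa [T.hu])
    (by rw [T.hu, u8]) (by rwa [T.hu', T.hu]) (by rw [T.hu', T.hu, h8]; exact fun e => h2 (e.1 rfl))
  rw [hc.eq, mul_inv_cancel_right] at h
  exact D.z_ne (mul_eq_left.1 h.symm)

theorem s_u : (T.s : G) * T.u * (T.s : G)⁻¹ = (T.u : G) * D.z := by
  obtain ⟨hs4, -, hs2, -, -, -, h1, h2, -⟩ := special_facts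
  obtain ⟨-, -, u2, u8, -⟩ := k_facts
  exact anti_of_imL D (by rwa [T.hs]) (by rwa [T.hu]) (by rw [T.hu, u8]) (by rwa [T.hs, T.hu])
    (by rw [T.hs, T.hu, hs4]; exact fun e => absurd (e.2 h2) (by decide))

theorem s_k : Commute (T.s : G) (T.k : G) := by
  obtain ⟨hs4, -, hs2, -, -, -, -, -, h1, h2, -⟩ := special_facts
  obtain ⟨k2, k8, -⟩ := k_facts
  exact commute_of_imL D (by rwa [T.hs]) (by rwa [T.hk]) (by rw [T.hk, k8]) (by rwa [T.hs, T.hk])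
    (by rw [T.hs, T.hk, hs4]; exact iff_of_false (by decide) h2)

theorem s_l : (T.s : G) * (T.k * T.u : ↥(HH D)) * (T.s : G)⁻¹ =
    ((T.k * T.u : ↥(HH D)) : G) * D.z := by
  push_cast
  rw [← mul_assoc, T.s_k.eq, mul_assoc (T.k : G), mul_assoc (T.k : G), T.s_u]
  group

theorem x_k : (T.x : G) * T.k * (T.x : G)⁻¹ = (T.k : G) * D.z := by
  obtain ⟨-, hx4, -, hx2, -, -, -, -, -, -, -, -, h1, h2, -⟩ := special_facts
  obtain ⟨k2, k8, -⟩ := k_facts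
  exact anti_of_imL D (by rwa [T.hx]) (by rwa [T.hk]) (by rw [T.hk, k8]) (by rwa [T.hx, T.hk])
    (by rw [T.hx, T.hk, hx4]; exact fun e => absurd (e.2 h2) (by decide))

theorem s_a : Commute (T.s : G) (A.a : G) := by
  obtain ⟨-, -, -, -, h, -⟩ := special_facts
  exact A.commute (T.hs ▸ h)

theorem x_a : Commute (T.x : G) (A.a : G) := by
  obtain ⟨-, -, -, -, -, h, -⟩ := special_facts
  exact A.commute (T.hx ▸ h)

end Frame

theorem conj_of_lift {Z : Subgroup (Loc (A.a : G))}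
    (hZ : ∀ c : Loc (A.a : G), c ∈ Z ↔ Commute c (zL A))
    {x y b w : ↥(HH D)} (hxN : (x : G) ∈ NN A) (hbN : (b : G) ∈ NN A) (hwN : (w : G) ∈ NN A)
    {c : ↥(HH D)} (hcN : (c : G) ∈ NN A) (hy : c * x * c⁻¹ = y) (l : ℕ)
    (hl : imL D y = imL D (b * A.a ^ l)) (hw : (w : G) * b * (w : G)⁻¹ = (b : G) * D.z) :
    ∃ d ∈ Z, d * qq A ⟨(b : G), hbN⟩ * d⁻¹ = qq A ⟨(x : G), hxN⟩ := by
  have hcq : Commute (qq A ⟨(c : G), hcN⟩) (zL A) := comm_zL A c hcN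
  have hwq : Commute (qq A ⟨(w : G), hwN⟩) (zL A) := comm_zL A w hwN
  have hyN : (y : G) ∈ NN A := by
    rw [← hy]; push_cast; exact mul_mem (mul_mem hcN hxN) (inv_mem hcN)
  have e := conj_qq A hcN hxN hyN (by rw [← hy]; push_cast; rfl)
  have haN : (A.a : G) ∈ NN A := comm_mem A (Commute.refl _)
  have hbl : ((b * A.a ^ l : ↥(HH D)) : G) ∈ NN A := by
    push_cast; exact mul_mem hbN (pow_mem haN l)
  have hqb : qq A ⟨((b * A.a ^ l : ↥(HH D)) : G), hbl⟩ = qq A ⟨(b : G), hbN⟩ := by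
    rw [show (⟨((b * A.a ^ l : ↥(HH D)) : G), hbl⟩ : ↥(NN A)) =
        ⟨(b : G), hbN⟩ * ⟨(A.a : G), haN⟩ ^ l from Subtype.ext (by push_cast; rfl), map_mul,
      map_pow, show qq A ⟨(A.a : G), haN⟩ = 1 from
        (QuotientGroup.eq_one_iff _).2 (mem_zpowers _), one_pow, mul_one]
  rcases eq_or D y (b * A.a ^ l) hl with h | h
  · refine ⟨(qq A ⟨(c : G), hcN⟩)⁻¹, Z.inv_mem ((hZ _).2 hcq), ?_⟩
    rw [← hqb, show qq A ⟨((b * A.a ^ l : ↥(HH D)) : G), hbl⟩ = qq A ⟨(y : G), hyN⟩ by simp [h], ← e]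
    group
  · refine ⟨(qq A ⟨(c : G), hcN⟩)⁻¹ * qq A ⟨(w : G), hwN⟩,
      Z.mul_mem (Z.inv_mem ((hZ _).2 hcq)) ((hZ _).2 hwq), ?_⟩
    have hbz : (b : G) * D.z ∈ NN A := mul_mem hbN (comm_mem A (za A))
    have e2 := conj_qq A hwN hbN hbz hw
    have e3 : qq A ⟨(b : G) * D.z, hbz⟩ = qq A ⟨(y : G), hyN⟩ := by
      rw [show (⟨(b : G) * D.z, hbz⟩ : ↥(NN A)) = ⟨(b : G), hbN⟩ * ⟨D.z, comm_mem A (za A)⟩ from rfl,
        map_mul, ← hqb, ← map_mul]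
      exact congrArg (qq A) (Subtype.ext (congrArg (fun x : ↥(HH D) => (x : G)) h.symm))
    rw [show (qq A ⟨(c : G), hcN⟩)⁻¹ * qq A ⟨(w : G), hwN⟩ * qq A ⟨(b : G), hbN⟩ *
        ((qq A ⟨(c : G), hcN⟩)⁻¹ * qq A ⟨(w : G), hwN⟩)⁻¹ = (qq A ⟨(c : G), hcN⟩)⁻¹ *
        (qq A ⟨(w : G), hwN⟩ * qq A ⟨(b : G), hbN⟩ * (qq A ⟨(w : G), hwN⟩)⁻¹) *
        qq A ⟨(c : G), hcN⟩ by group, e2, e3, ← e]
    group

/-- The centraliser of `z` in the quotient. -/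
abbrev ZZ : Subgroup (Loc (A.a : G)) := centralizer ({zL A} : Set (Loc (A.a : G)))

theorem mem_ZZ {c : Loc (A.a : G)} : c ∈ ZZ A ↔ Commute c (zL A) :=
  mem_centralizer_singleton_iff

namespace Frame

variable {A} (T : Frame (D := D))

variable (A)

/-- The image of `u`. -/
abbrev qu : Loc (A.a : G) := qq A ⟨(T.u : G), inner_NN A T.mem_u⟩
/-- The image of `k`. -/
abbrev qk : Loc (A.a : G) := qq A ⟨(T.k : G), outer_NN A T.mem_k⟩
/-- The image of `u'`. -/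
abbrev qu' : Loc (A.a : G) := qq A ⟨(T.u' : G), inner_NN A T.mem_u'⟩

theorem qk_mul_qu : T.qk A * T.qu A = qq A ⟨((T.k * T.u : ↥(HH D)) : G), outer_NN A T.mem_l⟩ := by
  rw [← map_mul]; rfl

theorem qk_mul_qu' : T.qk A * T.qu' A = qq A ⟨((T.k * T.u' : ↥(HH D)) : G), outer_NN A T.mem_l'⟩ := by
  rw [← map_mul]; rfl

theorem inner_conj {v : Loc (A.a : G)} (hv : v ∈ imgs A innerL) :
    ∃ c ∈ ZZ A, c * T.qu A * c⁻¹ = v := by
  obtain ⟨x, hx, rfl, hL⟩ := hv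
  obtain ⟨c, hc, he⟩ := exists_cj_inner A hL
  exact conj_of_lift A (fun _ => mem_ZZ A) hx (inner_NN A T.mem_u) (comm_mem A T.s_a)
    (comm_mem A hc) rfl 0 (by rw [he, pow_zero, mul_one, T.hu]) T.s_u

omit T in
theorem tgt_facts : tgtL.getD 0 idL = comp kL idL ∧ tgtL.getD 1 idL = comp kL aL ∧
    tgtL.getD 2 idL = comp kL (comp aL aL) ∧ tgtL.getD 3 idL = comp lL idL ∧
    tgtL.getD 4 idL = comp lL aL ∧ tgtL.getD 5 idL = comp lL (comp aL aL) := by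
  decide +kernel

theorem outer_conj {v : Loc (A.a : G)} (hv : v ∈ imgs A outerL) :
    ∃ c ∈ ZZ A, c * T.qk A * c⁻¹ = v ∨ c * (T.qk A * T.qu A) * c⁻¹ = v := by
  obtain ⟨x, hx, rfl, hL⟩ := hv
  obtain ⟨c, j, hc, he⟩ := exists_cj_outer A hL
  rw [T.qk_mul_qu A]
  have hK : ∀ l : ℕ, imL D (c * x * c⁻¹) = imL D (T.k * A.a ^ l) →
      ∃ d ∈ ZZ A, d * T.qk A * d⁻¹ = qq A ⟨(x : G), hx⟩ := fun l hl =>
    conj_of_lift A (fun _ => mem_ZZ A) hx (outer_NN A T.mem_k) (comm_mem A T.x_a) hc rfl l hl T.x_k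
  have hL' : ∀ l : ℕ, imL D (c * x * c⁻¹) = imL D (T.k * T.u * A.a ^ l) →
      ∃ d ∈ ZZ A, d * qq A ⟨((T.k * T.u : ↥(HH D)) : G), outer_NN A T.mem_l⟩ * d⁻¹ =
        qq A ⟨(x : G), hx⟩ := fun l hl =>
    conj_of_lift A (fun _ => mem_ZZ A) hx (outer_NN A T.mem_l) (comm_mem A T.s_a) hc rfl l hl T.s_l
  obtain ⟨t0, t1, t2, t3, t4, t5⟩ := tgt_facts
  have e0 : imL D (A.a ^ 0) = idL := by rw [pow_zero, imL_one]
  have e1 : imL D (A.a ^ 1) = aL := by rw [pow_one, A.val]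
  have e2 : imL D (A.a ^ 2) = comp aL aL := by rw [pow_two, imL_mul, A.val]
  fin_cases j
  · obtain ⟨d, hd, e⟩ := hK 0 (by rw [he, imL_mul, T.hk, e0]; exact t0)
    exact ⟨d, hd, Or.inl e⟩
  · obtain ⟨d, hd, e⟩ := hK 1 (by rw [he, imL_mul, T.hk, e1]; exact t1)
    exact ⟨d, hd, Or.inl e⟩
  · obtain ⟨d, hd, e⟩ := hK 2 (by rw [he, imL_mul, T.hk, e2]; exact t2)
    exact ⟨d, hd, Or.inl e⟩
  · obtain ⟨d, hd, e⟩ := hL' 0 (by rw [he, imL_mul, T.hl, e0]; exact t3)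
    exact ⟨d, hd, Or.inr e⟩
  · obtain ⟨d, hd, e⟩ := hL' 1 (by rw [he, imL_mul, T.hl, e1]; exact t4)
    exact ⟨d, hd, Or.inr e⟩
  · obtain ⟨d, hd, e⟩ := hL' 2 (by rw [he, imL_mul, T.hl, e2]; exact t5)
    exact ⟨d, hd, Or.inr e⟩

theorem orbit_u {v : Loc (A.a : G)} :
    (∃ c ∈ ZZ A, c * T.qu A * c⁻¹ = v) ↔ v ∈ imgs A innerL := by
  refine ⟨?_, T.inner_conj A⟩
  rintro ⟨c, hc, rfl⟩
  obtain ⟨k, hk⟩ := exists_lift D (outer_mem lists_facts.2.2.2.2.2.2.2.1)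
  have hn := normal_of_index_eq_two
    (index_QQ A (outer_inv A (x := k) (hk ▸ lists_facts.2.2.2.2.2.2.2.1))).1
  obtain ⟨h1, h2, h3, h4⟩ := (inner_iff A).2
    (⟨T.u, inner_NN A T.mem_u, rfl, T.mem_u⟩ : T.qu A ∈ imgs A innerL)
  have hz : c * zL A * c⁻¹ = zL A :=
    mul_inv_eq_iff_eq_mul.2 ((mem_ZZ A).1 hc).eq
  refine (inner_iff A).1 ⟨hn.conj_mem _ h1 c, ?_, ?_, fun e => h4 ?_⟩
  · rw [show c * T.qu A * c⁻¹ = MulAut.conj c (T.qu A) from rfl, MulEquiv.orderOf_eq, h2]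
  · rw [← hz]
    exact h3.map (MulAut.conj c).toMonoidHom
  · rw [← hz] at e
    exact mul_left_cancel (mul_right_cancel e)

include T in
/-- The orbit of any element of one kind is the whole kind. -/
theorem orbit_oL {t : ℕ} {b : Loc (A.a : G)} (hb : b ∈ imgs A (oL t)) {v : Loc (A.a : G)} :
    (∃ c ∈ ZZ A, c * b * c⁻¹ = v) ↔ v ∈ imgs A (oL t) := by
  refine ⟨fun ⟨c, hc, e⟩ => e ▸ conj_oL A hb ((mem_ZZ A).1 hc), fun hv => ?_⟩
  have hout : ∀ w ∈ imgs A (oL t), w ∈ imgs A outerL := fun w ⟨x, hx, e, hL⟩ =>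
    ⟨x, hx, e, (mem_oL.1 hL).1⟩
  have hkind : ∀ {c r w : Loc (A.a : G)} {s : ℕ}, c ∈ ZZ A → r ∈ imgs A (oL s) →
      c * r * c⁻¹ = w → w ∈ imgs A (oL t) → s = t := fun hc hr e hw =>
    oL_unique A (e ▸ conj_oL A hr ((mem_ZZ A).1 hc)) hw
  have hk : T.qk A ∈ imgs A (oL 4) := ⟨T.k, _, rfl, T.mem_k4⟩
  have hl : T.qk A * T.qu A ∈ imgs A (oL 2) := by
    rw [T.qk_mul_qu A]; exact ⟨_, _, rfl, T.mem_l2⟩
  obtain ⟨c, hc, ec⟩ := T.outer_conj A (hout v hv)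
  obtain ⟨d, hd, ed⟩ := T.outer_conj A (hout b hb)
  refine ⟨c * d⁻¹, mul_mem hc (inv_mem hd), ?_⟩
  have key : ∀ r : Loc (A.a : G), d * r * d⁻¹ = b → c * r * c⁻¹ = v →
      c * d⁻¹ * b * (c * d⁻¹)⁻¹ = v := fun r e1 e2 => by rw [← e1, ← e2]; group
  rcases ec with ec | ec <;> rcases ed with ed | ed
  · exact key _ ed ec
  · exact absurd ((hkind hc hk ec hv).trans (hkind hd hl ed hb).symm) (by decide)
  · exact absurd ((hkind hc hl ec hv).trans (hkind hd hk ed hb).symm) (by decide)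
  · exact key _ ed ec

include T in
/-- The two orders of the centraliser, from the length of the orbit. -/
theorem card_pair {b : Loc (A.a : G)} {n : ℕ}
    (hn : Nat.card {v : Loc (A.a : G) // ∃ c ∈ ZZ A, c * b * c⁻¹ = v} = n)
    {h : Loc (A.a : G)} (hh : h ∈ ZZ A) (hb : Commute h b) (hQ : h ∉ QQ A) :
    n * Nat.card ↥(ZZ A ⊓ centralizer ({b} : Set (Loc (A.a : G)))) = 288 ∧
      n * (2 * Nat.card ↥(QQ A ⊓ ZZ A ⊓ centralizer ({b} : Set (Loc (A.a : G))))) = 288 := by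
  have h1 := card_orbit_mul (ZZ A) b
  rw [hn, card_cent_zL A (outer_inv A T.mem_k)] at h1
  refine ⟨h1, ?_⟩
  rw [inf_assoc, ← half_card (index_QQ A (outer_inv A T.mem_k)).1
    (X := ZZ A ⊓ centralizer ({b} : Set (Loc (A.a : G)))) ⟨hh, mem_centralizer_singleton_iff.2 hb.eq⟩
    hQ, h1]

end Frame

end CfsgLib.AltTwoCent.Ten
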