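import Cfsg.Agent.Lib.AltTwoCent.TenQuot

/-!
# S1645, piece C10: the involutions of the quotient centralising `z`

They are the images of the lifts of the eighteen inner and forty-five outer lists; the outer ones
fall into two classes told apart by the number of moved points among the last four.
-/

set_option autoImplicit false
set_option maxRecDepth 100000
set_option linter.style.haveILetI false
set_option linter.unusedSectionVars false

namespace CfsgLib.AltTwoCent.Ten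

open Subgroup Equiv

universe u

variable {G : Type u} [Group G] [Finite G] {D : Cov 10 G} (A : AElt D)

/-- The images of the lifts of a list of values. -/
def imgs (L : List (List ℕ)) : Set (Loc (A.a : G)) :=
  {v | ∃ (x : ↥(HH D)) (h : (x : G) ∈ NN A), qq A ⟨(x : G), h⟩ = v ∧ imL D x ∈ L}

/-- The outer involutions with a given number of moved points among the last four. -/
def oL (t : ℕ) : List (List ℕ) := outerL.filter fun p => fourL p == t

theorem mem_oL {p : List ℕ} {t : ℕ} : p ∈ oL t ↔ p ∈ outerL ∧ fourL p = t := by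
  simp [oL, List.mem_filter]

theorem inner_comm {x : ↥(HH D)} (h : imL D x ∈ innerL) : Commute (x : G) (A.a : G) :=
  A.commute (inner_props h).2

theorem outer_inv {x : ↥(HH D)} (h : imL D x ∈ outerL) :
    (x : G) * A.a * (x : G)⁻¹ = (A.a : G)⁻¹ :=
  A.inverts (outer_props h).2

theorem inner_NN {x : ↥(HH D)} (h : imL D x ∈ innerL) : (x : G) ∈ NN A :=
  comm_mem A (inner_comm A h)

theorem outer_NN {x : ↥(HH D)} (h : imL D x ∈ outerL) : (x : G) ∈ NN A :=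
  mem_NN A (Or.inr (outer_inv A h))

theorem inner_not_QQ {x : ↥(HH D)} (h : imL D x ∈ outerL) :
    qq A ⟨(x : G), outer_NN A h⟩ ∉ QQ A := fun hq =>
  (index_QQ A (outer_inv A h)).2 hq

theorem inner_iff {v : Loc (A.a : G)} :
    (v ∈ QQ A ∧ orderOf v = 2 ∧ Commute v (zL A) ∧ v ≠ zL A) ↔ v ∈ imgs A innerL := by
  constructor
  · rintro ⟨hQ, h2, hz, hne⟩
    obtain ⟨x, hx, rfl, hxx, hx1⟩ := invol_rep A h2 hz
    exact ⟨x, hx, rfl, A.mem_inner hxx hx1
      (fun e => hne (congrArg (qq A) (Subtype.ext e))) ((mem_QQ A hx).1 hQ)⟩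
  · rintro ⟨x, hx, rfl, hL⟩
    obtain ⟨⟨h2, h1, hz⟩, -⟩ := inner_props hL
    refine ⟨(mem_QQ A hx).2 (inner_comm A hL), orderOf_qq A hx h2 h1, comm_zL A x hx, fun e => hz ?_⟩
    obtain ⟨l, hl⟩ := (q_eq A (comm_mem A (za A)) hx).1 e.symm
    rw [hl, ((za A).pow_right (l : ℕ)).symm.mul_mul_mul_comm, D.z_sq, one_mul] at h2
    rw [hl, a_pow_two A h2]
    simp

theorem outer_iff {v : Loc (A.a : G)} :
    (v ∉ QQ A ∧ orderOf v = 2 ∧ Commute v (zL A)) ↔ v ∈ imgs A outerL := by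
  constructor
  · rintro ⟨hQ, h2, hz⟩
    obtain ⟨x, hx, rfl, hxx, hx1⟩ := invol_rep A h2 hz
    have hn : ¬ Commute (x : G) (A.a : G) := fun h => hQ ((mem_QQ A hx).2 h)
    refine ⟨x, hx, rfl, A.mem_outer hxx hx1 (fun e => hn (e ▸ za A)) ?_⟩
    exact (conj_cases A hx).resolve_left fun e => hn (mul_inv_eq_iff_eq_mul.1 e)
  · rintro ⟨x, hx, rfl, hL⟩
    exact ⟨inner_not_QQ A hL, orderOf_qq A hx (outer_props hL).1.1 (outer_props hL).1.2.1,
      comm_zL A x hx⟩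

theorem shift_facts : ∀ p ∈ outerL, comp p aL ∈ outerL ∧ fourL (comp p aL) = fourL p := by
  decide +kernel

theorem shift_outer {x : ↥(HH D)} (h : imL D x ∈ outerL) :
    ∀ l : ℕ, imL D (x * A.a ^ l) ∈ outerL ∧ fourL (imL D (x * A.a ^ l)) = fourL (imL D x)
  | 0 => by rw [pow_zero, mul_one]; exact ⟨h, rfl⟩
  | l + 1 => by
    obtain ⟨h1, h2⟩ := shift_outer h l
    rw [pow_succ, ← mul_assoc, imL_mul, A.val]
    exact ⟨(shift_facts _ h1).1, (shift_facts _ h1).2.trans h2⟩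

/-- Two representatives of an outer involution. -/
theorem four_unique {x y : ↥(HH D)} (hx : (x : G) ∈ NN A) (hy : (y : G) ∈ NN A)
    (h : qq A ⟨(x : G), hx⟩ = qq A ⟨(y : G), hy⟩) (hL : imL D x ∈ outerL) :
    fourL (imL D y) = fourL (imL D x) := by
  obtain ⟨l, hl⟩ := (q_eq A hx hy).1 h
  rw [show y = x * A.a ^ (l : ℕ) from Subtype.ext (by push_cast; exact hl)]
  exact (shift_outer A hL l).2

theorem inner_unique {x y : ↥(HH D)} (hx : (x : G) ∈ NN A) (hy : (y : G) ∈ NN A)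
    (h : qq A ⟨(x : G), hx⟩ = qq A ⟨(y : G), hy⟩) (hxL : imL D x ∈ innerL)
    (hyL : imL D y ∈ innerL) : x = y := by
  obtain ⟨l, hl⟩ := (q_eq A hx hy).1 h
  have h2 := (inner_props hyL).1.1
  rw [hl, ((inner_comm A hxL).pow_right (l : ℕ)).symm.mul_mul_mul_comm, (inner_props hxL).1.1,
    one_mul] at h2
  rw [a_pow_two A h2] at hl
  exact Subtype.ext (by simpa using hl.symm)

theorem card_imgs_inner {L : List (List ℕ)} (hn : L.Nodup) (hL : ∀ p ∈ L, p ∈ innerL) :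
    Nat.card (imgs A L) = L.length * 2 := by
  rw [← card_lifts D hn fun p hp => inner_mem (hL p hp)]
  refine (Nat.card_eq_of_bijective
    (fun x : {x : ↥(HH D) // imL D x ∈ L} =>
      (⟨qq A ⟨(x.1 : G), inner_NN A (hL _ x.2)⟩, x.1, _, rfl, x.2⟩ : imgs A L))
    ⟨fun x y e => ?_, ?_⟩).symm
  · exact Subtype.ext (inner_unique A _ _ (congrArg Subtype.val e) (hL _ x.2) (hL _ y.2))
  · rintro ⟨v, x, hx, rfl, hxL⟩
    exact ⟨⟨x, hxL⟩, rfl⟩

theorem card_imgs_outer (t : ℕ) : 3 * Nat.card (imgs A (oL t)) = (oL t).length * 2 := by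
  rw [← card_lifts D (L := oL t) (lists_facts.2.2.2.1.filter _) fun p hp => outer_mem (mem_oL.1 hp).1,
    mul_comm, ← Nat.card_fin 3, ← Nat.card_prod]
  choose rep hN hq hL using fun v : imgs A (oL t) => v.2
  refine Nat.card_eq_of_bijective
    (fun p : imgs A (oL t) × Fin 3 =>
      (⟨rep p.1 * A.a ^ (p.2 : ℕ), ?_⟩ : {x : ↥(HH D) // imL D x ∈ oL t}))
    ⟨fun p q e => ?_, fun ⟨x, hx⟩ => ?_⟩
  · obtain ⟨h1, h2⟩ := shift_outer A (mem_oL.1 (hL p.1)).1 (p.2 : ℕ)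
    exact mem_oL.2 ⟨h1, h2.trans (mem_oL.1 (hL p.1)).2⟩
  · have e' : (rep p.1 : G) * (A.a : G) ^ (p.2 : ℕ) = rep q.1 * (A.a : G) ^ (q.2 : ℕ) := by
      simpa using congrArg (fun x : {x : ↥(HH D) // imL D x ∈ oL t} => (x.1 : G)) e
    have hv : p.1 = q.1 := Subtype.ext (by
      rw [← hq p.1, ← hq q.1, q_eq A]
      refine ⟨(p.2 + 2 * q.2 : Fin 3), ?_⟩
      rw [eq_comm, ← mul_left_inj ((A.a : G) ^ (q.2 : ℕ)), ← e', mul_assoc, ← pow_add]
      congr 1
      rw [pow_eq_pow_iff_modEq, A.ord]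
      exact (by decide : ∀ l m : Fin 3, (((l + 2 * m : Fin 3) : ℕ) + m) % 3 = (l : ℕ) % 3) p.2 q.2)
    rw [hv, mul_right_inj, pow_eq_pow_iff_modEq, A.ord] at e'
    exact Prod.ext hv (Fin.ext (by
      have h : (p.2 : ℕ) % 3 = (q.2 : ℕ) % 3 := e'
      have := p.2.isLt
      have := q.2.isLt
      omega))
  · let v : imgs A (oL t) := ⟨_, x, outer_NN A (mem_oL.1 hx).1, rfl, hx⟩
    obtain ⟨l, hl⟩ := (q_eq A (hN v) (outer_NN A (mem_oL.1 hx).1)).1 (hq v)
    exact ⟨(v, l), Subtype.ext (Subtype.ext (by push_cast; exact hl.symm))⟩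

theorem fourL_eq (σ : Perm (Fin 10)) : fourL (toL σ) =
    (Finset.univ.filter fun i : Fin 10 => 6 ≤ (i : ℕ) ∧ σ i ≠ i).card := by
  rw [fourL, show ([6, 7, 8, 9] : List ℕ) = ([6, 7, 8, 9] : List (Fin 10)).map Fin.val from rfl,
    List.countP_map, List.countP_eq_length_filter,
    ← List.toFinset_card_of_nodup ((show ([6, 7, 8, 9] : List (Fin 10)).Nodup by decide).filter _),
    List.toFinset_filter]
  congr 1
  ext i
  have h6 : i ∈ ([6, 7, 8, 9] : List (Fin 10)) ↔ 6 ≤ (i : ℕ) := by revert i; decide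
  simp only [Finset.mem_filter, List.mem_toFinset, h6, Finset.mem_univ, true_and,
    Function.comp_apply, getD_toL, Bool.not_eq_true', beq_eq_false_iff_ne, ne_eq, Fin.ext_iff]

theorem fourL_conj {σ τ : Perm (Fin 10)}
    (hτ : ∀ i : Fin 10, 6 ≤ ((τ i : Fin 10) : ℕ) ↔ 6 ≤ (i : ℕ)) :
    fourL (toL (τ * σ * τ⁻¹)) = fourL (toL σ) := by
  rw [fourL_eq, fourL_eq]
  conv_rhs => rw [← Finset.card_map τ.toEmbedding]
  congr 1
  ext i
  rw [Finset.mem_map_equiv, Finset.mem_filter, Finset.mem_filter, Perm.mul_apply, Perm.mul_apply,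
    Perm.inv_def, ← hτ (τ.symm i), Equiv.apply_symm_apply]
  simp [Equiv.eq_symm_apply]

/-- Conjugation in `C(z)` preserves the two kinds of outer involutions. -/
theorem conj_oL {t : ℕ} {v c : Loc (A.a : G)} (hv : v ∈ imgs A (oL t)) (hc : Commute c (zL A)) :
    c * v * c⁻¹ ∈ imgs A (oL t) := by
  obtain ⟨x, hx, rfl, hL⟩ := hv
  obtain ⟨y, hy, rfl⟩ := rep_z A hc
  obtain ⟨ho, ht⟩ := mem_oL.1 hL
  obtain ⟨⟨h2, h1, hz⟩, -⟩ := outer_props ho
  have hw : ((y * x * y⁻¹ : ↥(HH D)) : G) ∈ NN A := by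
    push_cast
    exact mul_mem (mul_mem hy hx) (inv_mem hy)
  refine ⟨y * x * y⁻¹, hw, (conj_qq A hy hx hw (by push_cast; rfl)).symm, mem_oL.2 ⟨?_, ?_⟩⟩
  · refine A.mem_outer ?_ ?_ ?_ ?_ <;> push_cast
    · rw [show (y : G) * x * (y : G)⁻¹ * (y * x * (y : G)⁻¹) = y * (x * x) * (y : G)⁻¹ by group, h2]
      group
    · exact fun e => h1 (conj_eq_one_iff.1 e)
    · intro e
      rw [mul_inv_eq_iff_eq_mul, ← (D.z_comm y).eq] at e
      exact hz (mul_left_cancel e)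
    · have h := outer_inv A ho
      rw [show (y : G) * x * (y : G)⁻¹ * A.a * ((y : G) * x * (y : G)⁻¹)⁻¹ =
        y * (x * ((y : G)⁻¹ * A.a * ((y : G)⁻¹)⁻¹) * (x : G)⁻¹) * (y : G)⁻¹ by group]
      rcases conj_cases A hy with e | e
      · rw [show (y : G)⁻¹ * A.a * ((y : G)⁻¹)⁻¹ = A.a by
          conv_lhs => arg 1; arg 2; rw [← e]
          group, h, ← conj_inv, e]
      · rw [show (y : G)⁻¹ * A.a * ((y : G)⁻¹)⁻¹ = (A.a : G)⁻¹ by
          have h' : (A.a : G) = y * (A.a : G)⁻¹ * (y : G)⁻¹ := by rw [← conj_inv, e, inv_inv]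
          conv_lhs => arg 1; arg 2; rw [h']
          group, ← conj_inv, h, inv_inv, e]
  · rw [← ht, imL, map_mul, map_mul, map_inv]
    exact fourL_conj (tail_of_mem A hy)

theorem oL_unique {s t : ℕ} {v : Loc (A.a : G)} (hs : v ∈ imgs A (oL s))
    (ht : v ∈ imgs A (oL t)) : s = t := by
  obtain ⟨x, hx, rfl, hxL⟩ := hs
  obtain ⟨y, hy, e, hyL⟩ := ht
  rw [← (mem_oL.1 hxL).2, ← (mem_oL.1 hyL).2]
  exact (four_unique A hx hy e.symm (mem_oL.1 hxL).1).symm

theorem imL_conj {g : ↥(HH D)} (hg : (g : G) * g = 1) (x : ↥(HH D)) :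
    imL D (g * x * g⁻¹) = cjL (imL D g) (imL D x) := by
  rw [show g⁻¹ = g from inv_eq_of_mul_eq_one_right (Subtype.ext hg), mul_assoc, imL_mul, imL_mul]
  rfl

theorem gens_facts : (∀ i : Fin 64, gens.getD i idL = idL ∨ gens.getD i idL ∈ innerL ∨
      gens.getD i idL ∈ outerL) ∧
    ∀ i : Fin 19, gens.getD i idL = idL ∨ gens.getD i idL ∈ innerL := by
  decide +kernel

theorem exists_gen {i : ℕ} (hi : i ≤ 63) : ∃ g : ↥(HH D), imL D g = gens.getD i idL ∧
    (g : G) * g = 1 ∧ (g : G) ∈ NN A ∧ (i ≤ 18 → Commute (g : G) (A.a : G)) := by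
  rcases gens_facts.1 ⟨i, by omega⟩ with h | h | h
  · exact ⟨1, by rw [imL_one]; exact h.symm, by simp, (NN A).one_mem,
      fun _ => Commute.one_left _⟩
  · obtain ⟨g, hg⟩ := exists_lift D (inner_mem h)
    have hg' : imL D g ∈ innerL := by rw [hg]; exact h
    exact ⟨g, hg, (inner_props hg').1.1, inner_NN A hg', fun _ => inner_comm A hg'⟩
  · obtain ⟨g, hg⟩ := exists_lift D (outer_mem h)
    have hg' : imL D g ∈ outerL := by rw [hg]; exact h
    refine ⟨g, hg, (outer_props hg').1.1, outer_NN A hg', fun h18 => ?_⟩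
    rcases gens_facts.2 ⟨i, by omega⟩ with e | e
    · exact A.commute (by rw [hg, show gens.getD i idL = idL from e]; rfl)
    · exact inner_comm A (by rw [hg]; exact e)

/-- The witnesses give conjugating elements. -/
theorem exists_cj {i j : ℕ} (hi : i ≤ 63) (hj : j ≤ 63) (x : ↥(HH D)) :
    ∃ c : ↥(HH D), (c : G) ∈ NN A ∧
      imL D (c * x * c⁻¹) = cjL (gens.getD j idL) (cjL (gens.getD i idL) (imL D x)) ∧
      (i ≤ 18 → j ≤ 18 → Commute (c : G) (A.a : G)) := by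
  obtain ⟨g, hg, hg2, hgN, hga⟩ := exists_gen A hi
  obtain ⟨h, hh, hh2, hhN, hha⟩ := exists_gen A hj
  refine ⟨h * g, by push_cast; exact mul_mem hhN hgN, ?_, fun a b => by
    push_cast; exact (hha b).mul_left (hga a)⟩
  rw [show h * g * x * (h * g)⁻¹ = h * (g * x * g⁻¹) * h⁻¹ by group, imL_conj hh2, imL_conj hg2,
    hh, hg]

theorem exists_cj_inner {x : ↥(HH D)} (hx : imL D x ∈ innerL) :
    ∃ c : ↥(HH D), Commute (c : G) (A.a : G) ∧ imL D (c * x * c⁻¹) = uL := by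
  obtain ⟨i, hi⟩ := List.mem_iff_get.1 hx
  obtain ⟨h1, h2, h3⟩ := inner_wit ⟨i, i.isLt.trans_eq lists_facts.1⟩
  obtain ⟨c, -, hc, hca⟩ := exists_cj A (h1.trans (by omega)) (h2.trans (by omega)) x
  refine ⟨c, hca h1 h2, hc.trans ?_⟩
  rw [← hi, List.get_eq_getElem, ← List.getD_eq_getElem _ idL i.isLt]
  exact h3

theorem exists_cj_outer {x : ↥(HH D)} (hx : imL D x ∈ outerL) :
    ∃ (c : ↥(HH D)) (j : Fin 6), (c : G) ∈ NN A ∧ imL D (c * x * c⁻¹) = tgtL.getD j idL := by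
  obtain ⟨i, hi⟩ := List.mem_iff_get.1 hx
  obtain ⟨h1, h2, h3, h4⟩ := outer_wit ⟨i, i.isLt.trans_eq lists_facts.2.1⟩
  obtain ⟨c, hcN, hc, -⟩ := exists_cj A h1 h2 x
  refine ⟨c, ⟨_, h3⟩, hcN, hc.trans ?_⟩
  rw [← hi, List.get_eq_getElem, ← List.getD_eq_getElem _ idL i.isLt]
  exact h4

end CfsgLib.AltTwoCent.Ten
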