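import Mathlib

/-!
# S1645, piece C10: the involutions of the normalizer of `(012)(345)` in `A_10` as lists of values

The only finite checks of degree ten: eighteen inner and forty-five outer involutions moving
eight points, their conjugacy and the products of an inner and an outer one.
-/

set_option autoImplicit false
set_option linter.style.haveILetI false
set_option maxRecDepth 100000

namespace CfsgLib.AltTwoCent.Ten

open Equiv

/-- The values of a permutation. -/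
def toL (σ : Perm (Fin 10)) : List ℕ := List.ofFn fun i => ((σ i : Fin 10) : ℕ)

/-- Composition of lists of values. -/
def comp (p q : List ℕ) : List ℕ := q.map fun i => p.getD i 0

/-- The identity. -/
def idL : List ℕ := List.range 10

/-- The number of moved points. -/
def suppL (p : List ℕ) : ℕ := (List.range 10).countP fun i => !(p.getD i 0 == i)

/-- The number of moved points among the last four. -/
def fourL (p : List ℕ) : ℕ := [6, 7, 8, 9].countP fun i => !(p.getD i 0 == i)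

/-- The powers. -/
def powL (p : List ℕ) : ℕ → List ℕ
  | 0 => idL
  | k + 1 => comp (powL p k) p

theorem length_toL (σ : Perm (Fin 10)) : (toL σ).length = 10 := by simp [toL]

theorem getD_toL (σ : Perm (Fin 10)) (i : Fin 10) : (toL σ).getD i 0 = ((σ i : Fin 10) : ℕ) := by
  rw [toL, List.getD_eq_getElem _ _ (by simp), List.getElem_ofFn]

theorem toL_injective {σ τ : Perm (Fin 10)} (h : toL σ = toL τ) : σ = τ :=
  Equiv.ext fun i => Fin.ext (by rw [← getD_toL, h, getD_toL])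

theorem toL_mul (σ τ : Perm (Fin 10)) : toL (σ * τ) = comp (toL σ) (toL τ) := by
  rw [comp, toL, toL, toL, List.map_ofFn]
  refine congrArg List.ofFn (funext fun i => ?_)
  exact (getD_toL σ (τ i)).symm

theorem toL_one : toL 1 = idL := by decide +kernel

theorem toL_pow (σ : Perm (Fin 10)) : ∀ k, toL (σ ^ k) = powL (toL σ) k
  | 0 => toL_one
  | k + 1 => by rw [pow_succ, toL_mul, toL_pow σ k]; rfl

theorem support_eq (σ : Perm (Fin 10)) : σ.support.card = suppL (toL σ) := by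
  rw [suppL, ← List.map_coe_finRange_eq_range, List.countP_map, List.countP_eq_length_filter,
    ← List.toFinset_card_of_nodup ((List.nodup_finRange 10).filter _), List.toFinset_filter,
    List.toFinset_finRange]
  congr 1
  ext i
  simp only [Perm.mem_support, Finset.mem_filter, Finset.mem_univ, true_and, Function.comp_apply,
    getD_toL, Bool.not_eq_true', beq_eq_false_iff_ne, ne_eq, Fin.ext_iff]

theorem getD_comp (p q : List ℕ) {i : ℕ} (h : i < q.length) :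
    (comp p q).getD i 0 = p.getD (q.getD i 0) 0 := by
  rw [comp, List.getD_eq_getElem _ _ (by simpa using h), List.getElem_map,
    List.getD_eq_getElem q _ h]

/-- The values of `(012)(345)`. -/
def aL : List ℕ := [1, 2, 0, 4, 5, 3, 6, 7, 8, 9]

/-- The values of the inverse. -/
def bL : List ℕ := [2, 0, 1, 5, 3, 4, 6, 7, 8, 9]

/-- The values of `u`. -/
def uL : List ℕ := [3, 4, 5, 0, 1, 2, 7, 6, 8, 9]

/-- The values of `k`. -/
def kL : List ℕ := [0, 2, 1, 3, 5, 4, 7, 6, 9, 8]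

/-- The involutions moving eight points that centralise `(012)(345)`. -/
def innerL : List (List ℕ) :=
  [[3, 4, 5, 0, 1, 2, 6, 7, 9, 8],
   [3, 4, 5, 0, 1, 2, 6, 8, 7, 9],
   [3, 4, 5, 0, 1, 2, 6, 9, 8, 7],
   [3, 4, 5, 0, 1, 2, 7, 6, 8, 9],
   [3, 4, 5, 0, 1, 2, 8, 7, 6, 9],
   [3, 4, 5, 0, 1, 2, 9, 7, 8, 6],
   [4, 5, 3, 2, 0, 1, 6, 7, 9, 8],
   [4, 5, 3, 2, 0, 1, 6, 8, 7, 9],
   [4, 5, 3, 2, 0, 1, 6, 9, 8, 7],
   [4, 5, 3, 2, 0, 1, 7, 6, 8, 9],
   [4, 5, 3, 2, 0, 1, 8, 7, 6, 9],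
   [4, 5, 3, 2, 0, 1, 9, 7, 8, 6],
   [5, 3, 4, 1, 2, 0, 6, 7, 9, 8],
   [5, 3, 4, 1, 2, 0, 6, 8, 7, 9],
   [5, 3, 4, 1, 2, 0, 6, 9, 8, 7],
   [5, 3, 4, 1, 2, 0, 7, 6, 8, 9],
   [5, 3, 4, 1, 2, 0, 8, 7, 6, 9],
   [5, 3, 4, 1, 2, 0, 9, 7, 8, 6]]

/-- The involutions moving eight points that invert `(012)(345)`. -/
def outerL : List (List ℕ) :=
  [[0, 2, 1, 3, 5, 4, 7, 6, 9, 8],
   [0, 2, 1, 3, 5, 4, 8, 9, 6, 7],
   [0, 2, 1, 3, 5, 4, 9, 8, 7, 6],
   [0, 2, 1, 4, 3, 5, 7, 6, 9, 8],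
   [0, 2, 1, 4, 3, 5, 8, 9, 6, 7],
   [0, 2, 1, 4, 3, 5, 9, 8, 7, 6],
   [0, 2, 1, 5, 4, 3, 7, 6, 9, 8],
   [0, 2, 1, 5, 4, 3, 8, 9, 6, 7],
   [0, 2, 1, 5, 4, 3, 9, 8, 7, 6],
   [1, 0, 2, 3, 5, 4, 7, 6, 9, 8],
   [1, 0, 2, 3, 5, 4, 8, 9, 6, 7],
   [1, 0, 2, 3, 5, 4, 9, 8, 7, 6],
   [1, 0, 2, 4, 3, 5, 7, 6, 9, 8],
   [1, 0, 2, 4, 3, 5, 8, 9, 6, 7],
   [1, 0, 2, 4, 3, 5, 9, 8, 7, 6],
   [1, 0, 2, 5, 4, 3, 7, 6, 9, 8],
   [1, 0, 2, 5, 4, 3, 8, 9, 6, 7],
   [1, 0, 2, 5, 4, 3, 9, 8, 7, 6],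
   [2, 1, 0, 3, 5, 4, 7, 6, 9, 8],
   [2, 1, 0, 3, 5, 4, 8, 9, 6, 7],
   [2, 1, 0, 3, 5, 4, 9, 8, 7, 6],
   [2, 1, 0, 4, 3, 5, 7, 6, 9, 8],
   [2, 1, 0, 4, 3, 5, 8, 9, 6, 7],
   [2, 1, 0, 4, 3, 5, 9, 8, 7, 6],
   [2, 1, 0, 5, 4, 3, 7, 6, 9, 8],
   [2, 1, 0, 5, 4, 3, 8, 9, 6, 7],
   [2, 1, 0, 5, 4, 3, 9, 8, 7, 6],
   [3, 5, 4, 0, 2, 1, 6, 7, 9, 8],
   [3, 5, 4, 0, 2, 1, 6, 8, 7, 9],
   [3, 5, 4, 0, 2, 1, 6, 9, 8, 7],
   [3, 5, 4, 0, 2, 1, 7, 6, 8, 9],
   [3, 5, 4, 0, 2, 1, 8, 7, 6, 9],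
   [3, 5, 4, 0, 2, 1, 9, 7, 8, 6],
   [4, 3, 5, 1, 0, 2, 6, 7, 9, 8],
   [4, 3, 5, 1, 0, 2, 6, 8, 7, 9],
   [4, 3, 5, 1, 0, 2, 6, 9, 8, 7],
   [4, 3, 5, 1, 0, 2, 7, 6, 8, 9],
   [4, 3, 5, 1, 0, 2, 8, 7, 6, 9],
   [4, 3, 5, 1, 0, 2, 9, 7, 8, 6],
   [5, 4, 3, 2, 1, 0, 6, 7, 9, 8],
   [5, 4, 3, 2, 1, 0, 6, 8, 7, 9],
   [5, 4, 3, 2, 1, 0, 6, 9, 8, 7],
   [5, 4, 3, 2, 1, 0, 7, 6, 8, 9],
   [5, 4, 3, 2, 1, 0, 8, 7, 6, 9],
   [5, 4, 3, 2, 1, 0, 9, 7, 8, 6]]

/-- Candidates for the values on the first six points. -/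
def sixL (f : List ℕ) : List (List ℕ) :=
  (List.range 6).flatMap fun p => (List.range 6).map fun q =>
    [p, f.getD p 0, f.getD (f.getD p 0) 0, q, f.getD q 0, f.getD (f.getD q 0) 0]

/-- Involutive candidates for the values on the last four points. -/
def fourInv : List (List ℕ) :=
  ([6, 7, 8, 9].flatMap fun a => [6, 7, 8, 9].flatMap fun b => [6, 7, 8, 9].flatMap fun c =>
    [6, 7, 8, 9].map fun d => [a, b, c, d]).filter fun t =>
      comp (List.range 6 ++ t) (List.range 6 ++ t) == idL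

/-- All involutive values commuting with `(012)(345)` or inverting it, moving eight points. -/
def invols (f : List ℕ) : List (List ℕ) :=
  ((sixL f).flatMap fun s => fourInv.map (s ++ ·)).filter fun l =>
    comp l l == idL && suppL l == 8

theorem invols_eq : invols aL = innerL ∧ invols bL = outerL := by decide +kernel

theorem fixed_tail {f : List ℕ} (hf : f = aL ∨ f = bL) {σ : Perm (Fin 10)}
    (h : comp (toL σ) aL = comp f (toL σ)) (i : Fin 10) : 6 ≤ ((σ i : Fin 10) : ℕ) ↔ 6 ≤ (i : ℕ) := by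
  have hfix : ∀ j : Fin 10, (f.getD j 0 = (j : ℕ) ↔ 6 ≤ (j : ℕ)) ∧
      (aL.getD j 0 = (j : ℕ) ↔ 6 ≤ (j : ℕ)) ∧ aL.getD j 0 < 10 := by
    rcases hf with rfl | rfl <;> decide +kernel
  have e : (toL σ).getD (aL.getD i 0) 0 = f.getD ((σ i : Fin 10) : ℕ) 0 := by
    rw [← getD_comp _ _ (show (i : ℕ) < aL.length from i.isLt), h,
      getD_comp _ _ (by rw [length_toL]; exact i.isLt), getD_toL]
  rw [← (hfix _).1, ← (hfix i).2.1, ← e]
  show (toL σ).getD ((⟨_, (hfix i).2.2⟩ : Fin 10) : ℕ) 0 = _ ↔ _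
  rw [getD_toL, Fin.val_inj, σ.injective.eq_iff, Fin.ext_iff]

theorem mem_invols {f : List ℕ} (hf : f = aL ∨ f = bL) {σ : Perm (Fin 10)}
    (h : comp (toL σ) aL = comp f (toL σ)) (h2 : σ * σ = 1) (h8 : σ.support.card = 8) :
    toL σ ∈ invols f := by
  have hlt : ∀ i : Fin 10, ((σ i : Fin 10) : ℕ) < 10 := fun i => (σ i).isLt
  have ht := fixed_tail hf h
  have l10 : toL σ = [0, 1, 2, 3, 4, 5, 6, 7, 8, 9].map (fun i => (toL σ).getD i 0) := by
    simp [toL]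
  have hst : ∀ j : Fin 10, (toL σ).getD (aL.getD j 0) 0 = f.getD ((toL σ).getD j 0) 0 := fun j => by
    rw [← getD_comp _ _ (show (j : ℕ) < aL.length from j.isLt), h,
      getD_comp _ _ (by rw [length_toL]; exact j.isLt)]
  have e1 := hst 0; have e2 := hst 1; have e4 := hst 3; have e5 := hst 4
  simp only [Fin.isValue, show ((0 : Fin 10) : ℕ) = 0 from rfl, show ((1 : Fin 10) : ℕ) = 1 from rfl,
    show ((3 : Fin 10) : ℕ) = 3 from rfl, show ((4 : Fin 10) : ℕ) = 4 from rfl,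
    show aL.getD 0 0 = 1 from rfl, show aL.getD 1 0 = 2 from rfl, show aL.getD 3 0 = 4 from rfl,
    show aL.getD 4 0 = 5 from rfl] at e1 e2 e4 e5
  set p := (toL σ).getD 0 0 with hp
  set q := (toL σ).getD 3 0 with hq
  have hp6 : p < 6 := by
    have e : p = ((σ 0 : Fin 10) : ℕ) := getD_toL σ 0
    by_contra hc
    exact absurd ((ht 0).1 (by omega)) (by decide)
  have hq6 : q < 6 := by
    have e : q = ((σ 3 : Fin 10) : ℕ) := getD_toL σ 3
    by_contra hc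
    exact absurd ((ht 3).1 (by omega)) (by decide)
  have htail : ∀ j : Fin 10, 6 ≤ (j : ℕ) → (toL σ).getD j 0 ∈ [6, 7, 8, 9] := fun j hj => by
    have := (ht j).2 hj
    have := hlt j
    rw [getD_toL]
    simp only [List.mem_cons, List.not_mem_nil, or_false]
    omega
  have hinv : comp (toL σ) (toL σ) = idL := by rw [← toL_mul, h2, toL_one]
  rw [invols, List.mem_filter]
  refine ⟨?_, by simp [hinv, ← support_eq, h8]⟩
  rw [List.mem_flatMap]
  refine ⟨[p, f.getD p 0, f.getD (f.getD p 0) 0, q, f.getD q 0, f.getD (f.getD q 0) 0], ?_, ?_⟩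
  · exact List.mem_flatMap.2 ⟨p, List.mem_range.2 hp6,
      List.mem_map.2 ⟨q, List.mem_range.2 hq6, rfl⟩⟩
  refine List.mem_map.2 ⟨[(toL σ).getD 6 0, (toL σ).getD 7 0, (toL σ).getD 8 0, (toL σ).getD 9 0],
    ?_, ?_⟩
  · rw [fourInv, List.mem_filter]
    refine ⟨?_, ?_⟩
    · simp only [List.mem_flatMap, List.mem_map]
      exact ⟨_, htail 6 (by decide), _, htail 7 (by decide), _, htail 8 (by decide), _,
        htail 9 (by decide), rfl⟩
    · rw [beq_iff_eq]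
      have hv : ∀ j : Fin 10, (toL σ).getD ((toL σ).getD j 0) 0 = (j : ℕ) := fun j => by
        rw [getD_toL, getD_toL, show σ (σ j) = j from congrArg (fun g : Perm (Fin 10) => g j) h2]
      have h6 := hv 6; have h7 := hv 7; have h8' := hv 8; have h9 := hv 9
      have t6 := htail 6 (by decide); have t7 := htail 7 (by decide)
      have t8 := htail 8 (by decide); have t9 := htail 9 (by decide)
      simp only [Fin.isValue, show ((6 : Fin 10) : ℕ) = 6 from rfl,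
        show ((7 : Fin 10) : ℕ) = 7 from rfl, show ((8 : Fin 10) : ℕ) = 8 from rfl,
        show ((9 : Fin 10) : ℕ) = 9 from rfl, List.mem_cons, List.not_mem_nil, or_false]
        at h6 h7 h8' h9 t6 t7 t8 t9
      have hL : ∀ x, 6 ≤ x → x ≤ 9 → (List.range 6 ++ [(toL σ).getD 6 0, (toL σ).getD 7 0,
          (toL σ).getD 8 0, (toL σ).getD 9 0]).getD x 0 = (toL σ).getD x 0 := fun x hx hx' => by
        interval_cases x <;> rfl
      show [0, 1, 2, 3, 4, 5, _, _, _, _] = idL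
      beta_reduce
      rw [hL _ (by omega) (by omega), hL _ (by omega) (by omega), hL _ (by omega) (by omega),
        hL _ (by omega) (by omega), h6, h7, h8', h9]
      rfl
  · conv_rhs => rw [l10]
    simp only [List.map_cons, List.map_nil, List.cons_append, List.nil_append]
    rw [e2, e1, e5, e4]

/-- `q` conjugates the involution `σ`: the values of `q σ q` for an involution `q`. -/
def cjL (q p : List ℕ) : List ℕ := comp q (comp p q)

/-- Conjugating elements. -/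
def gens : List (List ℕ) := idL :: (innerL ++ outerL)

/-- Witnesses for the conjugacy of the inner involutions. -/
def witI : List (ℕ × ℕ) := [(2, 6), (0, 5), (0, 6), (0, 0), (0, 2), (0, 3), (2, 12), (0, 17), (0, 18), (0, 13), (0, 14), (0, 15), (2, 18), (0, 11), (0, 12), (0, 7), (0, 8), (0, 9)]

/-- Witnesses for the conjugacy of the outer involutions. -/
def witO : List (ℕ × ℕ × ℕ) := [(0, 0, 0), (0, 2, 0), (0, 3, 0), (0, 7, 1), (0, 8, 1), (0, 9, 1), (0, 13, 2), (0, 14, 2), (0, 15, 2), (0, 13, 1), (0, 14, 1), (0, 15, 1), (0, 0, 2), (0, 2, 2), (0, 3, 2), (0, 7, 0), (0, 8, 0), (0, 9, 0), (0, 7, 2), (0, 8, 2), (0, 9, 2), (0, 13, 0), (0, 14, 0), (0, 15, 0), (0, 0, 1), (0, 2, 1), (0, 3, 1), (0, 0, 3), (0, 3, 3), (0, 2, 3), (0, 20, 3), (0, 6, 3), (0, 5, 3), (0, 0, 5), (0, 3, 5), (0, 2, 5), (0, 20, 4), (0, 6, 5), (0, 5, 5), (0, 0, 4), (0, 3, 4), (0, 2, 4), (0, 20, 5), (0, 6, 4), (0, 5, 4)]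

/-- The values of `k * u`. -/
def lL : List ℕ := comp kL uL

/-- The six representatives of the outer classes. -/
def tgtL : List (List ℕ) :=
  [kL, comp kL aL, comp kL (comp aL aL), lL, comp lL aL, comp lL (comp aL aL)]

theorem inner_wit : ∀ i : Fin 18, (witI.getD i (0, 0)).1 ≤ 18 ∧ (witI.getD i (0, 0)).2 ≤ 18 ∧
    cjL (gens.getD (witI.getD i (0, 0)).2 idL)
      (cjL (gens.getD (witI.getD i (0, 0)).1 idL) (innerL.getD i idL)) = uL := by
  decide +kernel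

theorem outer_wit : ∀ i : Fin 45, (witO.getD i (0, 0, 0)).1 ≤ 63 ∧ (witO.getD i (0, 0, 0)).2.1 ≤ 63 ∧
    (witO.getD i (0, 0, 0)).2.2 < 6 ∧
    cjL (gens.getD (witO.getD i (0, 0, 0)).2.1 idL)
      (cjL (gens.getD (witO.getD i (0, 0, 0)).1 idL) (outerL.getD i idL)) =
        tgtL.getD (witO.getD i (0, 0, 0)).2.2 idL := by
  decide +kernel

theorem lists_facts : innerL.length = 18 ∧ outerL.length = 45 ∧ innerL.Nodup ∧ outerL.Nodup ∧
    (∀ p ∈ innerL, comp p p = idL ∧ suppL p = 8 ∧ comp p aL = comp aL p) ∧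
    (∀ p ∈ outerL, comp p p = idL ∧ suppL p = 8 ∧ comp p aL = comp bL p ∧ p ≠ comp aL p) ∧
    uL ∈ innerL ∧ kL ∈ outerL ∧ lL ∈ outerL ∧
    (outerL.filter fun p => fourL p == 4).length = 27 ∧
    (outerL.filter fun p => fourL p == 2).length = 18 ∧ fourL kL = 4 ∧ fourL lL = 2 := by
  decide +kernel

/-- The number of moved points of the half power, modulo eight, when the order is even. -/
def pairGood (p : List ℕ) (m : ℕ) : Bool :=
  suppL (powL p (m / 2)) % 8 == 4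

/-- The least exponent among the possible orders. -/
def ordL (p : List ℕ) : ℕ :=
  ([2, 4, 6, 12].filter fun m => powL p m == idL).headD 0

theorem pair_facts : (∀ p ∈ innerL, ∀ q ∈ outerL, ordL (comp p q) ∈ [2, 4, 6, 12] ∧
      powL (comp p q) (ordL (comp p q)) = idL ∧
      ∀ d ∈ List.range (ordL (comp p q)), d = 0 ∨ powL (comp p q) d ≠ idL) ∧
    (innerL.map fun p => outerL.countP fun q =>
      pairGood (comp p q) (ordL (comp p q))).sum = 594 := by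
  decide +kernel

/-- The values of `s`. -/
def sL : List ℕ := [0, 1, 2, 3, 4, 5, 7, 6, 9, 8]

/-- The values of `u'`. -/
def u'L : List ℕ := [3, 4, 5, 0, 1, 2, 6, 7, 9, 8]

/-- The values of an element conjugating `k` to `k z`. -/
def xkL : List ℕ := [0, 1, 2, 3, 4, 5, 8, 9, 6, 7]

theorem special_facts :
    suppL sL = 4 ∧ suppL xkL = 4 ∧ comp sL sL = idL ∧ comp xkL xkL = idL ∧
    comp sL aL = comp aL sL ∧ comp xkL aL = comp aL xkL ∧
    comp sL uL = comp uL sL ∧ suppL (comp sL uL) % 8 = 0 ∧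
    comp sL kL = comp kL sL ∧ suppL (comp sL kL) % 8 ≠ 0 ∧
    comp sL lL = comp lL sL ∧ suppL (comp sL lL) % 8 = 0 ∧
    comp xkL kL = comp kL xkL ∧ suppL (comp xkL kL) % 8 = 0 ∧
    comp kL uL = comp uL kL ∧ suppL (comp kL uL) % 8 = 0 ∧
    u'L ∈ innerL ∧ comp u'L kL = comp kL u'L ∧ suppL (comp u'L kL) % 8 = 0 ∧
    comp u'L uL = comp uL u'L ∧ suppL (comp u'L uL) % 8 ≠ 0 ∧
    comp kL u'L ∈ outerL ∧ fourL (comp kL u'L) = 2 ∧
    (innerL.countP fun p => (comp p lL == comp lL p) && (suppL (comp p lL) % 8 == 0)) = 3 := by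
  decide +kernel

theorem toL_aPerm : toL (swap 0 2 * swap 0 1 * (swap 3 5 * swap 3 4)) = aL := by decide +kernel

end CfsgLib.AltTwoCent.Ten
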