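import Cfsg.Agent.Lib.AltTwoCent.Big
import Cfsg.Agent.Lib.AltTwoCent.TenPerm

/-!
# S1645, piece C10: lifts to the involution centraliser of degree ten

Everything is read off the values in `A₁₀`: squares by `sq_invol`, commutation with the element of
order three by `comm_odd`.
-/

set_option autoImplicit false
set_option linter.style.haveILetI false
set_option linter.unusedSectionVars false

namespace CfsgLib.AltTwoCent.Ten

open Subgroup Equiv

universe u

variable {G : Type u} [Group G] [Finite G] (D : Cov 10 G)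

/-- The involution centraliser. -/
abbrev HH : Subgroup G := centralizer ({D.z} : Set G)

/-- The values of the image. -/
noncomputable def imL (x : ↥(HH D)) : List ℕ := toL (D.im x)

theorem imL_mul (x y : ↥(HH D)) : imL D (x * y) = comp (imL D x) (imL D y) := by
  rw [imL, map_mul, toL_mul]; rfl

theorem imL_one : imL D 1 = idL := by rw [imL, map_one, toL_one]

/-- `z` in its centraliser. -/
def zH : ↥(HH D) := ⟨D.z, mem_centralizer_singleton_iff.2 rfl⟩

theorem imL_z : imL D (zH D) = idL := by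
  rw [imL, show D.im (zH D) = 1 from congrArg Subtype.val ((D.π_ker (zH D)).2 (mem_zpowers _)),
    toL_one]

theorem comp_idL (p : List ℕ) (hp : p.length = 10) : comp p idL = p := by
  refine List.ext_getElem (by simp [comp, idL, hp]) fun i h1 h2 => ?_
  simp [comp, idL, h2]

theorem imL_mul_z (x : ↥(HH D)) : imL D (x * zH D) = imL D x := by
  rw [imL_mul, imL_z, comp_idL]
  exact length_toL _

theorem eq_or (x y : ↥(HH D)) (h : imL D x = imL D y) : x = y ∨ x = y * zH D := by
  have h1 : D.im (y⁻¹ * x) = 1 := by rw [map_mul, map_inv, toL_injective h, inv_mul_cancel]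
  rcases D.im_eq_one h1 with e | e
  · exact Or.inl (Subtype.ext (inv_mul_eq_one.1 e).symm)
  · exact Or.inr (Subtype.ext (inv_mul_eq_iff_eq_mul.1 e))

theorem sq_of_imL (x : ↥(HH D)) (h : comp (imL D x) (imL D x) = idL) :
    (x : G) * x = if suppL (imL D x) % 8 = 0 then 1 else D.z := by
  have h2 : D.im x * D.im x = 1 := toL_injective (by rw [toL_mul, toL_one]; exact h)
  have := D.sq_invol x (Subtype.ext h2)
  rw [show (D.π x : Perm (Fin 10)) = D.im x from rfl, support_eq] at this
  exact this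

theorem invol_of_imL {x : ↥(HH D)} (h : comp (imL D x) (imL D x) = idL)
    (h8 : suppL (imL D x) = 8) : (x : G) * x = 1 ∧ (x : G) ≠ 1 ∧ (x : G) ≠ D.z := by
  refine ⟨by rw [sq_of_imL D x h, h8]; rfl, fun e => ?_, fun e => ?_⟩
  · rw [show x = 1 from Subtype.ext e, imL_one] at h8; exact absurd h8 (by decide)
  · rw [show x = zH D from Subtype.ext e, imL_z] at h8; exact absurd h8 (by decide)

theorem comm_iff_of_imL {x y : ↥(HH D)} (hx : comp (imL D x) (imL D x) = idL)
    (hy : comp (imL D y) (imL D y) = idL) (hy8 : suppL (imL D y) % 8 = 0)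
    (hc : comp (imL D x) (imL D y) = comp (imL D y) (imL D x)) :
    (x : G) * y * (x : G)⁻¹ =
      if (suppL (imL D x) % 8 = 0 ↔ suppL (comp (imL D x) (imL D y)) % 8 = 0) then (y : G)
      else (y : G) * D.z := by
  have hy1 : (y : G) * y = 1 := by rw [sq_of_imL D y hy, if_pos hy8]
  have hxy : comp (imL D (x * y)) (imL D (x * y)) = idL := by
    have ex : D.im x * D.im x = 1 := toL_injective (by rw [toL_mul, toL_one]; exact hx)
    have ey : D.im y * D.im y = 1 := toL_injective (by rw [toL_mul, toL_one]; exact hy)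
    have ec : Commute (D.im x) (D.im y) := toL_injective (by rw [toL_mul, toL_mul]; exact hc)
    rw [imL, ← toL_mul, map_mul, ec.symm.mul_mul_mul_comm, ex, ey, one_mul, toL_one]
  have e0 := sq_of_imL D x hx
  have e1 := sq_of_imL D (x * y) hxy
  rw [imL_mul, Subgroup.coe_mul] at e1
  have hzy : Commute D.z (y : G) := (D.z_comm y).symm
  have h3 : (x : G) * y * x = ((x : G) * y * ((x : G) * y)) * y := by
    rw [show (x : G) * y * ((x : G) * y) * y = (x : G) * y * x * ((y : G) * y) by group, hy1, mul_one]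
  have hinv : (x : G)⁻¹ = x * ((x : G) * x)⁻¹ := by group
  rw [show (x : G) * y * (x : G)⁻¹ = (x : G) * y * x * ((x : G) * x)⁻¹ by group, h3, e0, e1]
  have hz := D.z_sq
  have hzi : D.z⁻¹ = D.z := inv_eq_of_mul_eq_one_right hz
  split_ifs <;> simp_all [hzy.eq, mul_assoc]

theorem commute_of_imL {x y : ↥(HH D)} (hx : comp (imL D x) (imL D x) = idL)
    (hy : comp (imL D y) (imL D y) = idL) (hy8 : suppL (imL D y) % 8 = 0)
    (hc : comp (imL D x) (imL D y) = comp (imL D y) (imL D x))
    (h : suppL (imL D x) % 8 = 0 ↔ suppL (comp (imL D x) (imL D y)) % 8 = 0) :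
    Commute (x : G) (y : G) := by
  have := comm_iff_of_imL D hx hy hy8 hc
  rw [if_pos h] at this
  exact mul_inv_eq_iff_eq_mul.1 this

theorem anti_of_imL {x y : ↥(HH D)} (hx : comp (imL D x) (imL D x) = idL)
    (hy : comp (imL D y) (imL D y) = idL) (hy8 : suppL (imL D y) % 8 = 0)
    (hc : comp (imL D x) (imL D y) = comp (imL D y) (imL D x))
    (h : ¬ (suppL (imL D x) % 8 = 0 ↔ suppL (comp (imL D x) (imL D y)) % 8 = 0)) :
    (x : G) * y * (x : G)⁻¹ = (y : G) * D.z := by
  rw [comm_iff_of_imL D hx hy hy8 hc, if_neg h]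

/-- An involutive list of values comes from a permutation. -/
theorem exists_perm {p : List ℕ} (hlen : p.length = 10) (hlt : ∀ v ∈ p, v < 10)
    (hp : comp p p = idL) : ∃ σ : Perm (Fin 10), toL σ = p ∧ σ * σ = 1 := by
  have hget : ∀ i : Fin 10, p.getD i 0 < 10 := fun i => by
    rw [List.getD_eq_getElem _ _ (by omega)]
    exact hlt _ (List.getElem_mem _)
  let f : Fin 10 → Fin 10 := fun i => ⟨p.getD i 0, hget i⟩
  have hf : Function.Involutive f := fun i => Fin.ext (by
    show p.getD (p.getD i 0) 0 = (i : ℕ)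
    rw [← getD_comp p p (by omega), hp, idL, List.getD_eq_getElem _ _ (by simp), List.getElem_range])
  refine ⟨hf.toPerm, ?_, Equiv.ext hf⟩
  refine List.ext_getElem (by rw [length_toL, hlen]) fun i h1 h2 => ?_
  simp only [toL, List.getElem_ofFn]
  exact List.getD_eq_getElem p 0 h2

theorem sign_of_invol {σ : Perm (Fin 10)} (h : σ * σ = 1) (h4 : σ.support.card % 4 = 0) :
    Perm.sign σ = 1 := by
  have h2 : σ ^ 2 = 1 := by rw [sq, h]
  rw [Perm.sign_of_pow_two_eq_one h2, Perm.card_fixedPoints, Perm.sum_cycleType,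
    Nat.sub_sub_self σ.support.card_le_univ]
  exact Even.neg_one_pow ⟨σ.support.card / 4, by omega⟩

theorem lifts_facts : ∀ p ∈ sL :: xkL :: u'L :: innerL ++ outerL,
    p.length = 10 ∧ (∀ v ∈ p, v < 10) ∧ comp p p = idL ∧ suppL p % 4 = 0 := by
  decide +kernel

theorem exists_lift {p : List ℕ} (hp : p ∈ sL :: xkL :: u'L :: innerL ++ outerL) :
    ∃ x : ↥(HH D), imL D x = p := by
  obtain ⟨h1, h2, h3, h4⟩ := lifts_facts p hp
  obtain ⟨σ, hσ, hσ2⟩ := exists_perm h1 h2 h3
  have he : σ ∈ alternatingGroup (Fin 10) :=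
    Perm.mem_alternatingGroup.2 (sign_of_invol hσ2 (by rw [support_eq, hσ]; exact h4))
  obtain ⟨x, hx⟩ := D.π_surj ⟨σ, he⟩
  exact ⟨x, by rw [imL, show D.im x = σ from congrArg Subtype.val hx, hσ]⟩

theorem inner_mem {p : List ℕ} (hp : p ∈ innerL) : p ∈ sL :: xkL :: u'L :: innerL ++ outerL := by
  simp [hp]

theorem outer_mem {p : List ℕ} (hp : p ∈ outerL) : p ∈ sL :: xkL :: u'L :: innerL ++ outerL := by
  simp [hp]

/-- Both lifts of each list of a family. -/
theorem card_lifts {L : List (List ℕ)} (hn : L.Nodup)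
    (hL : ∀ p ∈ L, p ∈ sL :: xkL :: u'L :: innerL ++ outerL) :
    Nat.card {x : ↥(HH D) // imL D x ∈ L} = L.length * 2 := by
  classical
  choose f hf using fun i : Fin L.length => exists_lift D (hL _ (List.get_mem L i))
  let g : Fin L.length × Bool → {x : ↥(HH D) // imL D x ∈ L} := fun q =>
    ⟨if q.2 then f q.1 else f q.1 * zH D, by
      split <;> simp only [imL_mul_z, hf] <;> exact List.get_mem L _⟩
  have hg : Function.Bijective g := by
    constructor
    · rintro ⟨i, b⟩ ⟨j, c⟩ e
      have e' : (if b then f i else f i * zH D) = if c then f j else f j * zH D := congrArg Subtype.val e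
      have h1 := congrArg (imL D) e'
      have : ∀ (i : Fin L.length) (b : Bool), imL D (if b then f i else f i * zH D) = L.get i :=
        fun i b => by split <;> simp only [imL_mul_z, hf]
      rw [this, this] at h1
      obtain rfl := hn.injective_get h1
      have hne : f i ≠ f i * zH D := fun h =>
        D.z_ne (congrArg Subtype.val (mul_eq_left.1 h.symm))
      cases b <;> cases c
      · rfl
      · exact absurd e'.symm hne
      · exact absurd e' hne
      · rfl
    · rintro ⟨x, hx⟩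
      obtain ⟨i, hi⟩ := List.mem_iff_get.1 hx
      rcases eq_or D x (f i) (by rw [hf, hi]) with h | h
      · exact ⟨(i, true), Subtype.ext h.symm⟩
      · exact ⟨(i, false), Subtype.ext h.symm⟩
  rw [← Nat.card_eq_of_bijective g hg, Nat.card_prod, Nat.card_fin, Nat.card_eq_fintype_card,
    Fintype.card_bool]

/-! ### The element of order three -/

/-- The standing data: `a` of type `3²`. -/
structure AElt where
  a : ↥(HH D)
  ord : orderOf (a : G) = 3
  val : imL D a = aL

variable {D} (A : AElt D)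

theorem AElt.inv_val : imL D A.a⁻¹ = bL := by
  have h : toL ((D.im A.a)⁻¹) = bL := by
    have e : (D.im A.a)⁻¹ = D.im A.a * D.im A.a := by
      rw [inv_eq_iff_mul_eq_one, ← map_mul, ← map_mul,
        show A.a * (A.a * A.a) = 1 from Subtype.ext (by
          push_cast
          rw [← mul_assoc, ← pow_three', ← A.ord, pow_orderOf_eq_one]), map_one]
    rw [e, toL_mul, show toL (D.im A.a) = aL from A.val]
    decide +kernel
  rw [imL, map_inv, h]

theorem AElt.commute {x : ↥(HH D)} (h : comp (imL D x) aL = comp aL (imL D x)) :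
    Commute (x : G) (A.a : G) :=
  D.comm_odd x A.a (by rw [A.ord]; decide) (Subtype.ext (toL_injective (by
    show toL (D.im x * D.im A.a) = toL (D.im A.a * D.im x)
    rw [toL_mul, toL_mul]
    rw [show toL (D.im A.a) = aL from A.val]
    exact h)))

theorem AElt.inverts {x : ↥(HH D)} (h : comp (imL D x) aL = comp bL (imL D x)) :
    (x : G) * A.a * (x : G)⁻¹ = (A.a : G)⁻¹ := by
  have hperm : D.im (x * A.a * x⁻¹) = D.im A.a⁻¹ := by
    have e : D.im x * D.im A.a = D.im A.a⁻¹ * D.im x := toL_injective (by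
      rw [toL_mul, toL_mul, show toL (D.im A.a) = aL from A.val,
        show toL (D.im A.a⁻¹) = bL from A.inv_val]
      exact h)
    rw [map_mul, map_mul, e, map_inv D.im x, mul_inv_cancel_right]
  rcases eq_or D _ _ (congrArg toL hperm) with e | e
  · exact congrArg Subtype.val e
  · exfalso
    have e' : (x : G) * A.a * (x : G)⁻¹ = (A.a : G)⁻¹ * D.z := congrArg Subtype.val e
    have h3 := congrArg (· ^ 3) e'
    simp only [conj_pow, (D.z_comm A.a).inv_left.mul_pow, inv_pow] at h3
    rw [← A.ord, pow_orderOf_eq_one, inv_one, one_mul, A.ord, mul_one, mul_inv_cancel,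
      pow_succ, sq, D.z_sq, one_mul] at h3
    exact D.z_ne h3.symm

theorem AElt.imL_comm {x : ↥(HH D)} (h : Commute (x : G) (A.a : G)) :
    comp (imL D x) aL = comp aL (imL D x) := by
  rw [← A.val, ← imL_mul, ← imL_mul]
  exact congrArg (imL D) (Subtype.ext h.eq)

theorem AElt.imL_inverts {x : ↥(HH D)} (h : (x : G) * A.a * (x : G)⁻¹ = (A.a : G)⁻¹) :
    comp (imL D x) aL = comp bL (imL D x) := by
  rw [← A.inv_val, ← A.val, ← imL_mul, ← imL_mul]
  refine congrArg (imL D) (Subtype.ext ?_)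
  push_cast
  exact mul_inv_eq_iff_eq_mul.1 h

theorem supp_eight {x : ↥(HH D)} (h2 : (x : G) * x = 1) (h1 : (x : G) ≠ 1) (hz : (x : G) ≠ D.z) :
    D.im x * D.im x = 1 ∧ (D.im x).support.card = 8 := by
  obtain ⟨hσ, hne, h8⟩ := D.image_invol h2 h1 hz
  refine ⟨Equiv.ext hσ, ?_⟩
  have hle : (D.im x).support.card ≤ 10 := by simpa using Finset.card_le_univ (D.im x).support
  have hpos : 0 < (D.im x).support.card :=
    Finset.card_pos.2 (Finset.nonempty_iff_ne_empty.2 fun h => hne (Perm.support_eq_empty_iff.1 h))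
  omega

theorem AElt.mem_inner {x : ↥(HH D)} (h2 : (x : G) * x = 1) (h1 : (x : G) ≠ 1)
    (hz : (x : G) ≠ D.z) (hc : Commute (x : G) (A.a : G)) : imL D x ∈ innerL := by
  obtain ⟨e, e8⟩ := supp_eight h2 h1 hz
  rw [← invols_eq.1]
  exact mem_invols (Or.inl rfl) (A.imL_comm hc) e e8

theorem AElt.mem_outer {x : ↥(HH D)} (h2 : (x : G) * x = 1) (h1 : (x : G) ≠ 1)
    (hz : (x : G) ≠ D.z) (hc : (x : G) * A.a * (x : G)⁻¹ = (A.a : G)⁻¹) : imL D x ∈ outerL := by
  obtain ⟨e, e8⟩ := supp_eight h2 h1 hz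
  rw [← invols_eq.2]
  exact mem_invols (Or.inr rfl) (A.imL_inverts hc) e e8

theorem inner_props {x : ↥(HH D)} (h : imL D x ∈ innerL) :
    ((x : G) * x = 1 ∧ (x : G) ≠ 1 ∧ (x : G) ≠ D.z) ∧ comp (imL D x) aL = comp aL (imL D x) :=
  ⟨invol_of_imL D (lists_facts.2.2.2.2.1 _ h).1 (lists_facts.2.2.2.2.1 _ h).2.1,
    (lists_facts.2.2.2.2.1 _ h).2.2⟩

theorem outer_props {x : ↥(HH D)} (h : imL D x ∈ outerL) :
    ((x : G) * x = 1 ∧ (x : G) ≠ 1 ∧ (x : G) ≠ D.z) ∧ comp (imL D x) aL = comp bL (imL D x) :=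
  ⟨invol_of_imL D (lists_facts.2.2.2.2.2.1 _ h).1 (lists_facts.2.2.2.2.2.1 _ h).2.1,
    (lists_facts.2.2.2.2.2.1 _ h).2.2.1⟩

/-- Whether `z` is a power is decided by the half power in `A₁₀`. -/
theorem z_mem_iff {h : ↥(HH D)} {m : ℕ} (hm : m ∈ [2, 4, 6, 12]) (hpow : powL (imL D h) m = idL)
    (hmin : ∀ d ∈ List.range m, d = 0 ∨ powL (imL D h) d ≠ idL) :
    D.z ∈ zpowers (h : G) ↔ pairGood (imL D h) m = true := by
  have hord : orderOf (D.im h) = m := by
    refine (orderOf_eq_iff (by rcases List.mem_cons.1 hm with rfl | hm <;> simp_all <;> omega)).2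
      ⟨toL_injective (by rw [toL_pow, toL_one]; exact hpow), fun d hd hd0 e => ?_⟩
    rcases hmin d (List.mem_range.2 hd) with h' | h'
    · omega
    · exact h' (by rw [imL, ← toL_pow, e, toL_one])
  obtain ⟨r, hr⟩ : ∃ r, m = r + r := ⟨m / 2, by
    simp only [List.mem_cons, List.not_mem_nil, or_false] at hm; omega⟩
  have hr0 : 0 < r := by simp only [List.mem_cons, List.not_mem_nil, or_false] at hm; omega
  have hhalf : D.im (h ^ r) * D.im (h ^ r) = 1 := by
    rw [map_pow, ← pow_add, ← hr, ← hord, pow_orderOf_eq_one]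
  have hsq := sq_of_imL D (h ^ r) (by rw [imL, ← toL_mul, hhalf, toL_one])
  rw [SubmonoidClass.coe_pow, ← pow_add, ← hr] at hsq
  have hv : imL D (h ^ r) = powL (imL D h) r := by rw [imL, map_pow, toL_pow]; rfl
  have h4 : suppL (imL D (h ^ r)) % 4 = 0 := by
    have he : Perm.sign (D.im (h ^ r)) = 1 := (D.π (h ^ r)).2
    rw [Perm.sign_of_pow_two_eq_one (by rw [sq, hhalf]), Perm.card_fixedPoints, Perm.sum_cycleType,
      Nat.sub_sub_self (D.im (h ^ r)).support.card_le_univ] at he
    obtain ⟨j, hj⟩ := Perm.two_dvd_card_support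
      (show D.im (h ^ r) ^ 2 = 1 by rw [sq, hhalf])
    rw [support_eq] at he hj
    rw [imL, hj]
    rw [hj, Nat.mul_div_cancel_left j two_pos] at he
    rcases Nat.even_or_odd j with ⟨i, hi⟩ | ho
    · omega
    · rw [ho.neg_one_pow] at he
      exact absurd he (by decide)
  rw [pairGood, show m / 2 = r by omega, ← hv, beq_iff_eq]
  by_cases h8 : suppL (imL D (h ^ r)) % 8 = 0
  · rw [if_pos h8] at hsq
    refine ⟨fun hz => ?_, fun h' => by omega⟩
    exfalso
    obtain ⟨i, hi⟩ := mem_zpowers_iff.1 hz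
    have hone : (D.im h) ^ i = 1 := by
      rw [← map_zpow, show h ^ i = zH D from Subtype.ext (by rw [SubgroupClass.coe_zpow]; exact hi)]
      exact congrArg Subtype.val ((D.π_ker (zH D)).2 (mem_zpowers _))
    obtain ⟨q, hq⟩ := (hord ▸ orderOf_dvd_iff_zpow_eq_one.2 hone : (m : ℤ) ∣ i)
    rw [hq, zpow_mul, zpow_natCast, hsq, one_zpow] at hi
    exact D.z_ne hi.symm
  · rw [if_neg h8] at hsq
    exact ⟨fun _ => by omega, fun _ => mem_zpowers_iff.2 ⟨m, by rw [zpow_natCast]; exact hsq⟩⟩

end CfsgLib.AltTwoCent.Ten
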