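import Cfsg.Agent.Lib.AltTwoCent.TenLift

/-!
# S1645, piece C10: `N(⟨a⟩)/⟨a⟩` seen from the involution centraliser

Representatives in `C(z)`, the orders of the centralisers of `z`, and orbits of conjugation.
-/

set_option autoImplicit false
set_option maxRecDepth 100000
set_option linter.style.haveILetI false
set_option linter.unusedSectionVars false

namespace CfsgLib.AltTwoCent.Ten

open Subgroup Equiv

universe u

theorem half_card {P : Type u} [Group P] [Finite P] {Q X : Subgroup P} (hQ : Q.index = 2) {k : P}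
    (hk : k ∈ X) (hkQ : k ∉ Q) : Nat.card X = 2 * Nat.card ↥(Q ⊓ X) := by
  have h : (Q.subgroupOf X).index = 2 := by
    rw [index_eq_two_iff]
    refine ⟨⟨k, hk⟩, fun b => ?_⟩
    by_cases hb : (b : P) ∈ Q <;>
      simp [mem_subgroupOf, mul_mem_iff_of_index_two hQ, hkQ, hb]
  have h1 := (Q.subgroupOf X).card_mul_index
  rw [h, ← inf_subgroupOf_right,
    Nat.card_congr (subgroupOfEquivOfLe (inf_le_right : Q ⊓ X ≤ X)).toEquiv] at h1
  omega

/-- Orbit and stabiliser for conjugation by the elements of a subgroup. -/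
theorem card_orbit_mul {P : Type u} [Group P] (Z : Subgroup P) (x : P) :
    Nat.card {v : P // ∃ c ∈ Z, c * x * c⁻¹ = v} * Nat.card ↥(Z ⊓ centralizer ({x} : Set P)) =
      Nat.card Z := by
  let S : Subgroup Z := (centralizer ({x} : Set P)).subgroupOf Z
  have hS : Nat.card S = Nat.card ↥(Z ⊓ centralizer ({x} : Set P)) := Nat.card_congr
    { toFun := fun c => ⟨c.1.1, c.1.2, c.2⟩
      invFun := fun c => ⟨⟨c.1, c.2.1⟩, c.2.2⟩
      left_inv := fun _ => rfl
      right_inv := fun _ => rfl }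
  have key : ∀ c d : Z, (c : P) * x * (c : P)⁻¹ = d * x * (d : P)⁻¹ ↔ c⁻¹ * d ∈ S := fun c d => by
    rw [mem_subgroupOf, mem_centralizer_singleton_iff, Subgroup.coe_mul, Subgroup.coe_inv]
    constructor
    · intro h
      calc (c : P)⁻¹ * d * x = (c : P)⁻¹ * ((d : P) * x * (d : P)⁻¹) * d := by group
        _ = x * ((c : P)⁻¹ * d) := by rw [← h]; group
    · intro h
      calc (c : P) * x * (c : P)⁻¹ = c * (x * ((c : P)⁻¹ * d)) * (d : P)⁻¹ := by group
        _ = d * x * (d : P)⁻¹ := by rw [← h]; group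
  let f : Z ⧸ S → {v : P // ∃ c ∈ Z, c * x * c⁻¹ = v} :=
    Quotient.lift (fun c : Z => ⟨(c : P) * x * (c : P)⁻¹, c, c.2, rfl⟩) fun c d h =>
      Subtype.ext ((key c d).2 (QuotientGroup.leftRel_apply.1 h))
  have hf : Function.Bijective f := by
    constructor
    · intro a b
      induction a using QuotientGroup.induction_on with
      | H c => induction b using QuotientGroup.induction_on with
        | H d => exact fun h => QuotientGroup.eq.2 ((key c d).1 (congrArg Subtype.val h))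
    · rintro ⟨v, c, hc, rfl⟩
      exact ⟨((⟨c, hc⟩ : Z) : Z ⧸ S), rfl⟩
  rw [← Nat.card_eq_of_bijective f hf, ← hS]
  exact S.index_mul_card

variable {G : Type u} [Group G] [Finite G] {D : Cov 10 G} (A : AElt D)

/-- The normalizer. -/
abbrev NN : Subgroup G := normalizer (zpowers (A.a : G) : Set G)

/-- The projection. -/
abbrev qq : ↥(NN A) →* Loc (A.a : G) :=
  QuotientGroup.mk' ((zpowers (A.a : G)).subgroupOf (NN A))

/-- The image of the centralizer. -/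
abbrev QQ : Subgroup (Loc (A.a : G)) :=
  ((centralizer ({(A.a : G)} : Set G)).subgroupOf (NN A)).map (qq A)

theorem a_cube : (A.a : G) ^ 3 = 1 := A.ord ▸ pow_orderOf_eq_one _

theorem a_ne : (A.a : G) ≠ 1 := fun h => by simpa [h] using A.ord

theorem a_inv : (A.a : G)⁻¹ = (A.a : G) ^ 2 :=
  inv_eq_of_mul_eq_one_right (by rw [← pow_succ', a_cube])

theorem mem_A {w : G} (hw : w ∈ zpowers (A.a : G)) : ∃ l : Fin 3, w = (A.a : G) ^ (l : ℕ) := by
  classical
  obtain ⟨i, hi, rfl⟩ := Finset.mem_image.1 (mem_zpowers_iff_mem_range_orderOf.1 hw)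
  rw [A.ord, Finset.mem_range] at hi
  exact ⟨⟨i, hi⟩, rfl⟩

theorem a_pow_two {l : Fin 3} (h : (A.a : G) ^ (l : ℕ) * (A.a : G) ^ (l : ℕ) = 1) : l = 0 := by
  rw [← pow_add] at h
  have h' := orderOf_dvd_of_pow_eq_one h
  rw [A.ord] at h'
  have := l.isLt
  exact Fin.ext (show (l : ℕ) = 0 by omega)

theorem mem_NN {x : G} (h : x * A.a * x⁻¹ = A.a ∨ x * A.a * x⁻¹ = (A.a : G)⁻¹) : x ∈ NN A := by
  refine mem_normalizer_fintype fun w hw => ?_
  obtain ⟨i, rfl⟩ := mem_zpowers_iff.1 hw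
  rw [← conj_zpow]
  rcases h with h | h <;> rw [h]
  · exact zpow_mem (mem_zpowers _) i
  · exact zpow_mem (inv_mem (mem_zpowers _)) i

theorem comm_mem {x : G} (h : Commute x (A.a : G)) : x ∈ NN A :=
  mem_NN A (Or.inl (mul_inv_eq_iff_eq_mul.2 h.eq))

theorem conj_cases {x : G} (hx : x ∈ NN A) :
    x * A.a * x⁻¹ = A.a ∨ x * A.a * x⁻¹ = (A.a : G)⁻¹ := by
  obtain ⟨l, hl⟩ := mem_A A ((mem_normalizer_iff.1 hx (A.a : G)).1 (mem_zpowers _))
  rw [hl, a_inv]
  fin_cases l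
  · simp only [pow_zero, conj_eq_one_iff] at hl
    exact absurd hl (a_ne A)
  · exact Or.inl (pow_one _)
  · exact Or.inr rfl

theorem za : Commute D.z (A.a : G) := (D.z_comm A.a).symm

theorem q_eq {x y : G} (hx : x ∈ NN A) (hy : y ∈ NN A) :
    qq A ⟨x, hx⟩ = qq A ⟨y, hy⟩ ↔ ∃ l : Fin 3, y = x * (A.a : G) ^ (l : ℕ) := by
  rw [QuotientGroup.mk'_apply, QuotientGroup.mk'_apply, QuotientGroup.eq, mem_subgroupOf]
  refine ⟨fun h => ?_, ?_⟩
  · obtain ⟨l, hl⟩ := mem_A A (w := x⁻¹ * y) h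
    exact ⟨l, by rw [← hl, mul_inv_cancel_left]⟩
  · rintro ⟨l, rfl⟩
    show x⁻¹ * (x * (A.a : G) ^ (l : ℕ)) ∈ zpowers (A.a : G)
    rw [inv_mul_cancel_left]
    exact pow_mem (mem_zpowers _) _

theorem mem_QQ {x : G} (hx : x ∈ NN A) : qq A ⟨x, hx⟩ ∈ QQ A ↔ Commute x (A.a : G) := by
  constructor
  · rintro ⟨⟨y, hy⟩, hyc, e⟩
    obtain ⟨l, hl⟩ := (q_eq A hy hx).1 e
    rw [hl]
    exact Commute.mul_left (mem_centralizer_singleton_iff.1 hyc) (Commute.pow_self _ _)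
  · exact fun h => mem_map_of_mem _ (mem_subgroupOf.2 (mem_centralizer_singleton_iff.2 h.eq))

/-- Commutation with an involution centralising `a` can be read upstairs. -/
theorem of_comm {x w : G} (hx : x ∈ NN A) (hw : Commute w (A.a : G)) (h2 : w * w = 1)
    (h : Commute (qq A ⟨x, hx⟩) (qq A ⟨w, comm_mem A hw⟩)) : Commute x w := by
  have e : qq A ⟨x * w, mul_mem hx (comm_mem A hw)⟩ = qq A ⟨w * x, mul_mem (comm_mem A hw) hx⟩ :=
    h.eq
  obtain ⟨l, hl⟩ := (q_eq A _ _).1 e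
  have h1 : x⁻¹ * w * x = w * (A.a : G) ^ (l : ℕ) := by
    rw [mul_assoc, hl, ← mul_assoc, inv_mul_cancel_left]
  have h3 : (A.a : G) ^ (l : ℕ) * (A.a : G) ^ (l : ℕ) = 1 := by
    have e2 : w * (A.a : G) ^ (l : ℕ) * (w * (A.a : G) ^ (l : ℕ)) = 1 := by
      rw [← h1, show x⁻¹ * w * x * (x⁻¹ * w * x) = x⁻¹ * (w * w) * x by group, h2]; group
    rwa [(hw.pow_right (l : ℕ)).symm.mul_mul_mul_comm, h2, one_mul] at e2
  rw [a_pow_two A h3] at hl
  exact (hl.trans (by simp)).symm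

theorem comm_qq {x y : G} (hx : x ∈ NN A) (hy : y ∈ NN A) (h : Commute x y) :
    Commute (qq A ⟨x, hx⟩) (qq A ⟨y, hy⟩) :=
  Commute.map (show Commute (⟨x, hx⟩ : ↥(NN A)) ⟨y, hy⟩ from Subtype.ext h.eq) (qq A)

theorem conj_qq {x y w : G} (hx : x ∈ NN A) (hy : y ∈ NN A) (hw : w ∈ NN A)
    (h : x * y * x⁻¹ = w) : qq A ⟨x, hx⟩ * qq A ⟨y, hy⟩ * (qq A ⟨x, hx⟩)⁻¹ = qq A ⟨w, hw⟩ := by
  rw [← map_inv, ← map_mul, ← map_mul]
  exact congrArg (qq A) (Subtype.ext h)

/-- The involution in the quotient. -/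
abbrev zL : Loc (A.a : G) := qq A ⟨D.z, comm_mem A (za A)⟩

theorem comm_zL (x : ↥(HH D)) (hx : (x : G) ∈ NN A) :
    Commute (qq A ⟨(x : G), hx⟩) (zL A) :=
  comm_qq A _ _ (D.z_comm x)

theorem rep_z {v : Loc (A.a : G)} (hv : Commute v (zL A)) :
    ∃ (x : ↥(HH D)) (h : (x : G) ∈ NN A), qq A ⟨(x : G), h⟩ = v := by
  obtain ⟨⟨x, hx⟩, rfl⟩ := QuotientGroup.mk'_surjective _ v
  exact ⟨⟨x, mem_centralizer_singleton_iff.2 (of_comm A hx (za A) D.z_sq hv).eq⟩, hx, rfl⟩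

theorem orderOf_qq {x : G} (hx : x ∈ NN A) (h2 : x * x = 1) (h1 : x ≠ 1) :
    orderOf (qq A ⟨x, hx⟩) = 2 := by
  refine orderOf_eq_prime ?_ fun e => ?_
  · rw [pow_two, ← map_mul, ← map_one (qq A)]
    exact congrArg (qq A) (Subtype.ext h2)
  · rw [← map_one (qq A)] at e
    obtain ⟨l, hl⟩ := (q_eq A hx (one_mem _)).1 e
    have hx' : x = ((A.a : G) ^ (l : ℕ))⁻¹ := eq_inv_of_mul_eq_one_left hl.symm
    rw [hx', ← mul_inv_rev, inv_eq_one] at h2
    rw [a_pow_two A h2] at hx'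
    exact h1 (by simpa using hx')

theorem invol_rep {v : Loc (A.a : G)} (h2 : orderOf v = 2) (hv : Commute v (zL A)) :
    ∃ (x : ↥(HH D)) (h : (x : G) ∈ NN A), qq A ⟨(x : G), h⟩ = v ∧ (x : G) * x = 1 ∧
      (x : G) ≠ 1 := by
  obtain ⟨x, hx, rfl⟩ := rep_z A hv
  have hsq : qq A ⟨(x : G), hx⟩ * qq A ⟨(x : G), hx⟩ = 1 := by
    rw [← pow_two, ← h2, pow_orderOf_eq_one]
  have e : qq A (⟨1, one_mem _⟩ : ↥(NN A)) = qq A ⟨(x : G) * x, mul_mem hx hx⟩ := by
    rw [show (⟨(x : G) * x, mul_mem hx hx⟩ : ↥(NN A)) = ⟨x, hx⟩ * ⟨x, hx⟩ from rfl, map_mul, hsq]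
    exact map_one _
  obtain ⟨l, hl⟩ := (q_eq A _ _).1 e
  rw [one_mul] at hl
  have hy : ((x ^ 3 : ↥(HH D)) : G) ∈ NN A := by push_cast; exact pow_mem hx 3
  have hq : qq A ⟨((x ^ 3 : ↥(HH D)) : G), hy⟩ = qq A ⟨(x : G), hx⟩ := by
    rw [show (⟨((x ^ 3 : ↥(HH D)) : G), hy⟩ : ↥(NN A)) = ⟨x, hx⟩ ^ 3 from
      Subtype.ext (by push_cast; rfl), map_pow, pow_succ, pow_two, hsq, one_mul]
  refine ⟨x ^ 3, hy, hq, ?_, fun h1 => ?_⟩
  · push_cast
    rw [← pow_add, show 3 + 3 = 2 * 3 from rfl, pow_mul, pow_two, hl, ← pow_mul, mul_comm,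
      pow_mul, a_cube, one_pow]
  · have : qq A ⟨((x ^ 3 : ↥(HH D)) : G), hy⟩ = 1 := by
      rw [show (⟨((x ^ 3 : ↥(HH D)) : G), hy⟩ : ↥(NN A)) = 1 from Subtype.ext h1, map_one]
    rw [hq] at this
    rw [this, orderOf_one] at h2
    omega

/-- An element of `C(z) ∩ N` preserves the last four points. -/
theorem tail_of_mem {x : ↥(HH D)} (hx : (x : G) ∈ NN A) (i : Fin 10) :
    6 ≤ ((D.im x i : Fin 10) : ℕ) ↔ 6 ≤ (i : ℕ) := by
  rcases conj_cases A hx with h | h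
  · exact fixed_tail (Or.inl rfl) (A.imL_comm (mul_inv_eq_iff_eq_mul.1 h)) i
  · exact fixed_tail (Or.inr rfl) (A.imL_inverts h) i

theorem im_a : D.im A.a = swap 0 2 * swap 0 1 * (swap 3 5 * swap 3 4) :=
  toL_injective (A.val.trans toL_aPerm.symm)

theorem card_cent_aPerm : Nat.card (centralizer
    ({swap 0 2 * swap 0 1 * (swap 3 5 * swap 3 4)} : Set (Perm (Fin 10)))) = 432 := by
  rw [Perm.nat_card_centralizer]
  decide +kernel

theorem comm_iff_im (x : ↥(HH D)) : Commute (x : G) (A.a : G) ↔ Commute (D.im x) (D.im A.a) := by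
  refine ⟨fun h => ?_, fun h => D.comm_odd x A.a (by rw [A.ord]; decide) (Subtype.ext h.eq)⟩
  exact Commute.map (show Commute x A.a from Subtype.ext h.eq) D.im

theorem card_cent_a : Nat.card ↥(centralizer ({A.a} : Set ↥(HH D))) = 432 := by
  let Z : Subgroup ↥(HH D) := centralizer ({A.a} : Set ↥(HH D))
  let C : Subgroup (Perm (Fin 10)) := centralizer ({D.im A.a} : Set (Perm (Fin 10)))
  have hmem : ∀ x : ↥(HH D), x ∈ Z ↔ D.im x ∈ C := fun x => by
    rw [mem_centralizer_singleton_iff, mem_centralizer_singleton_iff]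
    refine ⟨fun h => ((comm_iff_im A x).1 ?_).eq, fun h => Subtype.ext ((comm_iff_im A x).2 h).eq⟩
    exact congrArg Subtype.val h
  let f : Z →* Perm (Fin 10) := D.im.comp Z.subtype
  have hrange : f.range = alternatingGroup (Fin 10) ⊓ C := by
    ext σ
    constructor
    · rintro ⟨x, rfl⟩
      exact ⟨(D.π x.1).2, (hmem _).1 x.2⟩
    · rintro ⟨h1, h2⟩
      obtain ⟨x, hx⟩ := D.π_surj ⟨σ, h1⟩
      have e : D.im x = σ := congrArg Subtype.val hx
      exact ⟨⟨x, (hmem x).2 (by rw [e]; exact h2)⟩, e⟩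
  have hker : Nat.card f.ker = 2 := by
    have hz : zH D ∈ Z := mem_centralizer_singleton_iff.2 (Subtype.ext (za A).eq)
    rw [← D.ord_z, ← Nat.card_zpowers]
    refine Nat.card_congr
      { toFun := fun x => ⟨x.1.1.1, (D.π_ker _).1 (Subtype.ext x.2)⟩
        invFun := fun w => ⟨⟨⟨w.1, (zpowers_le.2 (mem_centralizer_singleton_iff.2 rfl)) w.2⟩,
          ?_⟩, congrArg Subtype.val ((D.π_ker _).2 w.2)⟩
        left_inv := fun _ => rfl
        right_inv := fun _ => rfl }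
    refine (hmem _).2 ?_
    rw [show D.im ⟨w.1, _⟩ = 1 from congrArg Subtype.val ((D.π_ker _).2 w.2)]
    exact C.one_mem
  have h := f.ker.card_mul_index
  rw [index_ker, hker, hrange] at h
  rw [← h, ← card_cent_aPerm, ← im_a A]
  refine (half_card alternatingGroup.index_eq_two (k := swap 6 7) ?_ ?_).symm
  · rw [mem_centralizer_singleton_iff, im_a A]
    decide +kernel
  · rw [Perm.mem_alternatingGroup]
    decide +kernel

/-- The image of `C(a, z)` is the part of `Q` centralising `z`. -/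
theorem card_cent_zQ : Nat.card ↥(QQ A ⊓ centralizer ({zL A} : Set (Loc (A.a : G)))) = 144 := by
  let Z : Subgroup ↥(HH D) := centralizer ({A.a} : Set ↥(HH D))
  have hca : ∀ x : Z, Commute (x.1 : G) (A.a : G) := fun x =>
    congrArg Subtype.val (mem_centralizer_singleton_iff.1 x.2)
  let φ : Z →* Loc (A.a : G) := (qq A).comp
    (((HH D).subtype.comp Z.subtype).codRestrict (NN A) fun x => comm_mem A (hca x))
  have hrange : φ.range = QQ A ⊓ centralizer ({zL A} : Set (Loc (A.a : G))) := by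
    ext v
    constructor
    · rintro ⟨x, rfl⟩
      exact ⟨(mem_QQ A _).2 (hca x), mem_centralizer_singleton_iff.2 (comm_zL A x.1 _).eq⟩
    · rintro ⟨h1, h2⟩
      obtain ⟨x, hx, rfl⟩ := rep_z A (mem_centralizer_singleton_iff.1 h2)
      exact ⟨⟨x, mem_centralizer_singleton_iff.2 (Subtype.ext ((mem_QQ A hx).1 h1).eq)⟩, rfl⟩
  have hker : Nat.card φ.ker = 3 := by
    rw [← A.ord, ← Nat.card_zpowers]
    refine Nat.card_congr
      { toFun := fun x => ⟨x.1.1.1, (QuotientGroup.eq_one_iff (N :=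
          (zpowers (A.a : G)).subgroupOf (NN A)) _).1 x.2⟩
        invFun := fun w => ⟨⟨⟨w.1, zpowers_le.2 A.a.2 w.2⟩, ?_⟩, ?_⟩
        left_inv := fun _ => rfl
        right_inv := fun _ => rfl }
    · obtain ⟨l, hl⟩ := mem_A A w.2
      exact mem_centralizer_singleton_iff.2 (Subtype.ext (by
        show w.1 * (A.a : G) = (A.a : G) * w.1
        rw [hl, ← pow_succ, ← pow_succ']))
    · exact (QuotientGroup.eq_one_iff (N := (zpowers (A.a : G)).subgroupOf (NN A)) _).2 w.2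
  have h := φ.ker.card_mul_index
  rw [index_ker, hker, hrange, card_cent_a A] at h
  omega

theorem index_QQ {k : G} (hk : k * A.a * k⁻¹ = (A.a : G)⁻¹) :
    (QQ A).index = 2 ∧ qq A ⟨k, mem_NN A (Or.inr hk)⟩ ∉ QQ A := by
  have hout : ¬ Commute k (A.a : G) := fun h => by
    have h' : (A.a : G) = (A.a : G)⁻¹ := (mul_inv_eq_iff_eq_mul.2 h.eq).symm.trans hk
    have h2 := orderOf_dvd_of_pow_eq_one (show (A.a : G) ^ 2 = 1 by
      rw [pow_two]; exact mul_eq_one_iff_eq_inv.2 h')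
    rw [A.ord] at h2
    omega
  refine ⟨index_eq_two_iff.2 ⟨qq A ⟨k, mem_NN A (Or.inr hk)⟩, fun b => ?_⟩,
    fun h => hout ((mem_QQ A _).1 h)⟩
  obtain ⟨⟨x, hx⟩, rfl⟩ := QuotientGroup.mk'_surjective _ b
  rw [← map_mul]
  show Xor (qq A ⟨x * k, mul_mem hx (mem_NN A (Or.inr hk))⟩ ∈ QQ A) (qq A ⟨x, hx⟩ ∈ QQ A)
  rw [mem_QQ A (mul_mem hx (mem_NN A (Or.inr hk))), mem_QQ A hx]
  by_cases h : Commute x (A.a : G)
  · refine Or.inr ⟨h, fun h' => hout ?_⟩
    have := h.inv_left.mul_left h'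
    rwa [inv_mul_cancel_left] at this
  · refine Or.inl ⟨?_, h⟩
    have hx' := (conj_cases A hx).resolve_left fun e => h (mul_inv_eq_iff_eq_mul.1 e)
    refine mul_inv_eq_iff_eq_mul.1 ?_
    rw [show x * k * A.a * (x * k)⁻¹ = x * (k * A.a * k⁻¹) * x⁻¹ by group, hk, ← conj_inv, hx',
      inv_inv]

theorem card_cent_zL {k : ↥(HH D)} (hk : (k : G) * A.a * (k : G)⁻¹ = (A.a : G)⁻¹) :
    Nat.card ↥(centralizer ({zL A} : Set (Loc (A.a : G)))) = 288 := by
  obtain ⟨hi, hout⟩ := index_QQ A hk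
  rw [half_card hi (mem_centralizer_singleton_iff.2 (comm_zL A k (mem_NN A (Or.inr hk))).eq) hout,
    card_cent_zQ A]

end CfsgLib.AltTwoCent.Ten
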