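import Cfsg.Agent.Lib.AltTwoCent.PairBasics

/-!
# Degree ten: one class of outer involutions, and the involutions of `C_Q(z, k)`

For commuting involutions `x ∈ Q`, `w ∉ Q` the number `nn x w = #C_Q(x, w)` is `8` or `12`; it
separates the two classes of such pairs.
-/

set_option autoImplicit false
set_option linter.style.haveILetI false
set_option linter.unusedSectionVars false

namespace CfsgLib.AltTwoCent

open Subgroup CfsgLib.Involutions

universe u

namespace TenData

variable {P : Type u} [Group P] [Finite P] (E : TenData P)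
include E

/-- The size separating the two kinds of commuting pairs. -/
noncomputable def nn (x w : P) : ℕ :=
  Nat.card ↥(E.Q ⊓ centralizer ({x} : Set P) ⊓ centralizer ({w} : Set P))

theorem nn_conj (c x w : P) : E.nn (c * x * c⁻¹) (c * w * c⁻¹) = E.nn x w := by
  have hmem : ∀ y x w : P, y ∈ E.Q ⊓ centralizer ({x} : Set P) ⊓ centralizer ({w} : Set P) ↔
      y ∈ E.Q ∧ Commute y x ∧ Commute y w := fun y x w => by
    rw [mem_inf, mem_inf, mem_centralizer_singleton_iff, mem_centralizer_singleton_iff, and_assoc]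
    rfl
  have e : ∀ v : P, c⁻¹ * (c * v * c⁻¹) * c⁻¹⁻¹ = v := fun v => by group
  unfold nn
  refine Nat.card_congr
    { toFun := fun y => ⟨c⁻¹ * (y : P) * c⁻¹⁻¹, ?_⟩
      invFun := fun y => ⟨c * (y : P) * c⁻¹, ?_⟩
      left_inv := fun y => Subtype.ext (by group)
      right_inv := fun y => Subtype.ext (by group) }
  · obtain ⟨h1, h2, h3⟩ := (hmem _ _ _).1 y.2
    refine (hmem _ _ _).2 ⟨(E.toPairCore.conj_iff _ _).2 h1, ?_, ?_⟩
    · have := commute_conj h2 c⁻¹
      rwa [e] at this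
    · have := commute_conj h3 c⁻¹
      rwa [e] at this
  · obtain ⟨h1, h2, h3⟩ := (hmem _ _ _).1 y.2
    exact (hmem _ _ _).2 ⟨(E.toPairCore.conj_iff _ _).2 h1, commute_conj h2 c, commute_conj h3 c⟩

theorem nn_mul (x w : P) : E.nn x (w * x) = E.nn x w := by
  have e : ∀ y : P, y ∈ centralizer ({x} : Set P) →
      (y ∈ centralizer ({w * x} : Set P) ↔ y ∈ centralizer ({w} : Set P)) := by
    intro y hy
    rw [mem_centralizer_singleton_iff, mem_centralizer_singleton_iff]
    have hc : y * x = x * y := mem_centralizer_singleton_iff.1 hy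
    constructor <;> intro h
    · exact mul_right_cancel (b := x) (by rw [mul_assoc, h, mul_assoc, ← hc, ← mul_assoc])
    · rw [← mul_assoc, h, mul_assoc, hc, ← mul_assoc]
  unfold nn
  refine congrArg (fun S : Subgroup P => Nat.card S) (SetLike.ext fun y => ?_)
  simp only [mem_inf]
  exact and_congr_right fun h => e y h.2

theorem nn_z_k : E.nn E.z E.k = 8 := E.card_k

theorem nn_z_kz : E.nn E.z (E.k * E.z) = 8 := by rw [E.nn_mul, E.nn_z_k]

theorem nn_z_ku : E.nn E.z (E.k * E.u) = 12 := E.card_l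

theorem nn_z_kuz : E.nn E.z (E.k * E.u * E.z) = 12 := by rw [E.nn_mul, E.nn_z_ku]

theorem nn_z_ku' : E.nn E.z (E.k * E.u') = 12 := E.u'l

theorem nn_z_ku'z : E.nn E.z (E.k * E.u' * E.z) = 12 := by rw [E.nn_mul, E.nn_z_ku']

/-- The inner involutions of the four-group of `u`. -/
theorem mem_V {x : P} (hx : x ∈ E.Q) (hxz : Commute x E.z) (hxu : Commute x E.u) :
    x = 1 ∨ x = E.z ∨ x = E.u ∨ x = E.u * E.z := by
  classical
  set V := E.Q ⊓ centralizer ({E.z} : Set P) ⊓ centralizer ({E.u} : Set P) with hV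
  have hmem : ∀ y : P, y ∈ E.Q → Commute y E.z → Commute y E.u → y ∈ V := fun y a b c =>
    ⟨⟨a, mem_centralizer_singleton_iff.2 b.eq⟩, mem_centralizer_singleton_iff.2 c.eq⟩
  have hzu1 : E.u * E.z ≠ 1 := fun h => E.u_ne (by
    rw [← invol_inv E.ord_z]; exact eq_inv_of_mul_eq_one_left h)
  by_contra hne
  push Not at hne
  let f : Fin 5 → V := ![⟨1, one_mem _⟩, ⟨E.z, hmem _ E.zQ (Commute.refl _) E.zu⟩,
    ⟨E.u, hmem _ E.uQ E.zu.symm (Commute.refl _)⟩,
    ⟨E.u * E.z, hmem _ (E.Q.mul_mem E.uQ E.zQ) (E.zu.symm.mul_left (Commute.refl _))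
      ((Commute.refl _).mul_left E.zu)⟩, ⟨x, hmem _ hx hxz hxu⟩]
  have hinj : Function.Injective f := by
    intro i j h
    have h' : (f i : P) = f j := congrArg Subtype.val h
    fin_cases i <;> fin_cases j <;> first
      | rfl
      | (exfalso; simp [f] at h';
         first
          | exact invol_ne_one E.ord_z h' | exact invol_ne_one E.ord_z h'.symm
          | exact invol_ne_one E.ord_u h' | exact invol_ne_one E.ord_u h'.symm
          | exact E.u_ne h' | exact E.u_ne h'.symm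
          | exact hzu1 h' | exact hzu1 h'.symm
          | exact hne.1 h' | exact hne.1 h'.symm
          | exact hne.2.1 h' | exact hne.2.1 h'.symm
          | exact hne.2.2.1 h' | exact hne.2.2.1 h'.symm
          | exact hne.2.2.2 h' | exact hne.2.2.2 h'.symm)
  have h5 := Nat.card_le_card_of_injective f hinj
  rw [Nat.card_fin, E.card_zuQ] at h5
  omega

/-- The outer elements commuting with `z` and `u`. -/
theorem mem_kV {w : P} (hw : w ∉ E.Q) (hwz : Commute w E.z) (hwu : Commute w E.u) :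
    w = E.k ∨ w = E.k * E.z ∨ w = E.k * E.u ∨ w = E.k * E.u * E.z := by
  have hk := invol_mul_self E.ord_k
  have key := E.mem_V (x := E.k * w) (E.toPairCore.mul_out E.kQ hw)
    (E.zk.symm.mul_left hwz) (E.uk.symm.mul_left hwu)
  have e : w = E.k * (E.k * w) := by rw [← mul_assoc, hk, one_mul]
  rcases key with h | h | h | h <;> rw [h] at e
  · exact Or.inl (by rw [e, mul_one])
  · exact Or.inr (Or.inl e)
  · exact Or.inr (Or.inr (Or.inl e))
  · exact Or.inr (Or.inr (Or.inr (by rw [e, mul_assoc])))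

theorem g_uz : E.g * (E.u * E.z) * E.g⁻¹ = E.z := by
  rw [show E.g * (E.u * E.z) * E.g⁻¹ = E.g * E.u * E.g⁻¹ * (E.g * E.z * E.g⁻¹) by group, E.gu, E.gz,
    mul_assoc, E.zu.eq, ← mul_assoc, invol_mul_self E.ord_u, one_mul]

/-- The fusion of `k` by `g`, with the kinds of the pairs. -/
theorem fusion : (IsConj E.k (E.k * E.u) ∨ IsConj E.k (E.k * E.u * E.z) ∨
      (IsConj (E.k * E.z) (E.k * E.u))) ∧
    ((E.nn E.u E.k = 8 ∧ E.nn (E.u * E.z) E.k = 8 ∧
      E.nn E.u (E.k * E.z) = 12 ∧ E.nn (E.u * E.z) (E.k * E.z) = 12) ∨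
    (E.nn E.u E.k = 12 ∧ E.nn (E.u * E.z) E.k = 12 ∧
      E.nn E.u (E.k * E.z) = 8 ∧ E.nn (E.u * E.z) (E.k * E.z) = 8)) := by
  have z2 := invol_mul_self E.ord_z
  have u2 := invol_mul_self E.ord_u
  have hs : E.nn (E.u * E.z) E.k = E.nn E.u E.k := by
    have := E.nn_conj E.s E.u E.k
    rwa [E.su, show E.s * E.k * E.s⁻¹ = E.k by rw [E.sk.eq, mul_inv_cancel_right]] at this
  have hgk : E.g * E.k * E.g⁻¹ = E.k ∨ E.g * E.k * E.g⁻¹ = E.k * E.z ∨
      E.g * E.k * E.g⁻¹ = E.k * E.u ∨ E.g * E.k * E.g⁻¹ = E.k * E.u * E.z := by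
    refine E.mem_kV (fun h => E.kQ ((E.toPairCore.conj_iff _ _).1 h)) ?_ ?_
    · have := commute_conj (E.uk.symm.mul_right E.zk.symm) E.g
      rwa [E.g_uz] at this
    · have := commute_conj E.zk.symm E.g
      rwa [E.gz] at this
  -- images of the other three
  have im : ∀ v : P, E.g * (E.k * v) * E.g⁻¹ = E.g * E.k * E.g⁻¹ * (E.g * v * E.g⁻¹) := fun v => by
    group
  have imz := im E.z
  have imu := im E.u
  have imuz : E.g * (E.k * E.u * E.z) * E.g⁻¹ =
      E.g * E.k * E.g⁻¹ * (E.u * E.z) * E.u := by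
    rw [show E.g * (E.k * E.u * E.z) * E.g⁻¹ =
      E.g * E.k * E.g⁻¹ * (E.g * E.u * E.g⁻¹) * (E.g * E.z * E.g⁻¹) by group, E.gu, E.gz]
  rw [E.gz] at imz
  rw [E.gu] at imu
  have huzu : ∀ p : P, p * (E.u * E.z) * E.u = p * E.z := fun p => by
    rw [mul_assoc p, show E.u * E.z * E.u = E.z by rw [mul_assoc, E.zu.eq, ← mul_assoc, u2, one_mul]]
  rw [huzu] at imuz
  have A : ∀ w : P, E.nn E.u (E.g * w * E.g⁻¹) = E.nn E.z w := fun w => by
    rw [← E.gz, E.nn_conj]
  have B : ∀ w : P, E.nn (E.u * E.z) (E.g * w * E.g⁻¹) = E.nn E.u w := fun w => by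
    rw [← E.gu, E.nn_conj]
  have a0 := A E.k
  have a1 := A (E.k * E.z)
  have a2 := A (E.k * E.u)
  have a3 := A (E.k * E.u * E.z)
  have b0 := B E.k
  have b1 := B (E.k * E.z)
  have b2 := B (E.k * E.u)
  have b3 := B (E.k * E.u * E.z)
  rw [E.nn_z_k] at a0
  rw [E.nn_z_kz] at a1
  rw [E.nn_z_ku] at a2
  rw [E.nn_z_kuz] at a3
  rw [imz] at a1 b1
  rw [imu] at a2 b2
  rw [imuz] at a3 b3
  have c1 : IsConj (E.k * E.z) (E.g * E.k * E.g⁻¹ * E.u) := isConj_iff.2 ⟨E.g, imz⟩
  have c0 : IsConj E.k (E.g * E.k * E.g⁻¹) := isConj_iff.2 ⟨E.g, rfl⟩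
  have r1 : ∀ p : P, p * E.z * E.z = p := fun p => by rw [mul_assoc, z2, mul_one]
  have r2 : ∀ p : P, p * E.u * E.u = p := fun p => by rw [mul_assoc, u2, mul_one]
  have r3 : ∀ p : P, p * E.z * E.u = p * E.u * E.z := fun p => by rw [mul_assoc, E.zu.eq, ← mul_assoc]
  rcases hgk with h | h | h | h <;>
    simp only [h, ← mul_assoc, r1, r2, r3] at a0 a1 a2 a3 b0 b1 b2 b3 c0 c1
  · exact ⟨Or.inr (Or.inr c1), Or.inl ⟨a0, by omega, by omega, by omega⟩⟩
  · exfalso; omega
  · exfalso; omega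
  · exact ⟨Or.inr (Or.inl c0), Or.inr ⟨by omega, by omega, by omega, by omega⟩⟩

end TenData

end CfsgLib.AltTwoCent
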